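/-
INV library (large Ree groups): the Sylow 2-subgroup of `²F₄(q)` in coordinates.
`U σ` is the product `U₁ U₂ ⋯ U₈` of the root groups of the octagon of `(K, σ)`, `σ² = Frobenius`: the element with
coordinates `a1, b2, c2, …` is `x₁(a1) x₂(b2, c2) x₃(a3) x₄(b4, c4) x₅(a5) x₆(b6, c6) x₇(a7) x₈(b8, c8)`.
-/
import Mathlib

set_option autoImplicit false
set_option linter.unusedSimpArgs false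

namespace CL.RF

/-- `σ` is a Tits endomorphism -/
class Tits {K : Type*} [Field K] (σ : K →+* K) : Prop where
  char : CharP K 2
  sq : ∀ t, σ (σ t) = t ^ 2

/-- the unipotent group of the octagon -/
@[ext] structure U {K : Type*} [Field K] (σ : K →+* K) where
  a1 : K
  b2 : K
  c2 : K
  a3 : K
  b4 : K
  c4 : K
  a5 : K
  b6 : K
  c6 : K
  a7 : K
  b8 : K
  c8 : K

namespace U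

variable {K : Type*} [Field K] {σ : K →+* K}

instance : One (U σ) := ⟨⟨0, 0, 0, 0, 0, 0, 0, 0, 0, 0, 0, 0⟩⟩

/-- the product -/
def mul (g h : U σ) : U σ where
  a1 := g.a1 + h.a1
  b2 := g.b2 + h.b2 + h.a1 * g.b8
  c2 := g.c2 + h.c2 + h.a1 * g.b4 + σ h.a1 * g.b6 + σ h.b2 * g.b2 + h.a1 * σ h.a1 * g.c8 + h.a1 * σ h.b2 * g.b8 +
    σ h.a1 * g.b2 * σ g.b8
  a3 := g.a3 + h.a3 + h.b2 * g.b4 + h.c2 * g.b8 + h.a1 * σ g.b6 + σ h.a1 * g.a7 + h.a1 * g.b4 * g.b8 +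
    h.b2 * σ h.b2 * g.b8 + σ h.a1 * h.b2 * g.c8 + h.a1 * σ h.a1 * σ g.c8 + h.a1 * σ h.a1 * g.b8 * g.c8 +
    h.a1 * σ h.a1 * g.b8 ^ 2 * σ g.b8
  b4 := g.b4 + h.b4 + σ h.a1 * g.c8 + σ h.b2 * g.b8
  c4 := g.c4 + h.c4 + h.a1 * g.c6 + h.a3 * g.b6 + h.b2 * g.a5 + h.c2 * g.a7 + σ h.a3 * g.b8 + σ h.b4 * g.b4 +
    σ h.c2 * g.c8 + h.a1 * g.a5 * g.b8 + h.a1 * h.a3 * g.c8 + h.b2 * h.c2 * g.c8 + h.c2 * g.b6 * g.b8 +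
    h.a1 * h.b2 * σ g.a7 + h.a1 * h.c2 * σ g.c8 + h.a3 * h.b2 * σ g.b8 + h.b2 * σ h.b2 * g.a7 + σ h.a1 * g.a7 * g.b6 +
    σ h.a1 * σ h.b4 * g.c8 + σ h.b2 * σ h.b4 * g.b8 + h.a1 ^ 2 * g.b4 * σ g.c8 + h.a1 ^ 2 * σ g.a7 * g.b8 +
    h.b2 ^ 2 * g.b4 * σ g.b8 + h.b2 ^ 2 * σ h.b2 * g.c8 + h.a1 * h.a3 * g.b8 * σ g.b8 + h.a1 * σ h.a1 * g.a7 * g.c8 +
    h.b2 * h.c2 * g.b8 * σ g.b8 + h.b2 * σ h.b2 * g.b6 * g.b8 + σ h.a1 * h.b2 * g.b6 * g.c8 +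
    h.a1 * h.b2 * σ h.b2 * σ g.c8 + h.a1 * σ h.a1 * g.b6 * σ g.c8 + σ h.a1 * h.b2 * g.a7 * σ g.b8 +
    h.a1 * σ h.a1 * h.b2 * g.c8 ^ 2 + h.a1 ^ 2 * σ h.a1 * g.c8 * σ g.c8 + h.b2 ^ 2 * σ h.b2 * g.b8 * σ g.b8 +
    σ h.a1 * h.b2 ^ 2 * σ g.b8 * g.c8 + h.a1 * σ h.a1 * g.b6 * g.b8 * g.c8 + h.a1 ^ 2 * σ h.a1 * g.b8 * g.c8 ^ 2 +
    h.a1 * σ h.a1 * g.a7 * g.b8 * σ g.b8 + h.a1 * σ h.a1 * h.b2 * σ g.b8 * σ g.c8 +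
    h.a1 * σ h.a1 * g.b6 * g.b8 ^ 2 * σ g.b8 + h.a1 ^ 2 * σ h.a1 * g.b8 ^ 3 * σ g.b8 ^ 2 +
    h.a1 ^ 2 * σ h.a1 * g.b8 * σ g.b8 * σ g.c8 + h.a1 * σ h.a1 * h.b2 * g.b8 ^ 2 * σ g.b8 ^ 2
  a5 := g.a5 + h.a5 + h.b4 * g.b6 + h.c2 * g.c8 + h.a1 * σ g.a7 + h.a3 * σ g.b8 + σ h.b2 * g.a7 + h.a1 * h.b4 * g.c8 +
    h.b2 * h.b4 * σ g.b8 + h.c2 * g.b8 * σ g.b8 + σ h.a1 * g.b6 * g.c8 + σ h.b2 * g.b6 * g.b8 +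
    h.a1 * σ h.b2 * σ g.c8 + σ h.a1 * g.a7 * σ g.b8 + h.a1 * σ h.a1 * g.c8 ^ 2 + h.a1 * h.b4 * g.b8 * σ g.b8 +
    h.a1 * σ h.a1 * σ g.b8 * σ g.c8 + h.a1 * σ h.a1 * g.b8 ^ 2 * σ g.b8 ^ 2
  b6 := g.b6 + h.b6 + h.a1 * g.c8 + h.b2 * σ g.b8 + h.a1 * g.b8 * σ g.b8
  c6 := g.c6 + h.c6 + h.a3 * g.c8 + h.a5 * g.b8 + h.b4 * g.a7 + h.b2 * σ g.a7 + h.c2 * σ g.c8 + σ h.b6 * g.b6 +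
    h.b2 * h.b4 * g.c8 + h.c2 * g.b8 * g.c8 + h.a1 * h.b4 * σ g.c8 + h.a1 * σ g.a7 * g.b8 + h.a1 * σ h.b6 * g.c8 +
    σ h.a1 * g.a7 * g.c8 + σ h.b2 * g.a7 * g.b8 + h.b2 * σ h.b2 * σ g.c8 + h.b2 * σ h.b6 * σ g.b8 +
    σ h.a1 * g.b6 * σ g.c8 + h.c2 * g.b8 ^ 2 * σ g.b8 + σ h.a1 * h.b2 * g.c8 ^ 2 + σ h.b2 * g.b6 * g.b8 ^ 2 +
    h.a1 * h.b4 * g.b8 * g.c8 + h.a1 * σ h.b2 * g.b8 * σ g.c8 + h.a1 * σ h.b6 * g.b8 * σ g.b8 +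
    h.a1 * h.b4 * g.b8 ^ 2 * σ g.b8 + h.a1 * σ h.a1 * g.b8 * g.c8 ^ 2 + σ h.a1 * h.b2 * σ g.b8 * σ g.c8 +
    σ h.a1 * g.b6 * g.b8 ^ 2 * σ g.b8 + h.a1 * σ h.a1 * g.b8 ^ 3 * σ g.b8 ^ 2 +
    σ h.a1 * h.b2 * g.b8 ^ 2 * σ g.b8 ^ 2 + h.a1 * σ h.a1 * g.b8 * σ g.b8 * σ g.c8
  a7 := g.a7 + h.a7 + h.b2 * g.c8 + h.b6 * g.b8 + h.a1 * σ g.c8 + h.a1 * g.b8 * g.c8 + h.a1 * g.b8 ^ 2 * σ g.b8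
  b8 := g.b8 + h.b8
  c8 := g.c8 + h.c8 + σ h.b8 * g.b8

/-- the inverse -/
def inv (g : U σ) : U σ where
  a1 := g.a1
  b2 := g.b2 + g.a1 * g.b8
  c2 := g.c2 + g.a1 * g.b4 + g.b2 * σ g.b2 + σ g.a1 * g.b6 + g.a1 * σ g.a1 * g.c8 + g.a1 * σ g.b2 * g.b8 +
    g.a1 * σ g.a1 * g.b8 * σ g.b8
  a3 := g.a3 + g.b2 * g.b4 + g.b8 * g.c2 + g.a1 * σ g.b6 + σ g.a1 * g.a7 + g.a1 * g.b4 * g.b8 + σ g.a1 * g.b2 * g.c8 +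
    σ g.a1 * g.b6 * g.b8 + g.a1 * σ g.a1 * σ g.c8 + g.a1 * σ g.a1 * g.b8 * g.c8 + σ g.a1 * g.b2 * g.b8 * σ g.b8 +
    g.a1 * σ g.a1 * g.b8 ^ 2 * σ g.b8
  b4 := g.b4 + σ g.a1 * g.c8 + σ g.b2 * g.b8 + σ g.a1 * g.b8 * σ g.b8
  c4 := g.c4 + g.a1 * g.c6 + g.a3 * g.b6 + g.a5 * g.b2 + g.a7 * g.c2 + g.b4 * σ g.b4 + σ g.a3 * g.b8 + σ g.c2 * g.c8 +
    g.a1 * g.a3 * g.c8 + g.a1 * g.a7 * g.b4 + g.b2 * g.b4 * g.b6 + g.b2 * g.c2 * g.c8 + g.a1 * g.b6 * σ g.b6 +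
    g.a1 * g.c2 * σ g.c8 + g.a1 * σ g.a7 * g.b2 + g.a3 * g.b2 * σ g.b8 + σ g.a1 * g.a7 * g.b6 +
    g.b8 * σ g.b8 * σ g.c2 + g.a1 ^ 2 * g.b4 * σ g.c8 + g.a1 ^ 2 * σ g.a7 * g.b8 + g.b2 ^ 2 * g.b4 * σ g.b8 +
    g.b2 ^ 2 * σ g.b2 * g.c8 + σ g.a1 * g.b6 ^ 2 * g.b8 + g.a1 * σ g.a1 * g.a7 * g.c8 + σ g.a1 * g.b2 * g.b6 * g.c8 +
    g.a1 * g.b2 * σ g.b6 * σ g.b8 + g.a1 * σ g.a1 * g.b6 * σ g.c8 + σ g.a1 * g.a7 * g.b2 * σ g.b8 +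
    g.a1 * g.b8 ^ 2 * σ g.b8 * g.c2 + g.a1 * σ g.a1 * g.b2 * g.c8 ^ 2 + g.a1 ^ 2 * σ g.a1 * g.c8 * σ g.c8 +
    g.a1 ^ 2 * σ g.b6 * g.b8 * σ g.b8 + g.b2 ^ 2 * σ g.b2 * g.b8 * σ g.b8 + σ g.a1 * g.b2 ^ 2 * σ g.b8 * g.c8 +
    g.a1 ^ 2 * g.b4 * g.b8 ^ 2 * σ g.b8 + g.a1 ^ 2 * σ g.a1 * g.b8 * g.c8 ^ 2 +
    σ g.a1 * g.b2 ^ 2 * g.b8 * σ g.b8 ^ 2 + g.a1 * σ g.a1 * g.b2 * σ g.b8 * σ g.c8 +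
    g.a1 * σ g.a1 * g.b6 * g.b8 ^ 2 * σ g.b8 + g.a1 * σ g.a1 * g.b2 * g.b8 ^ 2 * σ g.b8 ^ 2 +
    g.a1 ^ 2 * σ g.a1 * g.b8 ^ 2 * σ g.b8 * g.c8
  a5 := g.a5 + g.b4 * g.b6 + g.c2 * g.c8 + g.a1 * σ g.a7 + g.a3 * σ g.b8 + g.a7 * σ g.b2 + g.b2 * σ g.b2 * g.c8 +
    σ g.a1 * g.b6 * g.c8 + g.a1 * σ g.b2 * σ g.c8 + g.a1 * σ g.b6 * σ g.b8 + σ g.a1 * g.a7 * σ g.b8 +
    g.a1 * σ g.a1 * g.c8 ^ 2 + g.a1 * σ g.a1 * σ g.b8 * σ g.c8 + g.a1 * σ g.b2 * g.b8 ^ 2 * σ g.b8 +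
    g.a1 * σ g.a1 * g.b8 ^ 2 * σ g.b8 ^ 2
  b6 := g.b6 + g.a1 * g.c8 + g.b2 * σ g.b8
  c6 := g.c6 + g.a3 * g.c8 + g.a5 * g.b8 + g.a7 * g.b4 + g.b6 * σ g.b6 + g.c2 * σ g.c8 + σ g.a7 * g.b2 +
    g.b4 * g.b6 * g.b8 + g.b8 * g.c2 * g.c8 + g.a1 * σ g.a7 * g.b8 + g.a3 * g.b8 * σ g.b8 + g.a7 * σ g.b2 * g.b8 +
    σ g.a1 * g.a7 * g.c8 + g.b2 * σ g.b6 * σ g.b8 + σ g.a1 * g.b6 * σ g.c8 + g.b8 ^ 2 * σ g.b8 * g.c2 +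
    σ g.a1 * g.b2 * g.c8 ^ 2 + g.b2 * σ g.b2 * g.b8 * g.c8 + σ g.a1 * g.b6 * g.b8 * g.c8 +
    g.a1 * σ g.b2 * g.b8 * σ g.c8 + g.a1 * σ g.b6 * g.b8 * σ g.b8 + σ g.a1 * g.a7 * g.b8 * σ g.b8 +
    g.a1 * σ g.a1 * g.b8 * g.c8 ^ 2 + σ g.a1 * g.b2 * σ g.b8 * σ g.c8 + g.a1 * σ g.b2 * g.b8 ^ 3 * σ g.b8 +
    σ g.a1 * g.b6 * g.b8 ^ 2 * σ g.b8 + g.a1 * σ g.a1 * g.b8 ^ 3 * σ g.b8 ^ 2 +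
    σ g.a1 * g.b2 * g.b8 ^ 2 * σ g.b8 ^ 2 + g.a1 * σ g.a1 * g.b8 * σ g.b8 * σ g.c8
  a7 := g.a7 + g.b2 * g.c8 + g.b6 * g.b8 + g.a1 * σ g.c8 + g.a1 * g.b8 * g.c8 + g.b2 * g.b8 * σ g.b8 +
    g.a1 * g.b8 ^ 2 * σ g.b8
  b8 := g.b8
  c8 := g.c8 + g.b8 * σ g.b8

instance : Mul (U σ) := ⟨mul⟩
instance : Inv (U σ) := ⟨inv⟩

@[simp] theorem one_a1 : (1 : U σ).a1 = 0 := rfl
@[simp] theorem one_b2 : (1 : U σ).b2 = 0 := rfl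
@[simp] theorem one_c2 : (1 : U σ).c2 = 0 := rfl
@[simp] theorem one_a3 : (1 : U σ).a3 = 0 := rfl
@[simp] theorem one_b4 : (1 : U σ).b4 = 0 := rfl
@[simp] theorem one_c4 : (1 : U σ).c4 = 0 := rfl
@[simp] theorem one_a5 : (1 : U σ).a5 = 0 := rfl
@[simp] theorem one_b6 : (1 : U σ).b6 = 0 := rfl
@[simp] theorem one_c6 : (1 : U σ).c6 = 0 := rfl
@[simp] theorem one_a7 : (1 : U σ).a7 = 0 := rfl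
@[simp] theorem one_b8 : (1 : U σ).b8 = 0 := rfl
@[simp] theorem one_c8 : (1 : U σ).c8 = 0 := rfl

variable (g h : U σ)

theorem mul_a1 : (g * h).a1 = g.a1 + h.a1 := rfl
theorem mul_b2 : (g * h).b2 = g.b2 + h.b2 + h.a1 * g.b8 := rfl
theorem mul_c2 : (g * h).c2 = g.c2 + h.c2 + h.a1 * g.b4 + σ h.a1 * g.b6 + σ h.b2 * g.b2 + h.a1 * σ h.a1 * g.c8 +
    h.a1 * σ h.b2 * g.b8 + σ h.a1 * g.b2 * σ g.b8 := rfl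
theorem mul_a3 : (g * h).a3 = g.a3 + h.a3 + h.b2 * g.b4 + h.c2 * g.b8 + h.a1 * σ g.b6 + σ h.a1 * g.a7 +
    h.a1 * g.b4 * g.b8 + h.b2 * σ h.b2 * g.b8 + σ h.a1 * h.b2 * g.c8 + h.a1 * σ h.a1 * σ g.c8 +
    h.a1 * σ h.a1 * g.b8 * g.c8 + h.a1 * σ h.a1 * g.b8 ^ 2 * σ g.b8 := rfl
theorem mul_b4 : (g * h).b4 = g.b4 + h.b4 + σ h.a1 * g.c8 + σ h.b2 * g.b8 := rfl
theorem mul_c4 : (g * h).c4 = g.c4 + h.c4 + h.a1 * g.c6 + h.a3 * g.b6 + h.b2 * g.a5 + h.c2 * g.a7 + σ h.a3 * g.b8 +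
    σ h.b4 * g.b4 + σ h.c2 * g.c8 + h.a1 * g.a5 * g.b8 + h.a1 * h.a3 * g.c8 + h.b2 * h.c2 * g.c8 +
    h.c2 * g.b6 * g.b8 + h.a1 * h.b2 * σ g.a7 + h.a1 * h.c2 * σ g.c8 + h.a3 * h.b2 * σ g.b8 + h.b2 * σ h.b2 * g.a7 +
    σ h.a1 * g.a7 * g.b6 + σ h.a1 * σ h.b4 * g.c8 + σ h.b2 * σ h.b4 * g.b8 + h.a1 ^ 2 * g.b4 * σ g.c8 +
    h.a1 ^ 2 * σ g.a7 * g.b8 + h.b2 ^ 2 * g.b4 * σ g.b8 + h.b2 ^ 2 * σ h.b2 * g.c8 + h.a1 * h.a3 * g.b8 * σ g.b8 +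
    h.a1 * σ h.a1 * g.a7 * g.c8 + h.b2 * h.c2 * g.b8 * σ g.b8 + h.b2 * σ h.b2 * g.b6 * g.b8 +
    σ h.a1 * h.b2 * g.b6 * g.c8 + h.a1 * h.b2 * σ h.b2 * σ g.c8 + h.a1 * σ h.a1 * g.b6 * σ g.c8 +
    σ h.a1 * h.b2 * g.a7 * σ g.b8 + h.a1 * σ h.a1 * h.b2 * g.c8 ^ 2 + h.a1 ^ 2 * σ h.a1 * g.c8 * σ g.c8 +
    h.b2 ^ 2 * σ h.b2 * g.b8 * σ g.b8 + σ h.a1 * h.b2 ^ 2 * σ g.b8 * g.c8 + h.a1 * σ h.a1 * g.b6 * g.b8 * g.c8 +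
    h.a1 ^ 2 * σ h.a1 * g.b8 * g.c8 ^ 2 + h.a1 * σ h.a1 * g.a7 * g.b8 * σ g.b8 +
    h.a1 * σ h.a1 * h.b2 * σ g.b8 * σ g.c8 + h.a1 * σ h.a1 * g.b6 * g.b8 ^ 2 * σ g.b8 +
    h.a1 ^ 2 * σ h.a1 * g.b8 ^ 3 * σ g.b8 ^ 2 + h.a1 ^ 2 * σ h.a1 * g.b8 * σ g.b8 * σ g.c8 +
    h.a1 * σ h.a1 * h.b2 * g.b8 ^ 2 * σ g.b8 ^ 2 := rfl
theorem mul_a5 : (g * h).a5 = g.a5 + h.a5 + h.b4 * g.b6 + h.c2 * g.c8 + h.a1 * σ g.a7 + h.a3 * σ g.b8 +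
    σ h.b2 * g.a7 + h.a1 * h.b4 * g.c8 + h.b2 * h.b4 * σ g.b8 + h.c2 * g.b8 * σ g.b8 + σ h.a1 * g.b6 * g.c8 +
    σ h.b2 * g.b6 * g.b8 + h.a1 * σ h.b2 * σ g.c8 + σ h.a1 * g.a7 * σ g.b8 + h.a1 * σ h.a1 * g.c8 ^ 2 +
    h.a1 * h.b4 * g.b8 * σ g.b8 + h.a1 * σ h.a1 * σ g.b8 * σ g.c8 + h.a1 * σ h.a1 * g.b8 ^ 2 * σ g.b8 ^ 2 := rfl
theorem mul_b6 : (g * h).b6 = g.b6 + h.b6 + h.a1 * g.c8 + h.b2 * σ g.b8 + h.a1 * g.b8 * σ g.b8 := rfl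
theorem mul_c6 : (g * h).c6 = g.c6 + h.c6 + h.a3 * g.c8 + h.a5 * g.b8 + h.b4 * g.a7 + h.b2 * σ g.a7 + h.c2 * σ g.c8 +
    σ h.b6 * g.b6 + h.b2 * h.b4 * g.c8 + h.c2 * g.b8 * g.c8 + h.a1 * h.b4 * σ g.c8 + h.a1 * σ g.a7 * g.b8 +
    h.a1 * σ h.b6 * g.c8 + σ h.a1 * g.a7 * g.c8 + σ h.b2 * g.a7 * g.b8 + h.b2 * σ h.b2 * σ g.c8 +
    h.b2 * σ h.b6 * σ g.b8 + σ h.a1 * g.b6 * σ g.c8 + h.c2 * g.b8 ^ 2 * σ g.b8 + σ h.a1 * h.b2 * g.c8 ^ 2 +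
    σ h.b2 * g.b6 * g.b8 ^ 2 + h.a1 * h.b4 * g.b8 * g.c8 + h.a1 * σ h.b2 * g.b8 * σ g.c8 +
    h.a1 * σ h.b6 * g.b8 * σ g.b8 + h.a1 * h.b4 * g.b8 ^ 2 * σ g.b8 + h.a1 * σ h.a1 * g.b8 * g.c8 ^ 2 +
    σ h.a1 * h.b2 * σ g.b8 * σ g.c8 + σ h.a1 * g.b6 * g.b8 ^ 2 * σ g.b8 + h.a1 * σ h.a1 * g.b8 ^ 3 * σ g.b8 ^ 2 +
    σ h.a1 * h.b2 * g.b8 ^ 2 * σ g.b8 ^ 2 + h.a1 * σ h.a1 * g.b8 * σ g.b8 * σ g.c8 := rfl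
theorem mul_a7 : (g * h).a7 = g.a7 + h.a7 + h.b2 * g.c8 + h.b6 * g.b8 + h.a1 * σ g.c8 + h.a1 * g.b8 * g.c8 +
    h.a1 * g.b8 ^ 2 * σ g.b8 := rfl
theorem mul_b8 : (g * h).b8 = g.b8 + h.b8 := rfl
theorem mul_c8 : (g * h).c8 = g.c8 + h.c8 + σ h.b8 * g.b8 := rfl

theorem inv_a1 : g⁻¹.a1 = g.a1 := rfl
theorem inv_b2 : g⁻¹.b2 = g.b2 + g.a1 * g.b8 := rfl
theorem inv_c2 : g⁻¹.c2 = g.c2 + g.a1 * g.b4 + g.b2 * σ g.b2 + σ g.a1 * g.b6 + g.a1 * σ g.a1 * g.c8 +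
    g.a1 * σ g.b2 * g.b8 + g.a1 * σ g.a1 * g.b8 * σ g.b8 := rfl
theorem inv_a3 : g⁻¹.a3 = g.a3 + g.b2 * g.b4 + g.b8 * g.c2 + g.a1 * σ g.b6 + σ g.a1 * g.a7 + g.a1 * g.b4 * g.b8 +
    σ g.a1 * g.b2 * g.c8 + σ g.a1 * g.b6 * g.b8 + g.a1 * σ g.a1 * σ g.c8 + g.a1 * σ g.a1 * g.b8 * g.c8 +
    σ g.a1 * g.b2 * g.b8 * σ g.b8 + g.a1 * σ g.a1 * g.b8 ^ 2 * σ g.b8 := rfl
theorem inv_b4 : g⁻¹.b4 = g.b4 + σ g.a1 * g.c8 + σ g.b2 * g.b8 + σ g.a1 * g.b8 * σ g.b8 := rfl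
theorem inv_c4 : g⁻¹.c4 = g.c4 + g.a1 * g.c6 + g.a3 * g.b6 + g.a5 * g.b2 + g.a7 * g.c2 + g.b4 * σ g.b4 +
    σ g.a3 * g.b8 + σ g.c2 * g.c8 + g.a1 * g.a3 * g.c8 + g.a1 * g.a7 * g.b4 + g.b2 * g.b4 * g.b6 +
    g.b2 * g.c2 * g.c8 + g.a1 * g.b6 * σ g.b6 + g.a1 * g.c2 * σ g.c8 + g.a1 * σ g.a7 * g.b2 + g.a3 * g.b2 * σ g.b8 +
    σ g.a1 * g.a7 * g.b6 + g.b8 * σ g.b8 * σ g.c2 + g.a1 ^ 2 * g.b4 * σ g.c8 + g.a1 ^ 2 * σ g.a7 * g.b8 +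
    g.b2 ^ 2 * g.b4 * σ g.b8 + g.b2 ^ 2 * σ g.b2 * g.c8 + σ g.a1 * g.b6 ^ 2 * g.b8 + g.a1 * σ g.a1 * g.a7 * g.c8 +
    σ g.a1 * g.b2 * g.b6 * g.c8 + g.a1 * g.b2 * σ g.b6 * σ g.b8 + g.a1 * σ g.a1 * g.b6 * σ g.c8 +
    σ g.a1 * g.a7 * g.b2 * σ g.b8 + g.a1 * g.b8 ^ 2 * σ g.b8 * g.c2 + g.a1 * σ g.a1 * g.b2 * g.c8 ^ 2 +
    g.a1 ^ 2 * σ g.a1 * g.c8 * σ g.c8 + g.a1 ^ 2 * σ g.b6 * g.b8 * σ g.b8 + g.b2 ^ 2 * σ g.b2 * g.b8 * σ g.b8 +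
    σ g.a1 * g.b2 ^ 2 * σ g.b8 * g.c8 + g.a1 ^ 2 * g.b4 * g.b8 ^ 2 * σ g.b8 + g.a1 ^ 2 * σ g.a1 * g.b8 * g.c8 ^ 2 +
    σ g.a1 * g.b2 ^ 2 * g.b8 * σ g.b8 ^ 2 + g.a1 * σ g.a1 * g.b2 * σ g.b8 * σ g.c8 +
    g.a1 * σ g.a1 * g.b6 * g.b8 ^ 2 * σ g.b8 + g.a1 * σ g.a1 * g.b2 * g.b8 ^ 2 * σ g.b8 ^ 2 +
    g.a1 ^ 2 * σ g.a1 * g.b8 ^ 2 * σ g.b8 * g.c8 := rfl
theorem inv_a5 : g⁻¹.a5 = g.a5 + g.b4 * g.b6 + g.c2 * g.c8 + g.a1 * σ g.a7 + g.a3 * σ g.b8 + g.a7 * σ g.b2 +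
    g.b2 * σ g.b2 * g.c8 + σ g.a1 * g.b6 * g.c8 + g.a1 * σ g.b2 * σ g.c8 + g.a1 * σ g.b6 * σ g.b8 +
    σ g.a1 * g.a7 * σ g.b8 + g.a1 * σ g.a1 * g.c8 ^ 2 + g.a1 * σ g.a1 * σ g.b8 * σ g.c8 +
    g.a1 * σ g.b2 * g.b8 ^ 2 * σ g.b8 + g.a1 * σ g.a1 * g.b8 ^ 2 * σ g.b8 ^ 2 := rfl
theorem inv_b6 : g⁻¹.b6 = g.b6 + g.a1 * g.c8 + g.b2 * σ g.b8 := rfl
theorem inv_c6 : g⁻¹.c6 = g.c6 + g.a3 * g.c8 + g.a5 * g.b8 + g.a7 * g.b4 + g.b6 * σ g.b6 + g.c2 * σ g.c8 +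
    σ g.a7 * g.b2 + g.b4 * g.b6 * g.b8 + g.b8 * g.c2 * g.c8 + g.a1 * σ g.a7 * g.b8 + g.a3 * g.b8 * σ g.b8 +
    g.a7 * σ g.b2 * g.b8 + σ g.a1 * g.a7 * g.c8 + g.b2 * σ g.b6 * σ g.b8 + σ g.a1 * g.b6 * σ g.c8 +
    g.b8 ^ 2 * σ g.b8 * g.c2 + σ g.a1 * g.b2 * g.c8 ^ 2 + g.b2 * σ g.b2 * g.b8 * g.c8 + σ g.a1 * g.b6 * g.b8 * g.c8 +
    g.a1 * σ g.b2 * g.b8 * σ g.c8 + g.a1 * σ g.b6 * g.b8 * σ g.b8 + σ g.a1 * g.a7 * g.b8 * σ g.b8 +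
    g.a1 * σ g.a1 * g.b8 * g.c8 ^ 2 + σ g.a1 * g.b2 * σ g.b8 * σ g.c8 + g.a1 * σ g.b2 * g.b8 ^ 3 * σ g.b8 +
    σ g.a1 * g.b6 * g.b8 ^ 2 * σ g.b8 + g.a1 * σ g.a1 * g.b8 ^ 3 * σ g.b8 ^ 2 +
    σ g.a1 * g.b2 * g.b8 ^ 2 * σ g.b8 ^ 2 + g.a1 * σ g.a1 * g.b8 * σ g.b8 * σ g.c8 := rfl
theorem inv_a7 : g⁻¹.a7 = g.a7 + g.b2 * g.c8 + g.b6 * g.b8 + g.a1 * σ g.c8 + g.a1 * g.b8 * g.c8 +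
    g.b2 * g.b8 * σ g.b8 + g.a1 * g.b8 ^ 2 * σ g.b8 := rfl
theorem inv_b8 : g⁻¹.b8 = g.b8 := rfl
theorem inv_c8 : g⁻¹.c8 = g.c8 + g.b8 * σ g.b8 := rfl

variable [T : Tits σ]

theorem assoc_a1 (k : U σ) : (g * h * k).a1 = (g * (h * k)).a1 := by
  have := T.char
  simp only [mul_a1, mul_b2, mul_c2, mul_a3, mul_b4, mul_c4, mul_a5, mul_b6, mul_c6, mul_a7, mul_b8, mul_c8, map_add, map_mul, map_pow, T.sq]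
  grind

theorem assoc_b2 (k : U σ) : (g * h * k).b2 = (g * (h * k)).b2 := by
  have := T.char
  simp only [mul_a1, mul_b2, mul_c2, mul_a3, mul_b4, mul_c4, mul_a5, mul_b6, mul_c6, mul_a7, mul_b8, mul_c8, map_add, map_mul, map_pow, T.sq]
  grind

theorem assoc_c2 (k : U σ) : (g * h * k).c2 = (g * (h * k)).c2 := by
  have := T.char
  simp only [mul_a1, mul_b2, mul_c2, mul_a3, mul_b4, mul_c4, mul_a5, mul_b6, mul_c6, mul_a7, mul_b8, mul_c8, map_add, map_mul, map_pow, T.sq]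
  grind

theorem assoc_a3 (k : U σ) : (g * h * k).a3 = (g * (h * k)).a3 := by
  have := T.char
  simp only [mul_a1, mul_b2, mul_c2, mul_a3, mul_b4, mul_c4, mul_a5, mul_b6, mul_c6, mul_a7, mul_b8, mul_c8, map_add, map_mul, map_pow, T.sq]
  grind

theorem assoc_b4 (k : U σ) : (g * h * k).b4 = (g * (h * k)).b4 := by
  have := T.char
  simp only [mul_a1, mul_b2, mul_c2, mul_a3, mul_b4, mul_c4, mul_a5, mul_b6, mul_c6, mul_a7, mul_b8, mul_c8, map_add, map_mul, map_pow, T.sq]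
  grind

theorem assoc_c4 (k : U σ) : (g * h * k).c4 = (g * (h * k)).c4 := by
  have := T.char
  simp only [mul_a1, mul_b2, mul_c2, mul_a3, mul_b4, mul_c4, mul_a5, mul_b6, mul_c6, mul_a7, mul_b8, mul_c8, map_add, map_mul, map_pow, T.sq]
  grind

theorem assoc_a5 (k : U σ) : (g * h * k).a5 = (g * (h * k)).a5 := by
  have := T.char
  simp only [mul_a1, mul_b2, mul_c2, mul_a3, mul_b4, mul_c4, mul_a5, mul_b6, mul_c6, mul_a7, mul_b8, mul_c8, map_add, map_mul, map_pow, T.sq]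
  grind

theorem assoc_b6 (k : U σ) : (g * h * k).b6 = (g * (h * k)).b6 := by
  have := T.char
  simp only [mul_a1, mul_b2, mul_c2, mul_a3, mul_b4, mul_c4, mul_a5, mul_b6, mul_c6, mul_a7, mul_b8, mul_c8, map_add, map_mul, map_pow, T.sq]
  grind

theorem assoc_c6 (k : U σ) : (g * h * k).c6 = (g * (h * k)).c6 := by
  have := T.char
  simp only [mul_a1, mul_b2, mul_c2, mul_a3, mul_b4, mul_c4, mul_a5, mul_b6, mul_c6, mul_a7, mul_b8, mul_c8, map_add, map_mul, map_pow, T.sq]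
  grind

theorem assoc_a7 (k : U σ) : (g * h * k).a7 = (g * (h * k)).a7 := by
  have := T.char
  simp only [mul_a1, mul_b2, mul_c2, mul_a3, mul_b4, mul_c4, mul_a5, mul_b6, mul_c6, mul_a7, mul_b8, mul_c8, map_add, map_mul, map_pow, T.sq]
  grind

theorem assoc_b8 (k : U σ) : (g * h * k).b8 = (g * (h * k)).b8 := by
  have := T.char
  simp only [mul_a1, mul_b2, mul_c2, mul_a3, mul_b4, mul_c4, mul_a5, mul_b6, mul_c6, mul_a7, mul_b8, mul_c8, map_add, map_mul, map_pow, T.sq]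
  grind

theorem assoc_c8 (k : U σ) : (g * h * k).c8 = (g * (h * k)).c8 := by
  have := T.char
  simp only [mul_a1, mul_b2, mul_c2, mul_a3, mul_b4, mul_c4, mul_a5, mul_b6, mul_c6, mul_a7, mul_b8, mul_c8, map_add, map_mul, map_pow, T.sq]
  grind

theorem inv_mul' : g⁻¹ * g = 1 := by
  have := T.char
  ext <;> simp only [mul_a1, mul_b2, mul_c2, mul_a3, mul_b4, mul_c4, mul_a5, mul_b6, mul_c6, mul_a7, mul_b8, mul_c8, inv_a1, inv_b2, inv_c2, inv_a3, inv_b4, inv_c4, inv_a5, inv_b6, inv_c6, inv_a7, inv_b8, inv_c8, one_a1, one_b2, one_c2, one_a3, one_b4, one_c4, one_a5, one_b6, one_c6, one_a7, one_b8, one_c8, map_add, map_mul, map_pow, T.sq] <;> grind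

instance : Group (U σ) := Group.ofLeftAxioms
  (fun g h k => U.ext (assoc_a1 g h k) (assoc_b2 g h k) (assoc_c2 g h k) (assoc_a3 g h k) (assoc_b4 g h k) (assoc_c4 g h k) (assoc_a5 g h k) (assoc_b6 g h k) (assoc_c6 g h k) (assoc_a7 g h k) (assoc_b8 g h k) (assoc_c8 g h k))
  (fun g => by ext <;> simp [mul_a1, mul_b2, mul_c2, mul_a3, mul_b4, mul_c4, mul_a5, mul_b6, mul_c6, mul_a7, mul_b8, mul_c8]) fun g => inv_mul' g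

end U

end CL.RF
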