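/-
INV library (large Ree groups, Parrott's theorem S3217/S3263): the interface.
`PC` : the centraliser `C = Q : Sz(q)` of a 2-central involution of `²F₄(q)`, by generators and relations, inside a group `G`;
`P8` : `PC` and the second torus; `P81` : and the reflection `n₁`; `OS` : and the braid relation (the whole group).
-/
import Cfsg.Agent.INV.RF.U2
import Cfsg.Prelude.Def_CaseTheorems

set_option autoImplicit false
set_option linter.unusedSimpArgs false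
set_option linter.unusedSectionVars false

namespace CL.RF

variable {K : Type*} [Field K] {σ : K →+* K} [T : Tits σ]

namespace U

/-- `Q' = U₂ ⋯ U₈` -/
def Q' : Subgroup (U σ) where
  carrier := {g | g.a1 = 0}
  mul_mem' {a b} ha hb := by simp only [Set.mem_ofPred_eq] at *; usimp; simp [*]
  one_mem' := rfl
  inv_mem' {a} ha := ha

/-- `Q = U₁ ⋯ U₇` -/
def Q : Subgroup (U σ) where
  carrier := {g | g.b8 = 0 ∧ g.c8 = 0}
  mul_mem' {a b} ha hb := by simp only [Set.mem_ofPred_eq] at *; usimp; simp [*]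
  one_mem' := ⟨rfl, rfl⟩
  inv_mem' {a} ha := by simp only [Set.mem_ofPred_eq] at *; usimp; simp [*]

/-- `Z = V₄`, the centre -/
def Z : Subgroup (U σ) where
  carrier := {g | ∃ c, g = y4 0 c}
  mul_mem' := by rintro _ _ ⟨a, rfl⟩ ⟨b, rfl⟩; exact ⟨a + b, by usimp⟩
  one_mem' := ⟨0, rfl⟩
  inv_mem' := by rintro _ ⟨a, rfl⟩; exact ⟨a, by usimp⟩

/-- the element `v₄(c) v₆(a)` of the second centre -/
@[simps] def vv (c a : K) : U σ := ⟨0, 0, 0, 0, 0, c, 0, 0, a, 0, 0, 0⟩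

/-- `V = V₄ V₆`, the second centre -/
def V : Subgroup (U σ) where
  carrier := {g | ∃ c a, g = vv c a}
  mul_mem' := by rintro _ _ ⟨a, b, rfl⟩ ⟨c, d, rfl⟩; exact ⟨a + c, b + d, by simp only [vv]; usimp⟩
  one_mem' := ⟨0, 0, rfl⟩
  inv_mem' := by rintro _ ⟨a, b, rfl⟩; exact ⟨a, b, by simp only [vv]; usimp⟩

theorem mem_Q' {g : U σ} : g ∈ Q' ↔ g.a1 = 0 := Iff.rfl
theorem mem_Q {g : U σ} : g ∈ Q ↔ g.b8 = 0 ∧ g.c8 = 0 := Iff.rfl
theorem mem_Z {g : U σ} : g ∈ Z ↔ ∃ c, g = y4 0 c := Iff.rfl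
theorem mem_V {g : U σ} : g ∈ V ↔ ∃ c a, g = vv c a := Iff.rfl
theorem vv_zero (c : K) : (vv c 0 : U σ) = y4 0 c := rfl
theorem zero_vv (a : K) : (vv 0 a : U σ) = y6 0 a := rfl

end U

/-- `usimp` after unfolding `vv` -/
scoped macro "vsimp" loc:(Lean.Parser.Tactic.location)? : tactic =>
  `(tactic| ((try simp only [U.vv] $[$loc]?); usimp $[$loc]?))

open U

/-- `σ` on units -/
def σu (σ : K →+* K) : Kˣ →* Kˣ := Units.map σ.toMonoidHom

@[simp] theorem σu_val (s : Kˣ) : (σu σ s : K) = σ s := rfl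

/-- witnesses for the rank one relation of the Suzuki group -/
abbrev R8 (K : Type*) [Field K] := K × K → (K × K) × Kˣ × (K × K)

/-- the group `C = Q : Sz(q)` -/
structure PC (σ : K →+* K) [Tits σ] (r : R8 K) (G : Type*) [Group G] where
  u : U σ →* G
  h1 : Kˣ →* G
  n8 : G
  inj : Function.Injective u
  h1u : ∀ n g, h1 n * u g * (h1 n)⁻¹ = u (tor (n, 1) g)
  n8n8 : n8 * n8 = 1
  n8u : ∀ g, g.b8 = 0 → g.c8 = 0 → n8 * u g * n8 = u (w8 g)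
  n8h1 : ∀ n, n8 * h1 n * n8 = h1 n⁻¹
  r8 : ∀ p : K × K, p ≠ 0 → n8 * u (y8 p.1 p.2) * n8 =
    u (y8 (r p).1.1 (r p).1.2) * h1 (r p).2.1 * n8 * u (y8 (r p).2.2.1 (r p).2.2.2)

/-- the parabolic subgroup `N(Z) = C : (q - 1)` -/
structure P8 (σ : K →+* K) [Tits σ] (r : R8 K) (G : Type*) [Group G] extends PC σ r G where
  h2 : Kˣ →* G
  h12 : ∀ n s, h1 n * h2 s = h2 s * h1 n
  h2u : ∀ s g, h2 s * u g * (h2 s)⁻¹ = u (tor (1, s) g)
  n8h2 : ∀ s, n8 * h2 s * n8 = h1 (σu σ s) * h2 s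

/-- the two parabolic subgroups -/
structure P81 (σ : K →+* K) [Tits σ] (r : R8 K) (G : Type*) [Group G] extends P8 σ r G where
  n1 : G
  n1n1 : n1 * n1 = 1
  n1u : ∀ g, g.a1 = 0 → n1 * u g * n1 = u (w1 g)
  n1h1 : ∀ n, n1 * h1 n * n1 = h1 n * h2 (n * σu σ n)
  n1h2 : ∀ s, n1 * h2 s * n1 = h2 s⁻¹
  r1 : ∀ t : Kˣ, n1 * u (x1 t) * n1 = u (x1 (t⁻¹ : Kˣ)) * h2 t⁻¹ * n1 * u (x1 (t⁻¹ : Kˣ))

/-- the group `²F₄(q)` -/
structure OS (σ : K →+* K) [Tits σ] (r : R8 K) (G : Type*) [Group G] extends P81 σ r G where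
  braid : (n1 * n8) ^ 8 = 1

variable {r : R8 K} {G : Type*} [Group G]

/-- `O^{2'}(C_G(t))` -/
def Cp (t : G) : Subgroup G := Subgroup.closure {x | x * t = t * x ∧ ∃ k, x ^ 2 ^ k = 1}

namespace PC

variable (P : PC σ r G)

/-- the Sylow 2-subgroup -/
def S : Subgroup G := P.u.range
/-- the Borel subgroup of `C` -/
def B1 : Subgroup G := P.S ⊔ P.h1.range
/-- the group `C` -/
def C : Subgroup G := P.S ⊔ P.h1.range ⊔ Subgroup.zpowers P.n8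
def Q : Subgroup G := U.Q.map P.u
def Q' : Subgroup G := U.Q'.map P.u
def Z : Subgroup G := U.Z.map P.u
def V : Subgroup G := U.V.map P.u
/-- the 2-central involution -/
def τ : G := P.u (y4 0 1)

/-- The hypothesis of the theorem. `aut`: the second torus of the model acts on `C`. -/
structure Hyp : Prop where
  odd : Odd P.S.index
  norm : ∀ g, g * P.τ = P.τ * g → g ∈ Subgroup.normalizer (P.C : Set G)
  core : Cfsg.oddCore (Subgroup.centralizer ({P.τ} : Set G)) = ⊥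
  aut : ∃ A : Kˣ →* MulAut P.C, (∀ s g (x : P.C), x = P.u g → A s x = P.u (tor (1, s) g)) ∧
    (∀ s n (x : P.C), x = P.h1 n → A s x = x) ∧ ∀ s (x : P.C), x = P.n8 → A s x = (P.h1 (σu σ s))⁻¹ * P.n8

/-- `Z` is not weakly closed -/
def Pair : Prop := ∃ g : G, g * P.τ * g⁻¹ * P.τ = P.τ * (g * P.τ * g⁻¹) ∧ g * P.τ * g⁻¹ ∉ P.Z

/-- the result of the fusion analysis: an element of `N(Q')` maps `V₄` to `V₆` -/
def Out : Prop := ∃ g ∈ Subgroup.normalizer (P.Q' : Set G), g * P.τ * g⁻¹ = P.u (y6 0 1) ∧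
  ∀ c, ∃ a, g * P.u (y4 0 c) * g⁻¹ = P.u (y6 0 a)

/-- transport along an injective homomorphism -/
@[simps] def map {G' : Type*} [Group G'] (f : G →* G') (hf : Function.Injective f) : PC σ r G' where
  u := f.comp P.u
  h1 := f.comp P.h1
  n8 := f P.n8
  inj := hf.comp P.inj
  h1u n g := by simpa using congrArg f (P.h1u n g)
  n8n8 := by simpa using congrArg f P.n8n8
  n8u g h h' := by simpa using congrArg f (P.n8u g h h')
  n8h1 n := by simpa using congrArg f (P.n8h1 n)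
  r8 p h := by simpa using congrArg f (P.r8 p h)

theorem u_mem_S (g : U σ) : P.u g ∈ P.S := ⟨g, rfl⟩
theorem S_le_B1 : P.S ≤ P.B1 := le_sup_left
theorem B1_le_C : P.B1 ≤ P.C := le_sup_left
theorem S_le_C : P.S ≤ P.C := P.S_le_B1.trans P.B1_le_C
theorem u_mem_C (g : U σ) : P.u g ∈ P.C := P.S_le_C (P.u_mem_S g)
theorem h1_mem_B1 (n : Kˣ) : P.h1 n ∈ P.B1 := Subgroup.mem_sup_right ⟨n, rfl⟩
theorem h1_mem_C (n : Kˣ) : P.h1 n ∈ P.C := P.B1_le_C (P.h1_mem_B1 n)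
theorem n8_mem_C : P.n8 ∈ P.C := Subgroup.mem_sup_right (Subgroup.mem_zpowers _)
theorem n8_inv : P.n8⁻¹ = P.n8 := inv_eq_of_mul_eq_one_right P.n8n8

theorem C_le {M : Subgroup G} (h1 : ∀ g, P.u g ∈ M) (h2 : ∀ n, P.h1 n ∈ M) (h3 : P.n8 ∈ M) : P.C ≤ M :=
  sup_le (sup_le (fun _ ⟨g, e⟩ => e ▸ h1 g) fun _ ⟨n, e⟩ => e ▸ h2 n) (Subgroup.zpowers_le.2 h3)

variable {P}

theorem u_mem_map {H : Subgroup (U σ)} {g : U σ} : P.u g ∈ H.map P.u ↔ g ∈ H := Subgroup.mem_map_iff_mem P.inj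
theorem u_mem_Q {g : U σ} : P.u g ∈ P.Q ↔ g.b8 = 0 ∧ g.c8 = 0 := u_mem_map
theorem u_mem_Q' {g : U σ} : P.u g ∈ P.Q' ↔ g.a1 = 0 := u_mem_map
theorem mem_Q {x : G} : x ∈ P.Q ↔ ∃ g, (g.b8 = 0 ∧ g.c8 = 0) ∧ P.u g = x := Iff.rfl
theorem mem_Q' {x : G} : x ∈ P.Q' ↔ ∃ g, g.a1 = 0 ∧ P.u g = x := Iff.rfl
theorem mem_Z {x : G} : x ∈ P.Z ↔ ∃ c, x = P.u (y4 0 c) :=
  ⟨fun ⟨_, ⟨c, e⟩, e'⟩ => ⟨c, by rw [← e', e]⟩, fun ⟨c, e⟩ => ⟨_, ⟨c, rfl⟩, e.symm⟩⟩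
theorem mem_V {x : G} : x ∈ P.V ↔ ∃ c a, x = P.u (vv c a) :=
  ⟨fun ⟨_, ⟨c, a, e⟩, e'⟩ => ⟨c, a, by rw [← e', e]⟩, fun ⟨c, a, e⟩ => ⟨_, ⟨c, a, rfl⟩, e.symm⟩⟩

end PC

namespace P8

variable (P : P8 σ r G)

/-- the torus -/
def h : Kˣ × Kˣ →* G := P.h1.noncommCoprod P.h2 fun n s => P.h12 n s

theorem h_apply (t : Kˣ × Kˣ) : P.h t = P.h1 t.1 * P.h2 t.2 := rfl

theorem hu (t : Kˣ × Kˣ) (g : U σ) : P.h t * P.u g * (P.h t)⁻¹ = P.u (tor t g) := by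
  rw [show t = (t.1, 1) * (1, t.2) by simp, map_mul tor, MulAut.mul_apply, ← P.h1u, ← P.h2u]
  simp only [h_apply, Prod.mk_mul_mk, mul_one, one_mul, mul_inv_rev, mul_assoc]

/-- the torus as a subgroup -/
def H : Subgroup G := P.h.range
/-- the Borel subgroup -/
def B : Subgroup G := P.S ⊔ P.H

end P8

/-- the group generated by the two parabolic subgroups -/
def P81.grp (P : P81 σ r G) : Subgroup G := P.C ⊔ P.h2.range ⊔ Subgroup.zpowers P.n1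

end CL.RF
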