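/-
INV library (large Ree groups): the field `(K, σ)` and the group `U σ`.
-/
import Cfsg.Agent.INV.RF.Defs
import Cfsg.Agent.PLOC.PFrattini

set_option autoImplicit false
set_option linter.unusedSimpArgs false
set_option linter.unusedSectionVars false

namespace CL.RF

open U
open scoped commutatorElement

variable {K : Type*} [Field K] {σ : K →+* K} [T : Tits σ]

namespace Tits

variable (σ)
include T

theorem norm_eq_zero {b : K} (h : b * σ b = 0) : b = 0 := by
  rcases mul_eq_zero.1 h with h | h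
  exacts [h, (map_eq_zero σ).1 h]

theorem norm_inj {a b : K} (h : a * σ a = b * σ b) : a = b := by
  rcases eq_or_ne a 0 with rfl | ha
  · exact (norm_eq_zero σ (by simpa using h.symm)).symm
  have h1 := congrArg σ h
  simp only [map_mul, T.sq] at h1
  have h2 : a * σ a ≠ 0 := fun e => ha (norm_eq_zero σ e)
  refine mul_right_cancel₀ h2 ?_
  rw [h]; nth_rewrite 1 [← h]
  linear_combination h1

theorem norm_surj (c : K) : ∃ b, b * σ b = c := by
  rcases eq_or_ne c 0 with rfl | hc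
  · exact ⟨0, by simp⟩
  have h2 := (map_ne_zero σ).2 hc
  exact ⟨σ c / c, by simp only [map_div₀, T.sq]; field_simp⟩

theorem eq_of_fix {t : K} (h : σ t = t) : t = 0 ∨ t = 1 := by
  have h1 := T.sq t
  rw [h, h] at h1
  grind

theorem no_cube {t : K} (h : t ^ 2 + t + 1 = 0) : False := by
  have := T.char
  have h1 := congrArg σ h
  simp only [map_add, map_pow, map_one, map_zero] at h1
  have h2 : (σ t + t) * (σ t + t + 1) = 0 := by grind
  have h3 := T.sq t
  rcases mul_eq_zero.1 h2 with h2 | h2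
  · rcases eq_of_fix σ (t := t) (by grind) with rfl | rfl <;> grind
  · have h4 : σ t = t + 1 := by grind
    rw [h4, map_add, h4, map_one] at h3
    grind

theorem surj [Finite K] (c : K) : ∃ b, σ b = c := Finite.surjective_of_injective σ.injective c

theorem exists_card [Finite K] : ∃ m, Nat.card K = 2 ^ (2 * m + 1) := by
  have := T.char
  have := Fintype.ofFinite K
  obtain ⟨n, -, hn⟩ := FiniteField.card K 2
  rw [← Nat.card_eq_fintype_card] at hn
  obtain ⟨m, hm | hm⟩ := Nat.even_or_odd' (n : ℕ)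
  · have h3 : 3 ∣ Nat.card Kˣ := by
      rw [Nat.card_units, hn, hm, pow_mul]
      exact (by simpa using Nat.sub_dvd_pow_sub_pow 4 1 m)
    obtain ⟨t, ht⟩ := exists_prime_orderOf_dvd_card' 3 h3
    have h4 : (t : K) ^ 3 = 1 := by rw [← Units.val_pow_eq_pow_val, ← ht, pow_orderOf_eq_one, Units.val_one]
    have h5 : (t : K) ≠ 1 := fun e => by rw [Units.val_eq_one.1 e, orderOf_one] at ht; omega
    exact (no_cube σ (t := t) (by grind)).elim
  · exact ⟨m, hm ▸ hn⟩

theorem odd_units [Finite K] : Odd (Nat.card Kˣ) := by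
  obtain ⟨m, hm⟩ := exists_card σ
  rw [Nat.card_units, hm]
  exact Nat.Even.sub_odd Nat.one_le_two_pow (by simp [Nat.even_pow]) odd_one

theorem isPGroup_U [Finite K] : IsPGroup 2 (U σ) := by
  obtain ⟨m, hm⟩ := exists_card σ
  exact IsPGroup.of_card (n := (2 * m + 1) * 12) (by rw [card_eq, hm, ← pow_mul])

theorem exists_ne [Finite K] (hq : 2 < Nat.card K) : ∃ t : Kˣ, t ≠ 1 := by
  have : Nontrivial Kˣ := Finite.one_lt_card_iff_nontrivial.1 (by rw [Nat.card_units]; omega)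
  exact _root_.exists_ne 1

theorem eq_one_of_pow [Finite K] {n : Kˣ} {k : ℕ} (h : n ^ 2 ^ k = 1) : n = 1 := by
  have h1 := orderOf_dvd_of_pow_eq_one h
  have h2 := orderOf_dvd_natCard n
  rw [← orderOf_eq_one_iff]
  exact Nat.eq_one_of_dvd_coprimes (Nat.Coprime.pow_left k (Nat.coprime_two_left.2 (odd_units σ))) h1 h2

theorem sq_inj {a b : K} (h : σ a * a ^ 2 = σ b * b ^ 2) : a = b := by
  have h1 : σ (a * σ a) = σ (b * σ b) := by simpa only [map_mul, T.sq] using h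
  exact norm_inj σ (σ.injective h1)

end Tits

namespace U

theorem mem_Z_of_comm {g : U σ} (h : ∀ k : U σ, k.b8 = 0 → k.c8 = 0 → g * k = k * g) : g ∈ Z := by
  have := T.char
  have h1 := h (y6 0 1) rfl rfl
  have h2 := h (x5 1) rfl rfl
  have h3 := h (y2 0 1) rfl rfl
  have h4 := h (x3 1) rfl rfl
  have h5 := h (x7 1) rfl rfl
  have h6 := h (x1 1) rfl rfl
  have h7 := h (y6 1 0) rfl rfl
  have h8 := h (y2 1 0) rfl rfl
  usimp at h1 h2 h3 h4 h5 h6 h7 h8
  refine ⟨g.c4, ?_⟩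
  have e1 : g.a1 = 0 := by grind
  have e2 : g.b8 = 0 := by grind
  have e3 : g.b2 = 0 := by grind
  simp only [e1, e2, e3, map_zero] at h1 h2 h3 h4 h5 h6 h7 h8
  have e4 : g.c8 = 0 := by grind
  have e5 : g.a7 = 0 := by grind
  have e6 : g.b6 = 0 := by grind
  simp only [e4, e5, e6, map_zero] at h1 h2 h3 h4 h5 h6 h7 h8
  usimp
  grind

theorem comm_Z (c : K) (g : U σ) : g * y4 0 c = y4 0 c * g := by usimp; grind

theorem conj_vv (g : U σ) (c a : K) : g * vv c a * g⁻¹ = vv (c + g.a1 * a) a := by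
  have := T.char
  rw [mul_inv_eq_iff_eq_mul]; vsimp; grind

theorem mem_V_iff {g : U σ} : g ∈ V ↔ ∀ k : U σ, g * k * g⁻¹ * k⁻¹ ∈ (Z : Subgroup (U σ)) := by
  have := T.char
  constructor
  · rintro ⟨c, a, rfl⟩ k
    refine ⟨k.a1 * a, ?_⟩
    rw [mul_assoc (vv c a), mul_assoc (vv c a), show (vv c a : U σ)⁻¹ = vv c a by vsimp, conj_vv]
    vsimp; grind
  · intro h
    have key : ∀ k : U σ, ∃ c, g * k = y4 0 c * k * g := fun k => (h k).imp fun c e => by rw [← e]; group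
    obtain ⟨_, h2⟩ := key (x5 1)
    obtain ⟨_, h3⟩ := key (y2 0 1)
    obtain ⟨_, h4⟩ := key (y8 0 1)
    obtain ⟨_, h5⟩ := key (y8 1 0)
    obtain ⟨_, h6⟩ := key (x1 1)
    obtain ⟨_, h7⟩ := key (y6 1 0)
    usimp at h2 h3 h4 h5 h6 h7
    refine ⟨g.c4, g.c6, ?_⟩
    have e2 : g.b8 = 0 := by grind
    have e1 : g.a1 = 0 := by grind
    simp only [e1, e2, map_zero] at h2 h3 h4 h5 h6 h7
    have e3 : g.b2 = 0 := by grind
    have e4 : g.c8 = 0 := by grind
    simp only [e3, e4, map_zero] at h2 h3 h4 h5 h6 h7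
    have e6 : g.b6 = 0 := by grind
    have e7 : g.b4 = 0 := by grind
    simp only [e6, e7, map_zero] at h2 h3 h4 h5 h6 h7
    vsimp
    grind

theorem mem_V_of_comm {g : U σ} (h : ∀ k : U σ, k.a1 = 0 → g * k = k * g) : g ∈ V := by
  have := T.char
  have h1 := h (y6 0 1) rfl
  have h2 := h (x5 1) rfl
  have h3 := h (y2 0 1) rfl
  have h4 := h (y8 0 1) rfl
  have h5 := h (y8 1 0) rfl
  have h7 := h (y6 1 0) rfl
  have h8 := h (y4 1 0) rfl
  usimp at h1 h2 h3 h4 h5 h7 h8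
  refine ⟨g.c4, g.c6, ?_⟩
  have e1 : g.a1 = 0 := by grind
  have e2 : g.b8 = 0 := by grind
  have e3 : g.b2 = 0 := by grind
  simp only [e1, e2, e3, map_zero] at h1 h2 h3 h4 h5 h7 h8
  have e4 : g.c8 = 0 := by grind
  have e6 : g.b6 = 0 := by grind
  have e7 : g.b4 = 0 := by grind
  simp only [e4, e7, e6, map_zero] at h1 h2 h3 h4 h5 h7 h8
  vsimp
  grind

theorem w1_vv (c a : K) : (w1 (vv c a) : U σ) = vv a c := by vsimp

theorem b8_eq_zero_iff {g : U σ} : g.b8 = 0 ↔ g * g ∈ Q := by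
  have := T.char
  rw [mem_Q]
  usimp
  exact ⟨fun h => by simp [h, CharTwo.add_self_eq_zero], fun h => Tits.norm_eq_zero σ (by grind)⟩

theorem comm_eq {g h k : U σ} (e : g * h = k * h * g) : ⁅g, h⁆ = k := by
  rw [commutatorElement_def, e]; group

theorem mem_frattini_of [Finite K] {g : U σ} (h1 : g.a1 = 0) (h2 : g.b2 = 0) (h4 : g.b4 = 0) (h6 : g.b6 = 0)
    (h8 : g.b8 = 0) : g ∈ frattini (U σ) := by
  have := T.char
  have hs := CL.PG.pow_mem_frattini (Tits.isPGroup_U σ)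
  have hc := CL.PG.commutatorElement_mem_frattini (Tits.isPGroup_U σ)
  have v2 (c : K) : (y2 0 c : U σ) ∈ frattini (U σ) := by
    obtain ⟨b, rfl⟩ := Tits.norm_surj σ c
    convert hs (y2 b 0) using 1
    rw [sq]; usimp; grind
  have v4 (c : K) : (y4 0 c : U σ) ∈ frattini (U σ) := by
    obtain ⟨b, rfl⟩ := Tits.norm_surj σ c
    convert hs (y4 b 0) using 1
    rw [sq]; usimp; grind
  have v6 (c : K) : (y6 0 c : U σ) ∈ frattini (U σ) := by
    obtain ⟨b, rfl⟩ := Tits.norm_surj σ c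
    convert hs (y6 b 0) using 1
    rw [sq]; usimp; grind
  have v8 (c : K) : (y8 0 c : U σ) ∈ frattini (U σ) := by
    obtain ⟨b, rfl⟩ := Tits.norm_surj σ c
    convert hs (y8 b 0) using 1
    rw [sq]; usimp; grind
  have e3 (c : K) : (x3 c : U σ) ∈ frattini (U σ) := by
    rw [← comm_eq (g := y2 c 0) (h := y4 1 0) (k := x3 c) (by usimp; grind)]; exact hc _ _
  have e5 (c : K) : (x5 c : U σ) ∈ frattini (U σ) := by
    rw [← comm_eq (g := y4 c 0) (h := y6 1 0) (k := x5 c) (by usimp; grind)]; exact hc _ _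
  have e7 (c : K) : (x7 c : U σ) ∈ frattini (U σ) := by
    rw [← comm_eq (g := y6 c 0) (h := y8 1 0) (k := x7 c) (by usimp; grind)]; exact hc _ _
  rw [eq_prod g, h1, h2, h4, h6, h8, show (x1 0 : U σ) = 1 from rfl]
  apply_rules [mul_mem, one_mem]

/-- for `q > 2` the Frattini subgroup is `{a1 = b8 = 0}` -/
theorem mem_frattini [Finite K] (hq : 2 < Nat.card K) {g : U σ} (h1 : g.a1 = 0) (h2 : g.b8 = 0) :
    g ∈ frattini (U σ) := by
  have := T.char
  have hc := CL.PG.commutatorElement_mem_frattini (Tits.isPGroup_U σ)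
  obtain ⟨t, ht⟩ := Tits.exists_ne σ hq
  have h3 : σ t + t ≠ 0 := fun e => by
    rcases Tits.eq_of_fix σ (t := t) (by grind) with e | e
    exacts [t.ne_zero e, ht (Units.val_eq_one.1 e)]
  obtain ⟨k, hk⟩ : ∃ k : U σ, k = ⁅(x1 g.b2 : U σ), y8 1 0⁆ := ⟨_, rfl⟩
  have k1 : k.a1 = 0 := by rw [hk]; usimp; grind
  have k2 : k.b2 = g.b2 := by rw [hk]; usimp
  have k8 : k.b8 = 0 := by rw [hk]; usimp; grind
  obtain ⟨w, hw⟩ : ∃ w, (σ t + t) * w = g.b4 + k.b4 + g.b6 + k.b6 := ⟨_, mul_div_cancel₀ _ h3⟩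
  have key (a w : K) : ∃ l ∈ frattini (U σ), l.a1 = 0 ∧ l.b2 = 0 ∧ l.b4 = σ a * w ∧ l.b6 = a * w ∧ l.b8 = 0 :=
    ⟨_, hc (x1 a) (y8 0 w), by usimp; grind⟩
  obtain ⟨l, hl, l1, l2, l4, l6, l8⟩ := key t w
  obtain ⟨m, hm, m1, m2, m4, m6, m8⟩ := key 1 (t * w + g.b6 + k.b6)
  have e : g * (k * l * m)⁻¹ ∈ frattini (U σ) := by
    refine mem_frattini_of ?_ ?_ ?_ ?_ ?_ <;> usimp <;>
      simp only [h1, h2, k1, k2, k8, l1, l2, l4, l6, l8, m1, m2, m4, m6, m8, map_zero, map_one] <;> grind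
  exact inv_mul_cancel_right g (k * l * m) ▸ mul_mem e (mul_mem (mul_mem (hk ▸ hc _ _) hl) hm)

end U

end CL.RF
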