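/-
INV library (large Ree groups): the Bruhat decomposition of the group `C = Q : Sz(q)`.
-/
import Cfsg.Agent.INV.RF.Bru1

set_option autoImplicit false
set_option linter.unusedSimpArgs false
set_option linter.unusedSectionVars false

namespace CL.RF

open U

variable {K : Type*} [Field K] {σ : K →+* K} [T : Tits σ]

namespace U

theorem exists_Q_mul (g : U σ) : ∃ k : U σ, k.b8 = 0 ∧ k.c8 = 0 ∧ g = k * y8 g.b8 g.c8 := by
  have := T.char
  exact ⟨g * (y8 g.b8 g.c8)⁻¹, by usimp; grind, by usimp; grind, (inv_mul_cancel_right ..).symm⟩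

theorem y8_inv (b c : K) : (y8 b c : U σ)⁻¹ = y8 b (c + b * σ b) := by
  have := T.char
  rw [inv_eq_iff_mul_eq_one]; usimp; grind

theorem y8_mul (b c b' c' : K) : (y8 b c * y8 b' c' : U σ) = y8 (b + b') (c + c' + σ b' * b) := by usimp

theorem y8_zero : (y8 0 0 : U σ) = 1 := rfl

theorem tr_y8 (n s b c : K) : (tr n s (y8 b c) : U σ) = y8 (σ n / s * b) (σ n * n ^ 2 / (s * σ s) * c) := by usimp

theorem conj_a1 (g k : U σ) : (g * k * g⁻¹).a1 = k.a1 := by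
  have := T.char
  usimp; grind

theorem conj_b8 (g k : U σ) : (g * k * g⁻¹).b8 = k.b8 := by
  have := T.char
  usimp; grind

theorem conj_c8 (g : U σ) {k : U σ} (h : k.b8 = 0) : (g * k * g⁻¹).c8 = k.c8 := by
  have := T.char
  usimp; grind

theorem conj_x5 (g : U σ) (a : K) : ∃ c, g * x5 a * g⁻¹ = x5 a * vv c (a * g.b8) := by
  have := T.char
  refine ⟨g.b2 * a + g.a1 * g.b8 * a, ?_⟩
  rw [mul_inv_eq_iff_eq_mul]; vsimp; grind

end U

variable {r : R8 K} {G : Type*} [Group G]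

namespace PC

variable [Finite K] {P : PC σ r G} {x : G}

theorem isPGroup_S (P : PC σ r G) : IsPGroup 2 P.S :=
  (Tits.isPGroup_U σ).of_surjective P.u.rangeRestrict P.u.rangeRestrict_surjective

theorem h1_u (P : PC σ r G) (n : Kˣ) (g : U σ) : P.h1 n * P.u g = P.u (tr (n : K) 1 g) * P.h1 n := by
  rw [← mul_inv_eq_iff_eq_mul, P.h1u]; rfl

theorem n8_u (P : PC σ r G) {g : U σ} (h : g.b8 = 0) (h' : g.c8 = 0) : P.n8 * P.u g = P.u (w8 g) * P.n8 := by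
  rw [← P.n8u g h h', mul_assoc, P.n8n8, mul_one]

theorem n8_h1 (P : PC σ r G) (n : Kˣ) : P.n8 * P.h1 n = P.h1 n⁻¹ * P.n8 := by
  rw [← P.n8h1, mul_assoc, P.n8n8, mul_one]

theorem n8_n8 (P : PC σ r G) (x : G) : P.n8 * (P.n8 * x) = x := by rw [← mul_assoc, P.n8n8, one_mul]

theorem mem_B1 : x ∈ P.B1 ↔ ∃ g n, x = P.u g * P.h1 n := by
  refine ⟨fun h => ?_, fun ⟨g, n, e⟩ => e ▸ mul_mem (P.S_le_B1 (P.u_mem_S g)) (P.h1_mem_B1 n)⟩
  let M : Subgroup G :=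
    { carrier := {x | ∃ g n, x = P.u g * P.h1 n}
      mul_mem' := by
        rintro _ _ ⟨g, n, rfl⟩ ⟨g', n', rfl⟩
        exact ⟨g * tr (n : K) 1 g', n * n', by
          rw [mul_assoc, ← mul_assoc (P.h1 n), h1_u]; simp only [map_mul, mul_assoc]⟩
      one_mem' := ⟨1, 1, by simp⟩
      inv_mem' := by
        rintro _ ⟨g, n, rfl⟩
        exact ⟨_, n⁻¹, by rw [mul_inv_rev, ← map_inv, ← map_inv, h1_u]⟩ }
  exact (sup_le (fun _ ⟨g, e⟩ => ⟨g, 1, by simp [e]⟩) fun _ ⟨n, e⟩ => ⟨1, n, by simp [e]⟩ : P.B1 ≤ M) h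

theorem u_mem_B1 (P : PC σ r G) (g : U σ) : P.u g ∈ P.B1 := P.S_le_B1 (P.u_mem_S g)

theorem conj_uh (P : PC σ r G) (g : U σ) (n : Kˣ) (k : U σ) :
    P.u g * P.h1 n * P.u k * (P.u g * P.h1 n)⁻¹ = P.u (g * tr (n : K) 1 k * g⁻¹) := by
  rw [mul_assoc (P.u g), h1_u]; simp [mul_assoc]

theorem conj_B1 (hx : x ∈ P.B1) : ∃ (g : U σ) (n : Kˣ), ∀ k, x * P.u k * x⁻¹ = P.u (g * tr (n : K) 1 k * g⁻¹) := by
  obtain ⟨g, n, rfl⟩ := mem_B1.1 hx
  exact ⟨g, n, P.conj_uh g n⟩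

theorem h1_inj (P : PC σ r G) {n : Kˣ} (h : P.h1 n = 1) : n = 1 := by
  have e := P.h1_u n (x5 1)
  rw [h, one_mul, mul_one] at e
  have := congrArg U.a5 (P.inj e)
  usimp at this
  exact Units.val_eq_one.1 this.symm

theorem eq_one_of_h1_mem {n : Kˣ} (h : P.h1 n ∈ P.S) : n = 1 := by
  obtain ⟨k, hk⟩ := P.isPGroup_S ⟨_, h⟩
  exact Tits.eq_one_of_pow σ (k := k) (P.h1_inj (by rw [map_pow]; exact congrArg Subtype.val hk))

theorem B1_uniq {g g' : U σ} {n n' : Kˣ} (h : P.u g * P.h1 n = P.u g' * P.h1 n') : g = g' ∧ n = n' := by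
  have e : n * n'⁻¹ = 1 := eq_one_of_h1_mem (P := P) ⟨g⁻¹ * g', by
    rw [map_mul, map_mul, map_inv, map_inv, eq_mul_inv_iff_mul_eq, mul_assoc, ← h, inv_mul_cancel_left]⟩
  rw [mul_inv_eq_one] at e
  exact ⟨P.inj (mul_right_cancel (e ▸ h)), e⟩

theorem B1_le_of {H : Subgroup (U σ)} [H.Normal] (h : ∀ (n : Kˣ), ∀ g ∈ H, tr (n : K) 1 g ∈ H) :
    P.B1 ≤ Subgroup.normalizer (H.map P.u : Set G) := by
  refine Subgroup.le_normalizer_iff.2 ?_
  rintro x hx _ ⟨k, hk, rfl⟩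
  obtain ⟨g, n, e⟩ := conj_B1 hx
  exact ⟨_, Subgroup.Normal.conj_mem ‹_› _ (h n k hk) g, (e k).symm⟩

theorem B1_le_normalizer (P : PC σ r G) : P.B1 ≤ Subgroup.normalizer (P.S : Set G) := by
  rw [S, MonoidHom.range_eq_map]
  exact B1_le_of fun _ _ _ => trivial

end PC

instance : (U.Q' : Subgroup (U σ)).Normal := ⟨fun k hk g => (conj_a1 g k).trans hk⟩
instance : (U.Q : Subgroup (U σ)).Normal := ⟨fun k hk g => ⟨(conj_b8 g k).trans hk.1, (conj_c8 g hk.1).trans hk.2⟩⟩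
instance : (U.V : Subgroup (U σ)).Normal := ⟨by rintro _ ⟨c, a, rfl⟩ g; exact ⟨_, _, conj_vv g c a⟩⟩
instance : (U.Z : Subgroup (U σ)).Normal := ⟨by rintro _ ⟨c, rfl⟩ g; exact ⟨c, by rw [comm_Z]; simp⟩⟩

namespace PC

variable [Finite K] {P : PC σ r G} {x : G}

theorem B1_le_normalizer_Q' (P : PC σ r G) : P.B1 ≤ Subgroup.normalizer (P.Q' : Set G) :=
  B1_le_of fun _ _ h => by rw [U.mem_Q'] at *; usimp; simp [h]

theorem B1_le_normalizer_Q (P : PC σ r G) : P.B1 ≤ Subgroup.normalizer (P.Q : Set G) :=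
  B1_le_of fun _ _ h => by rw [U.mem_Q] at *; usimp; simp [h]

theorem B1_le_normalizer_V (P : PC σ r G) : P.B1 ≤ Subgroup.normalizer (P.V : Set G) :=
  B1_le_of (by rintro n _ ⟨c, a, rfl⟩; exact ⟨c, n * σ n * a, by vsimp; simp⟩)

theorem n8_not_mem (P : PC σ r G) : P.n8 ∉ P.B1 := fun h => by
  obtain ⟨g, n, e⟩ := conj_B1 h
  have e1 := e (x7 1)
  rw [n8_inv, P.n8u _ rfl rfl] at e1
  have := congrArg U.a1 (P.inj e1)
  rw [conj_a1] at this
  usimp at this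
  exact one_ne_zero this

theorem eq_zero_of_n8 {b c : K} (h : P.n8 * P.u (y8 b c) * P.n8 ∈ P.B1) : b = 0 ∧ c = 0 := by
  by_contra hne
  rw [P.r8 (b, c) (by simpa [Prod.ext_iff] using hne), mul_mem_cancel_right (P.u_mem_B1 _),
    mul_mem_cancel_left (mul_mem (P.u_mem_B1 _) (P.h1_mem_B1 _))] at h
  exact P.n8_not_mem h

theorem mem_C : x ∈ P.C ↔ x ∈ P.B1 ∨ ∃ y ∈ P.B1, ∃ b c, x = y * P.n8 * P.u (y8 b c) := by
  refine ⟨fun h => ?_, ?_⟩
  swap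
  · rintro (h | ⟨y, hy, b, c, rfl⟩)
    exacts [P.B1_le_C h, mul_mem (mul_mem (P.B1_le_C hy) P.n8_mem_C) (P.u_mem_C _)]
  let D (x : G) : Prop := x ∈ P.B1 ∨ ∃ y ∈ P.B1, ∃ b c, x = y * P.n8 * P.u (y8 b c)
  let M : Subgroup G :=
    { carrier := {x | (∀ d, D d → D (d * x)) ∧ ∀ d, D d → D (d * x⁻¹)}
      mul_mem' := fun ha hb => ⟨fun d hd => mul_assoc d _ _ ▸ hb.1 _ (ha.1 d hd), fun d hd => by
        rw [mul_inv_rev, ← mul_assoc]; exact ha.2 _ (hb.2 d hd)⟩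
      one_mem' := ⟨by simp, by simp⟩
      inv_mem' := fun ha => ⟨ha.2, by simpa using ha.1⟩ }
  have hu (g : U σ) (d : G) : D d → D (d * P.u g) := by
    rintro (hd | ⟨y, hy, b, c, rfl⟩)
    · exact Or.inl (mul_mem hd (P.u_mem_B1 g))
    obtain ⟨k, k1, k2, e⟩ := exists_Q_mul (y8 b c * g)
    generalize (y8 b c * g : U σ).b8 = b', (y8 b c * g : U σ).c8 = c' at e
    refine Or.inr ⟨_, mul_mem hy (P.u_mem_B1 (w8 k)), b', c', ?_⟩
    rw [mul_assoc, ← map_mul, e, map_mul, mul_assoc y (P.u _), ← P.n8_u k1 k2]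
    simp only [mul_assoc]
  have hh (n : Kˣ) (d : G) : D d → D (d * P.h1 n) := by
    rintro (hd | ⟨y, hy, b, c, rfl⟩)
    · exact Or.inl (mul_mem hd (P.h1_mem_B1 n))
    have e := P.h1_u n⁻¹ (y8 b c)
    rw [tr_y8, ← mul_inv_eq_iff_eq_mul] at e
    exact Or.inr ⟨_, mul_mem hy (P.h1_mem_B1 n⁻¹), _, _, by
      rw [mul_assoc y (P.h1 _), ← n8_h1, ← e]; simp [mul_assoc]⟩
  have hn (d : G) : D d → D (d * P.n8) := by
    rintro (hd | ⟨y, hy, b, c, rfl⟩)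
    · exact Or.inr ⟨d, hd, 0, 0, by rw [y8_zero, map_one, mul_one]⟩
    rcases eq_or_ne (b, c) 0 with e | e
    · obtain ⟨rfl, rfl⟩ := Prod.mk_eq_zero.1 e
      exact Or.inl (by rwa [y8_zero, map_one, mul_one, mul_assoc, P.n8n8, mul_one])
    have e1 := P.r8 _ e
    refine Or.inr ⟨_, mul_mem hy (mul_mem (P.u_mem_B1 (y8 (r (b, c)).1.1 (r (b, c)).1.2)) (P.h1_mem_B1 (r (b, c)).2.1)),
      (r (b, c)).2.2.1, (r (b, c)).2.2.2, ?_⟩
    rw [mul_assoc y, mul_assoc y, e1]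
    simp only [mul_assoc]
  have := (P.C_le (M := M) (fun g => ⟨hu g, map_inv P.u g ▸ hu _⟩) (fun n => ⟨hh n, map_inv P.h1 n ▸ hh _⟩)
    ⟨hn, P.n8_inv.symm ▸ hn⟩ h).1 1 (Or.inl (one_mem _))
  rwa [one_mul] at this

theorem mem_C' : x ∈ P.C ↔ x ∈ P.B1 ∨ ∃ y ∈ P.B1, ∃ b c, x = P.u (y8 b c) * P.n8 * y := by
  refine ⟨fun h => ?_, ?_⟩
  · rcases mem_C.1 (inv_mem h) with h | ⟨y, hy, b, c, e⟩
    · exact Or.inl (inv_mem_iff.1 h)
    refine Or.inr ⟨_, inv_mem hy, b, c + b * σ b, ?_⟩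
    rw [← y8_inv, inv_eq_iff_eq_inv.1 e]
    simp [n8_inv, mul_assoc]
  · rintro (h | ⟨y, hy, b, c, rfl⟩)
    exacts [P.B1_le_C h, mul_mem (mul_mem (P.u_mem_C _) P.n8_mem_C) (P.B1_le_C hy)]

theorem cell_uniq {y y' : G} (hy : y ∈ P.B1) (hy' : y' ∈ P.B1) {b c b' c' : K}
    (h : y * P.n8 * P.u (y8 b c) = y' * P.n8 * P.u (y8 b' c')) : y = y' ∧ b = b' ∧ c = c' := by
  have := T.char
  have e : P.n8 * P.u (y8 b c * (y8 b' c')⁻¹) * P.n8 = y⁻¹ * y' := by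
    rw [eq_inv_mul_iff_mul_eq, map_mul, map_inv]
    simp only [← mul_assoc]
    rw [h, mul_inv_cancel_right, mul_assoc, P.n8n8, mul_one]
  rw [y8_inv, y8_mul] at e
  obtain ⟨h1, h2⟩ := eq_zero_of_n8 (e ▸ mul_mem (inv_mem hy) hy')
  obtain rfl : b = b' := by grind
  obtain rfl : c = c' := by grind
  exact ⟨by simpa using h, rfl, rfl⟩

theorem cell_not_mem {y : G} (hy : y ∈ P.B1) (g : U σ) : y * P.n8 * P.u g ∉ P.B1 := by
  rw [mul_mem_cancel_right (P.u_mem_B1 _), mul_mem_cancel_left hy]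
  exact P.n8_not_mem

theorem card_S (P : PC σ r G) : Nat.card P.S = Nat.card K ^ 12 := by
  rw [← card_eq (σ := σ)]
  exact (Nat.card_congr (MonoidHom.ofInjective P.inj).toEquiv).symm

theorem card_C (P : PC σ r G) : Nat.card P.C = Nat.card K ^ 12 * (Nat.card K - 1) * (Nat.card K ^ 2 + 1) := by
  have hB (p : U σ × Kˣ) : P.u p.1 * P.h1 p.2 ∈ P.B1 := mem_B1.2 ⟨_, _, rfl⟩
  let f : (U σ × Kˣ) × Option (K × K) → P.C := fun p => match p with
    | (p, none) => ⟨_, P.B1_le_C (hB p)⟩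
    | (p, some q) => ⟨_, mem_C.2 (Or.inr ⟨_, hB p, q.1, q.2, rfl⟩)⟩
  have hf : Function.Bijective f := by
    constructor
    · rintro ⟨p, _ | q⟩ ⟨p', _ | q'⟩ e <;> replace e := congrArg Subtype.val e
      · rw [Prod.ext (B1_uniq e).1 (B1_uniq e).2]
      · exact (cell_not_mem (hB p') _ (e.subst (motive := (· ∈ P.B1)) (hB p))).elim
      · exact (cell_not_mem (hB p) _ (e.symm.subst (motive := (· ∈ P.B1)) (hB p'))).elim
      · obtain ⟨e1, e2, e3⟩ := cell_uniq (hB p) (hB p') e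
        rw [Prod.ext (B1_uniq e1).1 (B1_uniq e1).2, Prod.ext e2 e3]
    · rintro ⟨x, hx⟩
      rcases mem_C.1 hx with h | ⟨y, h, b, c, rfl⟩ <;> obtain ⟨g, n, rfl⟩ := mem_B1.1 h
      exacts [⟨((g, n), none), rfl⟩, ⟨((g, n), some (b, c)), rfl⟩]
  rw [← Nat.card_eq_of_bijective f hf, Nat.card_prod, Nat.card_prod, card_eq, Nat.card_units, Finite.card_option,
    Nat.card_prod, sq]

theorem finite_C (P : PC σ r G) : Finite P.C := by
  refine Nat.finite_of_card_ne_zero ?_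
  have : 1 < Nat.card K := Finite.one_lt_card
  rw [card_C]
  exact mul_ne_zero (mul_ne_zero (by positivity) (by omega)) (by positivity)

theorem not_three_dvd (P : PC σ r G) : ¬ 3 ∣ Nat.card P.C := by
  obtain ⟨m, hm⟩ := Tits.exists_card σ
  have h : Nat.card K % 3 = 2 := by rw [hm, pow_succ, pow_mul, Nat.mul_mod, Nat.pow_mod]; simp
  rw [card_C, Nat.prime_three.dvd_mul, Nat.prime_three.dvd_mul]
  rintro ((h1 | h1) | h1)
  · have := Nat.prime_three.dvd_of_dvd_pow h1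
    omega
  · omega
  · rw [Nat.dvd_iff_mod_eq_zero, Nat.add_mod, Nat.pow_mod, h] at h1
    omega

theorem mem_S_of_two (hx : x ∈ P.B1) {k : ℕ} (h : x ^ 2 ^ k = 1) : x ∈ P.S := by
  obtain ⟨g, n, rfl⟩ := mem_B1.1 hx
  have key (i : ℕ) : ∃ g', (P.u g * P.h1 n) ^ i = P.u g' * P.h1 (n ^ i) := by
    induction i with
    | zero => exact ⟨1, by simp⟩
    | succ i ih =>
      obtain ⟨g', e⟩ := ih
      exact ⟨g' * tr ((n ^ i : Kˣ) : K) 1 g, by
        rw [pow_succ, e, mul_assoc, ← mul_assoc (P.h1 _), h1_u, pow_succ]; simp only [map_mul, mul_assoc]⟩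
  obtain ⟨g', e⟩ := key (2 ^ k)
  have e1 : n ^ 2 ^ k = 1 := (B1_uniq (P := P) (g := g') (g' := 1) (by rw [← e, h]; simp)).2
  rw [Tits.eq_one_of_pow σ e1, map_one, mul_one]
  exact P.u_mem_S g

/-- `S` is a Sylow 2-subgroup of `C` -/
theorem exists_conj_mem_S (hx : x ∈ P.C) {k : ℕ} (h : x ^ 2 ^ k = 1) : ∃ y ∈ P.C, y * x * y⁻¹ ∈ P.S := by
  have := P.finite_C
  obtain ⟨m, hm⟩ := Tits.exists_card σ
  have h1 : Nat.card (P.S.subgroupOf P.C) = Nat.card K ^ 12 := by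
    rw [← P.card_S]; exact Nat.card_congr (Subgroup.subgroupOfEquivOfLe P.S_le_C).toEquiv
  have h2 : ¬ 2 ∣ (P.S.subgroupOf P.C).index := by
    have e := (P.S.subgroupOf P.C).card_mul_index
    rw [h1, card_C, mul_assoc, mul_right_inj' (by rw [hm]; positivity)] at e
    rw [e, ← Nat.card_units, hm, ← even_iff_two_dvd, Nat.not_even_iff_odd]
    exact (Tits.odd_units σ).mul (Even.add_one (by simp [Nat.even_pow]))
  let S := (P.isPGroup_S.comap_of_injective P.C.subtype P.C.subtype_injective).toSylow h2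
  obtain ⟨R, hR⟩ := IsPGroup.exists_le_sylow (p := 2) (P := Subgroup.zpowers (⟨x, hx⟩ : P.C))
    (IsPGroup.of_card_dvd_pow (n := k) (by
      rw [Nat.card_zpowers]; exact orderOf_dvd_of_pow_eq_one (Subtype.ext h)))
  obtain ⟨y, hy⟩ := MulAction.exists_smul_eq P.C R S
  refine ⟨y, y.2, ?_⟩
  have : y * ⟨x, hx⟩ * y⁻¹ ∈ (S : Subgroup P.C) :=
    hy ▸ Subgroup.smul_mem_pointwise_smul _ (MulAut.conj y) _ (hR (Subgroup.mem_zpowers _))
  exact this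

end PC

end CL.RF
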