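/-
INV library (large Ree groups): the group `C = Q : Sz(q)` (Bruhat decomposition, centralisers, involutions).
-/
import Cfsg.Agent.INV.RF.Bru2

set_option autoImplicit false
set_option linter.unusedSimpArgs false
set_option linter.unusedSectionVars false

namespace CL.RF

open U

variable {K : Type*} [Field K] {σ : K →+* K} [T : Tits σ] {r : R8 K} {G : Type*} [Group G]

namespace PC

variable [Finite K] {P : PC σ r G} {x : G}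

theorem comm_Z (hx : x ∈ P.C) (c : K) : x * P.u (y4 0 c) = P.u (y4 0 c) * x := by
  refine Subgroup.mem_centralizer_singleton_iff.1 (P.C_le (fun g => ?_) (fun n => ?_) ?_ hx) <;>
    rw [Subgroup.mem_centralizer_singleton_iff]
  · rw [← map_mul, U.comm_Z, map_mul]
  · rw [h1_u]; congr 2; usimp
  · rw [n8_u _ rfl rfl]; congr 2; usimp

theorem C_le_normalizer_Q (P : PC σ r G) : P.C ≤ Subgroup.normalizer (P.Q : Set G) := by
  refine sup_le P.B1_le_normalizer_Q (Subgroup.zpowers_le.2 ?_)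
  have key : ∀ y ∈ P.Q, P.n8 * y * P.n8 ∈ P.Q := by
    rintro _ ⟨g, hg, rfl⟩
    exact ⟨w8 g, ⟨rfl, rfl⟩, (P.n8u g hg.1 hg.2).symm⟩
  refine Subgroup.mem_normalizer_iff.2 fun y => ⟨P.n8_inv.symm ▸ key y, fun h => ?_⟩
  simpa [n8_inv, mul_assoc, n8_n8, P.n8n8] using key _ h

theorem mem_Q_of_n8 (hx : x ∈ P.S) (h : P.n8 * x * P.n8 ∈ P.S) : x ∈ P.Q := by
  obtain ⟨g, rfl⟩ := hx
  obtain ⟨k, k1, k2, e⟩ := exists_Q_mul g
  rw [e, map_mul, ← mul_assoc, P.n8_u k1 k2, mul_assoc, mul_assoc, mul_mem_cancel_left (P.u_mem_S _), ← mul_assoc] at h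
  exact u_mem_Q.2 (eq_zero_of_n8 (P.S_le_B1 h))

theorem C_le_Cp (P : PC σ r G) (c : K) : P.C ≤ Cp (P.u (y4 0 c)) := by
  have hn : P.n8 ∈ Cp (P.u (y4 0 c)) := Subgroup.subset_closure ⟨comm_Z P.n8_mem_C c, 1, by rw [pow_one, sq, P.n8n8]⟩
  refine P.C_le (fun g => ?_) (fun n => (mul_mem_cancel_right hn).1 ?_) hn
  · obtain ⟨k, hk⟩ := Tits.isPGroup_U σ g
    exact Subgroup.subset_closure ⟨comm_Z (P.u_mem_C g) c, k, by rw [← map_pow, hk, map_one]⟩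
  · exact Subgroup.subset_closure ⟨comm_Z (mul_mem (P.h1_mem_C n) P.n8_mem_C) c, 1, by
      rw [pow_one, sq, mul_assoc, ← mul_assoc P.n8, P.n8h1, ← map_mul, mul_inv_cancel, map_one]⟩

theorem mem_B1_of_normalizer_S (hx : x ∈ P.C) (h : x ∈ Subgroup.normalizer (P.S : Set G)) : x ∈ P.B1 := by
  rcases mem_C.1 hx with hx | ⟨y, hy, b, c, rfl⟩
  · exact hx
  rw [mul_mem_cancel_right (P.B1_le_normalizer (P.u_mem_B1 _)), mul_mem_cancel_left (P.B1_le_normalizer hy)] at h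
  have := (Subgroup.mem_normalizer_iff.1 h _).1 (P.u_mem_S (y8 0 1))
  rw [n8_inv] at this
  exact (one_ne_zero (eq_zero_of_n8 (P.S_le_B1 this)).2).elim

theorem conj_cell (P : PC σ r G) (y : G) (k : U σ) {g : U σ} (h : g.b8 = 0) (h' : g.c8 = 0) :
    y * P.n8 * P.u k * P.u g * (y * P.n8 * P.u k)⁻¹ = y * P.u (w8 (k * g * k⁻¹)) * y⁻¹ := by
  rw [← P.n8u _ ((conj_b8 k g).trans h) ((conj_c8 k h).trans h')]
  simp [n8_inv, mul_assoc]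

theorem mem_B1_of_conj_V (hx : x ∈ P.C) {c a : K} (ha : a ≠ 0) (h : x * P.u (vv c a) * x⁻¹ ∈ P.V) : x ∈ P.B1 := by
  rcases mem_C.1 hx with hx | ⟨y, hy, b, c', rfl⟩
  · exact hx
  rw [P.conj_cell _ _ rfl rfl, ← Subgroup.mem_normalizer_iff.1 (P.B1_le_normalizer_V hy), conj_vv] at h
  obtain ⟨_, _, e⟩ := u_mem_map.1 h
  have := congrArg U.c2 e
  vsimp at this
  exact (ha this).elim

theorem mem_Q'_of_comm (hx : x ∈ P.C) {c a : K} (ha : a ≠ 0) (h : x * P.u (vv c a) = P.u (vv c a) * x) :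
    x ∈ P.Q' := by
  rw [← mul_inv_eq_iff_eq_mul] at h
  obtain ⟨g, n, rfl⟩ := mem_B1.1 (mem_B1_of_conj_V hx ha ⟨_, ⟨c, a, rfl⟩, h.symm⟩)
  rw [conj_uh, show (tr (n : K) 1 (vv c a) : U σ) = vv c (n * σ n * a) by vsimp; simp, conj_vv] at h
  have := P.inj h
  vsimp at this
  have e : (n : K) * σ n = 1 := by grind
  obtain rfl : n = 1 := Units.val_eq_one.1 (Tits.norm_inj σ (by simpa using e))
  rw [map_one, mul_one]
  exact u_mem_Q'.2 (by grind)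

theorem mem_Z_of_comm_Q (hx : x ∈ P.C) (h : ∀ y ∈ P.Q, x * y = y * x) : x ∈ P.Z := by
  obtain ⟨g, -, rfl⟩ := mem_Q'_of_comm hx (c := 0) one_ne_zero (h _ (u_mem_Q.2 ⟨rfl, rfl⟩))
  exact u_mem_map.2 (mem_Z_of_comm fun k k1 k2 => P.inj (by simpa using h _ (u_mem_Q.2 ⟨k1, k2⟩)))

theorem mem_B1_of_comm_x5 (hx : x ∈ P.C) {a : K} (ha : a ≠ 0) (h : x * P.u (x5 a) = P.u (x5 a) * x) : x ∈ P.B1 := by
  rcases mem_C.1 hx with hx | ⟨y, hy, b, c', rfl⟩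
  · exact hx
  obtain ⟨g, n, e⟩ := conj_B1 (inv_mem hy)
  rw [← mul_inv_eq_iff_eq_mul, P.conj_cell _ _ rfl rfl, mul_inv_eq_iff_eq_mul, ← eq_inv_mul_iff_mul_eq, ← mul_assoc,
    ← inv_inv y, inv_inv y⁻¹, e, show (tr (n : K) 1 (x5 a) : U σ) = x5 (n * a) by usimp] at h
  obtain ⟨_, e1⟩ := conj_x5 g (n * a)
  obtain ⟨_, e2⟩ := conj_x5 (y8 b c' : U σ) a
  have := congrArg U.a3 (P.inj h)
  rw [e1, e2] at this
  vsimp at this
  exact (ha this).elim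

theorem mem_B1_of_comm_x7 (hx : x ∈ P.C) {a : K} (ha : a ≠ 0) (h : x * P.u (x7 a) = P.u (x7 a) * x) : x ∈ P.B1 := by
  have := T.char
  rcases mem_C.1 hx with hx | ⟨y, hy, b, c', rfl⟩
  · exact hx
  obtain ⟨g, n, e⟩ := conj_B1 (inv_mem hy)
  rw [← mul_inv_eq_iff_eq_mul, P.conj_cell _ _ rfl rfl, mul_inv_eq_iff_eq_mul, ← eq_inv_mul_iff_mul_eq, ← mul_assoc,
    ← inv_inv y, inv_inv y⁻¹, e] at h
  have := congrArg U.a1 (P.inj h)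
  rw [conj_a1] at this
  usimp at this
  exact (ha (by grind)).elim

theorem mem_B1_of_comm_y8 (hx : x ∈ P.C) {a c : K} (ha : a ≠ 0)
    (h : x * P.u (y8 0 a * y4 0 c) = P.u (y8 0 a * y4 0 c) * x) : x ∈ P.B1 := by
  have := T.char
  rcases mem_C.1 hx with hx | ⟨y, hy, b, c', rfl⟩
  · exact hx
  have e : (y8 b c' * (y8 0 a * y4 0 c) : U σ) = y8 0 a * y4 0 c * y8 b c' := by usimp; grind
  rw [mul_assoc, ← map_mul, e, map_mul, ← mul_assoc, ← mul_assoc, mul_left_inj] at h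
  have := (u_mem_Q.1 (mem_Q_of_n8 (P.u_mem_S (y8 0 a * y4 0 c)) ?_)).2
  · usimp at this
    exact (ha this).elim
  rw [Subgroup.mem_normalizer_iff.1 (P.B1_le_normalizer hy)]
  simp only [← mul_assoc]
  rw [h, mul_assoc _ _ P.n8, mul_assoc y, P.n8n8, mul_one, mul_inv_cancel_right]
  exact P.u_mem_S _

theorem eq_zero_of_fix {w a : K} (hw : w ≠ 1) (h : w * a = a) : a = 0 := by grind

theorem _root_.CL.RF.U.eq_y4_of_fix {n : Kˣ} (hn : n ≠ 1) {g : U σ} (e : g = tr (n : K) 1 g) : g = y4 g.b4 g.c4 := by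
  have h1 : (n : K) ≠ 1 := fun e => hn (Units.val_eq_one.1 e)
  have h2 : n * σ n ≠ 1 := fun e => h1 (Tits.norm_inj σ (by simpa using e))
  have h3 : σ n ≠ 1 := fun e => h1 (σ.injective (by simpa using e))
  have h4 : σ n * n ^ 2 ≠ 1 := fun e => h1 (Tits.sq_inj σ (by simpa using e))
  usimp at e
  simp only [div_one, one_div] at e
  obtain ⟨e1, e2, e3, e4, -, e5, e6, e7, e8, e9, e10⟩ := e
  usimp
  exact ⟨eq_zero_of_fix (inv_ne_one.2 h2) e1.symm, eq_zero_of_fix (inv_ne_one.2 h1) e2.symm,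
    eq_zero_of_fix (inv_ne_one.2 h2) e3.symm, eq_zero_of_fix (inv_ne_one.2 h1) e4.symm, eq_zero_of_fix h1 e5.symm,
    eq_zero_of_fix h1 e6.symm, eq_zero_of_fix h2 e7.symm, eq_zero_of_fix h2 e8.symm, eq_zero_of_fix h3 e9.symm,
    eq_zero_of_fix h4 e10.symm⟩

theorem exists_of_comm_h1 (hx : x ∈ P.C) {n : Kˣ} (hn : n ≠ 1) (h : x * P.h1 n = P.h1 n * x) :
    ∃ b c m, x = P.u (y4 b c) * P.h1 m := by
  rcases mem_C.1 hx with hy | ⟨y, hy, b, c, rfl⟩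
  · obtain ⟨g, m, rfl⟩ := mem_B1.1 hy
    rw [← mul_assoc, P.h1_u n g, mul_assoc, mul_assoc, ← P.h1.map_mul, ← P.h1.map_mul] at h
    exact ⟨g.b4, g.c4, m, congrArg (P.u · * P.h1 m) (eq_y4_of_fix hn (B1_uniq h).1)⟩
  · exfalso
    obtain ⟨g, m, rfl⟩ := mem_B1.1 hy
    obtain ⟨b', c', e⟩ : ∃ b' c', P.u (y8 b c) * P.h1 n = P.h1 n * P.u (y8 b' c') :=
      ⟨_, _, by rw [← inv_mul_eq_iff_eq_mul, ← map_inv, ← mul_assoc, P.h1_u n⁻¹, tr_y8, map_inv, inv_mul_cancel_right]⟩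
    rw [mul_assoc _ _ (P.h1 n), e, ← mul_assoc, mul_assoc _ P.n8, P.n8_h1 n, ← mul_assoc, mul_assoc (P.u g), ← P.h1.map_mul,
      ← mul_assoc, ← mul_assoc, ← mul_assoc, P.h1_u n g, mul_assoc _ (P.h1 n), ← P.h1.map_mul] at h
    have e2 := (B1_uniq (cell_uniq (mem_B1.2 ⟨_, _, rfl⟩) (mem_B1.2 ⟨_, _, rfl⟩) h).1).2
    rw [mul_comm n, mul_right_inj, inv_eq_iff_mul_eq_one] at e2
    exact hn (Tits.eq_one_of_pow σ (k := 1) (by rwa [pow_one, sq]))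

/-- the Sylow 2-subgroups of `C` normalised by `H₁` -/
theorem mem_or_of_h1 (hx : x ∈ P.C) {n : Kˣ} (hn : n ≠ 1)
    (h : x⁻¹ * P.h1 n * x ∈ Subgroup.normalizer (P.S : Set G)) : x ∈ P.B1 ∨ P.n8 * x ∈ P.B1 := by
  have := T.char
  replace h := mem_B1_of_normalizer_S (mul_mem (mul_mem (inv_mem hx) (P.h1_mem_C n)) hx) h
  rcases mem_C'.1 hx with hx | ⟨y, hy, b, c, rfl⟩
  · exact Or.inl hx
  have e : (P.u (y8 b c) * P.n8 * y)⁻¹ * P.h1 n * (P.u (y8 b c) * P.n8 * y) =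
      y⁻¹ * (P.n8 * P.u ((y8 b c)⁻¹ * tr (n : K) 1 (y8 b c)) * P.n8) * P.h1 n⁻¹ * y := by
    rw [← P.n8h1, map_mul, ← mul_inv_eq_iff_eq_mul.2 (P.h1_u n _)]
    simp [n8_inv, mul_assoc, n8_n8]
  rw [e, mul_mem_cancel_right hy, mul_mem_cancel_right (P.h1_mem_B1 _), mul_mem_cancel_left (inv_mem hy), tr_y8, y8_inv,
    y8_mul] at h
  obtain ⟨e1, e2⟩ := eq_zero_of_n8 h
  have h1 : (n : K) ≠ 1 := fun e => hn (Units.val_eq_one.1 e)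
  have h3 : σ n ≠ 1 := fun e => h1 (σ.injective (by simpa using e))
  have h4 : σ n * n ^ 2 ≠ 1 := fun e => h1 (Tits.sq_inj σ (by simpa using e))
  obtain rfl : b = 0 := by grind
  simp only [map_one, mul_zero, map_zero] at e2
  obtain rfl : c = 0 := by grind
  exact Or.inr (by rwa [y8_zero, map_one, one_mul, n8_n8])

/-- `P.u g` is conjugate in `C` to an element satisfying `p` -/
def Cj (P : PC σ r G) (p : G → Prop) (g : U σ) : Prop := ∃ y ∈ P.C, p (y * P.u g * y⁻¹)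

namespace Cj

variable {p : G → Prop} {g : U σ}

theorem of_conj {y : G} {g' : U σ} (hy : y ∈ P.C) (e : y * P.u g * y⁻¹ = P.u g') : P.Cj p g' → P.Cj p g := by
  rintro ⟨z, hz, h⟩
  exact ⟨z * y, mul_mem hz hy, by simpa only [← e, mul_inv_rev, mul_assoc] using h⟩

theorem base (h : p (P.u g)) : P.Cj p g := ⟨1, one_mem _, by simpa using h⟩

theorem eq {g' : U σ} (h : g = g') : P.Cj (· = P.u g') g := base (congrArg P.u h)

theorem of_u (k : U σ) (h : P.Cj p (k * g * k⁻¹)) : P.Cj p g := of_conj (P.u_mem_C k) (by simp) h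

theorem of_h (n : Kˣ) (h : P.Cj p (tr (n : K) 1 g)) : P.Cj p g := of_conj (P.h1_mem_C n) (P.h1u n g) h

theorem of_n (h1 : g.b8 = 0) (h2 : g.c8 = 0) (h : P.Cj p (w8 g)) : P.Cj p g :=
  of_conj P.n8_mem_C (P.n8_inv.symm ▸ P.n8u g h1 h2) h

theorem of_eq {g' : U σ} (h : P.Cj p g') (e : g = g') : P.Cj p g := e ▸ h

theorem mono {p' : G → Prop} (h : P.Cj p g) (e : ∀ x, p x → p' x) : P.Cj p' g := h.imp fun _ h => ⟨h.1, e _ h.2⟩

end Cj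

theorem exists_norm {a : K} (ha : a ≠ 0) : ∃ n : Kˣ, n * σ n * a = 1 := by
  obtain ⟨b, hb⟩ := Tits.norm_surj σ a⁻¹
  exact ⟨Units.mk0 b (by rintro rfl; simp [eq_comm, ha] at hb), by simp [hb, ha]⟩

theorem cj_vv (P : PC σ r G) (c : K) {a : K} (ha : a ≠ 0) : P.Cj (· = P.u (y6 0 1)) (vv c a) := by
  have := T.char
  obtain ⟨n, hn⟩ := exists_norm (σ := σ) ha
  refine .of_u (x1 (c / a)) (.of_h n (.eq ?_))
  rw [conj_vv]; vsimp; grind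

/-- the classes of involutions in `Q` -/
def InvQ (P : PC σ r G) (x : G) : Prop := x ∈ P.Z ∨ x = P.u (y6 0 1) ∨ x = P.u (x5 1) ∨ x = P.u (x7 1)

theorem cj_V (P : PC σ r G) (c a : K) : P.Cj P.InvQ (vv c a) := by
  rcases eq_or_ne a 0 with rfl | ha
  exacts [.base (Or.inl (mem_Z.2 ⟨c, rfl⟩)), (P.cj_vv c ha).mono fun _ h => Or.inr (Or.inl h)]

theorem cj_x5 (P : PC σ r G) (c d : K) {a : K} (ha : a ≠ 0) : P.Cj (· = P.u (x5 1)) ⟨0, 0, 0, 0, 0, c, a, 0, d, 0, 0, 0⟩ := by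
  have := T.char
  refine .of_u (y8 (d / a) 0) (.of_u (y2 (c / a) 0) (.of_h (Units.mk0 a ha)⁻¹ (.eq ?_)))
  usimp; simp; grind

theorem cj_W1 (P : PC σ r G) (c a d : K) : P.Cj P.InvQ ⟨0, 0, 0, 0, 0, c, a, 0, d, 0, 0, 0⟩ := by
  rcases eq_or_ne a 0 with rfl | ha
  exacts [P.cj_V c d, (P.cj_x5 c d ha).mono fun _ h => Or.inr (Or.inr (Or.inl h))]

theorem cj_W2 (P : PC σ r G) (e c a d : K) : P.Cj P.InvQ ⟨0, 0, 0, e, 0, c, a, 0, d, 0, 0, 0⟩ := by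
  have := T.char
  rcases eq_or_ne e 0 with rfl | he
  · exact P.cj_W1 c a d
  obtain ⟨b, hb⟩ := Tits.surj σ (a / e)
  obtain rfl : a = σ b * e := by rw [hb]; field_simp
  refine .of_u (y8 b 0) (Cj.of_eq (g' := ⟨0, 0, 0, e, 0, c + σ e * b, 0, 0, d + σ b * e * b, 0, 0, 0⟩) ?_
    (by usimp; grind))
  refine .of_u (y8 0 ((d + σ b * e * b) / e)) (Cj.of_eq (g' := ⟨0, 0, 0, e, 0, c + σ e * b, 0, 0, 0, 0, 0, 0⟩) ?_ (by usimp; grind))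
  exact .of_n rfl rfl ((P.cj_W1 (c + σ e * b) e 0).of_eq (by usimp))

theorem cj_W (P : PC σ r G) (f e c a d : K) : P.Cj P.InvQ ⟨0, 0, f, e, 0, c, a, 0, d, 0, 0, 0⟩ := by
  have := T.char
  rcases eq_or_ne f 0 with rfl | hf
  · exact P.cj_W2 e c a d
  have key (c a d : K) : P.Cj P.InvQ ⟨0, 0, f, 0, 0, c, a, 0, d, 0, 0, 0⟩ := by
    obtain ⟨b, hb⟩ := Tits.surj σ (d / f)
    obtain rfl : d = σ b * f := by rw [hb]; field_simp
    exact .of_u (y8 0 b) (.of_n (conj_b8 ..) (conj_c8 _ rfl) ((P.cj_W2 (a + f * b) (c + σ f * b) 0 f).of_eq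
      (by usimp; grind)))
  obtain ⟨b, rfl⟩ : ∃ b, e = f * b := ⟨e / f, by field_simp⟩
  obtain ⟨k, hk⟩ : ∃ k : U σ, k = y8 b 0 * ⟨0, 0, f, f * b, 0, c, a, 0, d, 0, 0, 0⟩ * (y8 b 0)⁻¹ := ⟨_, rfl⟩
  refine .of_u (y8 b 0) (hk ▸ (key k.c4 k.a5 k.c6).of_eq ?_)
  ext <;> first | rfl | (rw [hk]; usimp; try grind)

theorem cj_x7 (P : PC σ r G) (e c a d : K) {f : K} (hf : f ≠ 0) :
    P.Cj (· = P.u (x7 1)) ⟨0, 0, 0, e, 0, c, a, 0, d, f, 0, 0⟩ := by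
  have := T.char
  have k1 (c : K) : P.Cj (· = P.u (x7 1)) ⟨0, 0, 0, 0, 0, c, 0, 0, 0, f, 0, 0⟩ := by
    obtain ⟨n, hn⟩ := exists_norm (σ := σ) hf
    refine .of_u (y2 0 (c / f)) (.of_h n (.eq ?_))
    usimp; grind
  have k2 (c d : K) : P.Cj (· = P.u (x7 1)) ⟨0, 0, 0, 0, 0, c, 0, 0, d, f, 0, 0⟩ :=
    .of_u (y4 (d / f) 0) ((k1 c).of_eq (by usimp; grind))
  have k3 (c a d : K) : P.Cj (· = P.u (x7 1)) ⟨0, 0, 0, 0, 0, c, a, 0, d, f, 0, 0⟩ := by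
    obtain ⟨b, hb⟩ := Tits.surj σ (a / f)
    obtain rfl : a = σ b * f := by rw [hb]; field_simp
    obtain ⟨k, hk⟩ : ∃ k : U σ, k = y2 b 0 * ⟨0, 0, 0, 0, 0, c, σ b * f, 0, d, f, 0, 0⟩ * (y2 b 0)⁻¹ := ⟨_, rfl⟩
    refine .of_u (y2 b 0) (hk ▸ (k2 k.c4 k.c6).of_eq ?_)
    ext <;> first | rfl | (rw [hk]; usimp; try grind)
  obtain ⟨b, hb⟩ := Tits.surj σ (e / f)
  obtain rfl : e = σ b * f := by rw [hb]; field_simp
  obtain ⟨k, hk⟩ : ∃ k : U σ, k = x1 b * ⟨0, 0, 0, σ b * f, 0, c, a, 0, d, f, 0, 0⟩ * (x1 b)⁻¹ := ⟨_, rfl⟩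
  refine .of_u (x1 b) (hk ▸ (k3 k.c4 k.a5 k.c6).of_eq ?_)
  ext <;> first | rfl | (rw [hk]; usimp; try grind)

theorem cj_Q1 (P : PC σ r G) {g : U σ} (h1 : g.a1 = 0) (h2 : g.b8 = 0) (h3 : g.c8 = 0) (h : g * g = 1) :
    P.Cj P.InvQ g := by
  have := T.char
  obtain ⟨a1, b2, c2, a3, b4, c4, a5, b6, c6, a7, b8, c8⟩ := g
  dsimp only at h1 h2 h3
  subst h1 h2 h3
  usimp at h
  obtain rfl : b2 = 0 := Tits.norm_eq_zero σ (by grind)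
  obtain rfl : b6 = 0 := by
    by_contra hb
    obtain rfl : b4 = 0 := by simp only [map_zero] at h; grind
    exact hb (Tits.norm_eq_zero σ (by grind))
  rcases eq_or_ne a7 0 with rfl | h7
  · obtain rfl : b4 = 0 := Tits.norm_eq_zero σ (by grind)
    exact P.cj_W ..
  obtain rfl : b4 = 0 := by simp only [map_zero] at h; grind
  obtain rfl : c2 = 0 := by simp only [map_zero] at h; grind
  exact (P.cj_x7 _ _ _ _ h7).mono fun _ h => Or.inr (Or.inr (Or.inr h))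

theorem cj_Q (P : PC σ r G) {g : U σ} (h2 : g.b8 = 0) (h3 : g.c8 = 0) (h : g * g = 1) : P.Cj P.InvQ g := by
  have := T.char
  rcases eq_or_ne g.a1 0 with h1 | h1
  · exact P.cj_Q1 h1 h2 h3 h
  obtain ⟨b, hb⟩ : ∃ b, g.b2 = g.a1 * b := ⟨g.b2 / g.a1, by field_simp⟩
  obtain ⟨c, hc⟩ : ∃ c, g.b6 = g.a1 * c := ⟨_, (mul_div_cancel₀ _ h1).symm⟩
  obtain ⟨k, hk⟩ : ∃ k : U σ, k = y8 b c * g * (y8 b c)⁻¹ := ⟨_, rfl⟩
  have k0 : k * k = 1 := by rw [hk, conj_mul, h]; simp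
  have k1 : k.a1 = g.a1 := hk ▸ conj_a1 ..
  have k2 : k.b8 = 0 := hk ▸ (conj_b8 ..).trans h2
  have k3 : k.c8 = 0 := hk ▸ (conj_c8 _ h2).trans h3
  have k4 : k.b2 = 0 := by rw [hk]; usimp; grind
  have k5 : k.b6 = 0 := by rw [hk]; usimp; grind
  refine .of_u (y8 b c) (hk ▸ .of_n k2 k3 (P.cj_Q1 ?_ rfl rfl (by rw [← w8_mul k2 k3 k2 k3, k0]; usimp)))
  have := congrArg U.a3 k0
  have h4 := (map_ne_zero σ).2 h1
  usimp at this
  simp only [k1, k2, k3, k4, k5, map_zero] at this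
  usimp
  grind

/-- involutions of `Q` -/
theorem invol_Q (hx : x ∈ P.Q) (h : x * x = 1) : ∃ y ∈ P.C, y * x * y⁻¹ ∈ P.Z ∨ y * x * y⁻¹ = P.u (y6 0 1) ∨
    y * x * y⁻¹ = P.u (x5 1) ∨ y * x * y⁻¹ = P.u (x7 1) := by
  obtain ⟨g, hg, rfl⟩ := hx
  exact P.cj_Q hg.1 hg.2 (P.inj (by simpa using h))

theorem cj_y8 (P : PC σ r G) {g : U σ} (h3 : g.c8 ≠ 0) (h : g * g = 1) :
    P.Cj (fun x => ∃ c, x = P.u (y8 0 1 * y4 0 c)) g := by
  have := T.char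
  have h2 : g.b8 = 0 := b8_eq_zero_iff.2 (h ▸ one_mem _)
  obtain ⟨a1, b2, c2, a3, b4, c4, a5, b6, c6, a7, b8, f⟩ := g
  dsimp only at h2 h3
  subst h2
  have k1 (c d : K) : P.Cj (fun x => ∃ c, x = P.u (y8 0 1 * y4 0 c)) ⟨0, 0, 0, 0, 0, c, 0, 0, d, 0, 0, f⟩ := by
    obtain ⟨a, ha⟩ := Tits.surj σ f
    obtain ⟨n, hn⟩ := exists_norm (σ := σ) (a := a) (by rintro rfl; exact h3 (by rw [← ha, map_zero]))
    replace hn := congrArg σ hn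
    simp only [map_mul, T.sq, map_one, ha] at hn
    refine .of_u (x3 (d / f)) (.of_h n ((Cj.base ⟨c, rfl⟩).of_eq ?_))
    usimp; grind
  have k2 (c a d : K) : P.Cj (fun x => ∃ c, x = P.u (y8 0 1 * y4 0 c)) ⟨0, 0, 0, 0, 0, c, a, 0, d, 0, 0, f⟩ := by
    obtain ⟨b, rfl⟩ : ∃ b, a = b * f := ⟨a / f, by field_simp⟩
    exact .of_u (y2 0 b) ((k1 (c + σ b * f) (d + b * σ f)).of_eq (by usimp; grind))
  have k3 {g : U σ} (h1 : g.a1 = 0) (h2 : g.b2 = 0) (h6 : g.b6 = 0) (h7 : g.a7 = 0) (h8 : g.b8 = 0) (h9 : g.c8 = f)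
      (hg : g * g = 1) : P.Cj (fun x => ∃ c, x = P.u (y8 0 1 * y4 0 c)) g := by
    obtain ⟨a1, b2, c2, a3, b4, c4, a5, b6, c6, a7, b8, c8⟩ := g
    dsimp only at h1 h2 h6 h7 h8 h9
    subst h1 h2 h6 h7 h8 c8
    clear h
    usimp at hg
    obtain rfl : c2 = 0 := by grind
    simp only [map_zero] at hg
    obtain rfl : a3 = 0 := by grind
    obtain rfl : b4 = 0 := Tits.norm_eq_zero σ (by grind)
    exact k2 ..
  have h' := h
  usimp at h'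
  obtain rfl : a1 = 0 := by grind
  obtain rfl : b2 = 0 := by simp only [map_zero] at h'; grind
  obtain ⟨t, rfl⟩ : ∃ t, b6 = t * f := ⟨b6 / f, by field_simp⟩
  obtain ⟨k, hk⟩ : ∃ k : U σ, k = x1 t * ⟨0, 0, c2, a3, b4, c4, a5, t * f, c6, a7, 0, f⟩ * (x1 t)⁻¹ := ⟨_, rfl⟩
  refine .of_u (x1 t) (hk ▸ .of_u (y2 (k.a7 / f) 0) (k3 ?_ ?_ ?_ ?_ ?_ ?_ (by rw [hk, conj_mul, conj_mul, h]; simp)))
  all_goals rw [hk]; usimp; try grind

/-- involutions of `C` -/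
theorem invol (hx : x ∈ P.C) (h : x * x = 1) : ∃ y ∈ P.C, y * x * y⁻¹ ∈ P.Z ∨ y * x * y⁻¹ = P.u (y6 0 1) ∨
    y * x * y⁻¹ = P.u (x5 1) ∨ y * x * y⁻¹ = P.u (x7 1) ∨ ∃ c, y * x * y⁻¹ = P.u (y8 0 1 * y4 0 c) := by
  obtain ⟨z, hz, g, e⟩ := exists_conj_mem_S hx (k := 1) (by rwa [pow_one, sq])
  have hg : g * g = 1 := P.inj (by rw [map_mul, e, conj_mul, h]; simp)
  obtain ⟨y, hy, h⟩ : P.Cj (fun x => x ∈ P.Z ∨ x = P.u (y6 0 1) ∨ x = P.u (x5 1) ∨ x = P.u (x7 1) ∨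
      ∃ c, x = P.u (y8 0 1 * y4 0 c)) g := by
    rcases eq_or_ne g.c8 0 with h8 | h8
    · exact (P.cj_Q (b8_eq_zero_iff.2 (hg ▸ one_mem _)) h8 hg).mono fun _ h => by unfold InvQ at h; tauto
    · exact (P.cj_y8 h8 hg).mono fun _ h => by tauto
  exact ⟨y * z, mul_mem hy hz, by simpa only [e, mul_inv_rev, mul_assoc] using h⟩

end PC

end CL.RF
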