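/-
INV library (large Ree groups): first consequences of the hypothesis `PC.Hyp`.
-/
import Cfsg.Agent.INV.RF.Bru
import Cfsg.Agent.TECH.SylIn
import Cfsg.Agent.SOLV.CoprimeSylow
import Cfsg.Agent.SOLV.Core

set_option autoImplicit false
set_option linter.unusedSimpArgs false
set_option linter.unusedSectionVars false

namespace CL.RF

open U Subgroup CL.MSS

variable {K : Type*} [Field K] {σ : K →+* K} [T : Tits σ] {r : R8 K} {G : Type*} [Group G]

theorem conj_mem_Cp {t x : G} (g : G) (h : x ∈ Cp t) : g * x * g⁻¹ ∈ Cp (g * t * g⁻¹) := by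
  refine (?_ : g •ᶜ Cp t ≤ _) (conj_mem_cj h)
  rw [Cp, cj_closure]
  refine closure_mono ?_
  rintro _ ⟨y, ⟨h1, k, hk⟩, rfl⟩
  exact ⟨by simp only [conj_mul, h1], k, by rw [conj_pow, hk]; simp⟩

theorem mem_Cp_conj {t g x : G} : x ∈ Cp (g * t * g⁻¹) ↔ g⁻¹ * x * g ∈ Cp t :=
  ⟨fun h => by simpa [mul_assoc] using conj_mem_Cp g⁻¹ h, fun h => by simpa [mul_assoc] using conj_mem_Cp g h⟩
theorem comm_of_mem_Cp {t x : G} (h : x ∈ Cp t) : x * t = t * x :=
  mem_centralizer_singleton_iff.1 ((closure_le (centralizer {t})).2 (fun _ h => mem_centralizer_singleton_iff.2 h.1) h)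
theorem mem_Cp {t x : G} (h : x * t = t * x) {k : ℕ} (hk : x ^ 2 ^ k = 1) : x ∈ Cp t := Subgroup.subset_closure ⟨h, k, hk⟩

namespace Ba

theorem conj_comm {x a b : G} (h : x⁻¹ * b * x * a = a * (x⁻¹ * b * x)) : b * (x * a * x⁻¹) = x * a * x⁻¹ * b :=
  calc b * (x * a * x⁻¹) = x * (x⁻¹ * b * x * a) * x⁻¹ := by group
    _ = _ := by rw [h]; group

theorem norm_of [Finite G] {A : Subgroup G} {x : G} (h : ∀ a ∈ A, x * a * x⁻¹ ∈ A) : x ∈ normalizer (A : Set G) :=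
  mem_normalizer_of_cj_le (cj_le_iff_forall.2 h)

theorem exists_odd [Finite G] (x : G) : ∃ k, Odd (orderOf (x ^ 2 ^ k)) := by
  obtain ⟨k, m, hm, e⟩ := Nat.exists_eq_two_pow_mul_odd (orderOf_pos x).ne'
  exact ⟨k, hm.of_dvd_nat (orderOf_dvd_of_pow_eq_one (by rw [← pow_mul, ← e, pow_orderOf_eq_one]))⟩

theorem Z_sq {P : PC σ r G} {x : G} (hx : x ∈ P.Z) : x * x = 1 := by
  have := T.char
  obtain ⟨c, rfl⟩ := PC.mem_Z.1 hx
  rw [← map_mul, ← map_one P.u]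
  congr 1
  usimp
  grind

theorem Z_le_Q {P : PC σ r G} : P.Z ≤ P.Q := map_mono (by rintro _ ⟨c, rfl⟩; exact ⟨rfl, rfl⟩)

end Ba

open Ba

namespace PC.Hyp

variable [Finite K] [Finite G] {P : PC σ r G} (h : P.Hyp) {x : G}
include h

theorem exists_sylow : ∃ S : Sylow 2 G, (S : Subgroup G) = P.S :=
  ⟨P.isPGroup_S.toSylow h.odd.not_two_dvd_nat, rfl⟩

theorem sylIn {H : Subgroup G} (hH : P.S ≤ H) : SylIn 2 P.S H := by
  obtain ⟨S, hS⟩ := h.exists_sylow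
  exact hS ▸ sylIn_sylow S (hS ▸ hH)

/-- a 2-element normalising `C` lies in `C` -/
theorem mem_C_of_two (hx : x ∈ Subgroup.normalizer (P.C : Set G)) {k : ℕ} (hk : x ^ 2 ^ k = 1) : x ∈ P.C := by
  obtain ⟨n, hn, e⟩ := (h.sylIn (P.S_le_C.trans le_normalizer)).exists_conj_le (isPGroup_zpowers hk) (zpowers_le.2 hx)
  exact (hn x).2 (P.S_le_C (e (conj_mem_cj (mem_zpowers x))))
/-- a 2-element normalising `S` lies in `S` -/
theorem mem_S_of_two (hx : x ∈ Subgroup.normalizer (P.S : Set G)) {k : ℕ} (hk : x ^ 2 ^ k = 1) : x ∈ P.S :=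
  (h.sylIn le_top).le_of_normalizes (isPGroup_zpowers hk) le_top (zpowers_le.2 hx) (mem_zpowers x)
theorem Cp_τ : Cp P.τ = P.C :=
  le_antisymm ((closure_le _).2 fun x ⟨e, _, hk⟩ => h.mem_C_of_two (h.norm x e) hk) (P.C_le_Cp 1)
/-- a conjugate of `τ` in `Z` has the same `Cp` -/
theorem mem_normalizer_of_conj {g : G} (hg : g * P.τ * g⁻¹ ∈ P.Z) : g ∈ Subgroup.normalizer (P.C : Set G) := by
  obtain ⟨c, hc⟩ := PC.mem_Z.1 hg
  refine mem_normalizer_iff_cj.2 (cj_eq_of_ge fun x hx => mem_cj.2 ?_)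
  rw [← h.Cp_τ, ← mem_Cp_conj, hc]
  exact P.C_le_Cp c hx
theorem Cp_of_conj {g : G} (hg : g * P.τ * g⁻¹ ∈ P.Z) : Cp (g * P.τ * g⁻¹) = P.C := by
  ext x
  rw [mem_Cp_conj, h.Cp_τ, ← mem_cj, cj_eq_of_mem_normalizer (h.mem_normalizer_of_conj hg)]
theorem normalizer_C_le_Z : Subgroup.normalizer (P.C : Set G) ≤ Subgroup.normalizer (P.Z : Set G) := fun x hx =>
  norm_of fun z hz => by
    obtain ⟨c, rfl⟩ := PC.mem_Z.1 hz
    exact PC.mem_Z_of_comm_Q (conj_mem_of_normalizes le_rfl hx (P.u_mem_C _)) fun y hy => (conj_comm (PC.comm_Z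
      (conj_mem_of_normalizes' le_rfl hx (P.S_le_C (map_le_range _ _ hy))) c)).symm
theorem normalizer_C_le_Q : Subgroup.normalizer (P.C : Set G) ≤ Subgroup.normalizer (P.Q : Set G) := fun x hx => by
  have hQ : P.Q ≤ P.C := (map_le_range _ _).trans P.S_le_C
  have h1 : P.C ≤ normalizer ((x •ᶜ P.Q : Subgroup G) : Set G) := by
    rw [← cj_normalizer, ← cj_eq_of_mem_normalizer hx]
    exact cj_mono x P.C_le_normalizer_Q
  have h2 : x •ᶜ P.Q ≤ P.S := (h.sylIn P.S_le_C).le_of_normalized (isPGroup_cj x (P.isPGroup_S.to_le (map_le_range _ _)))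
    (cj_le_of_mem_normalizer hQ hx) (P.S_le_C.trans h1)
  refine mem_normalizer_of_cj_le fun y hy => PC.mem_Q_of_n8 (h2 hy) (h2 ?_)
  have := conj_mem_of_normalizes h1 P.n8_mem_C hy
  rwa [P.n8_inv] at this
theorem normalizer_Z_le : Subgroup.normalizer (P.Z : Set G) ≤ Subgroup.normalizer (P.C : Set G) := fun _ hx =>
  h.mem_normalizer_of_conj (conj_mem_of_normalizes le_rfl hx (PC.mem_Z.2 ⟨1, rfl⟩))
theorem normalizer_S_le : Subgroup.normalizer (P.S : Set G) ≤ Subgroup.normalizer (P.C : Set G) := fun _ hx =>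
  h.mem_normalizer_of_conj (PC.mem_Z_of_comm_Q (P.S_le_C (conj_mem_of_normalizes le_rfl hx (P.u_mem_S _))) fun _ hy =>
    (conj_comm (PC.comm_Z (P.S_le_C (conj_mem_of_normalizes' le_rfl hx (map_le_range _ _ hy))) 1)).symm)
theorem normalizer_S_le_V : Subgroup.normalizer (P.S : Set G) ≤ Subgroup.normalizer (P.V : Set G) := fun x hx =>
  norm_of (by
    rintro _ ⟨v, hv, rfl⟩
    obtain ⟨w, hw⟩ := conj_mem_of_normalizes le_rfl hx (P.u_mem_S v)
    refine ⟨w, mem_V_iff.2 fun k => PC.u_mem_map (P := P).1 ?_, hw⟩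
    obtain ⟨k', hk⟩ := conj_mem_of_normalizes' le_rfl hx (P.u_mem_S k)
    have := conj_mem_of_normalizes (h.normalizer_S_le.trans h.normalizer_C_le_Z) hx
      (mem_map_of_mem P.u (mem_V_iff.1 hv k'))
    simp only [map_mul, map_inv, hw, hk] at this ⊢
    rwa [show x * (P.u v * (x⁻¹ * P.u k * x) * (P.u v)⁻¹ * (x⁻¹ * P.u k * x)⁻¹) * x⁻¹ =
      x * P.u v * x⁻¹ * P.u k * (x * P.u v * x⁻¹)⁻¹ * (P.u k)⁻¹ by group] at this)
theorem normalizer_S_le_Q' : Subgroup.normalizer (P.S : Set G) ≤ Subgroup.normalizer (P.Q' : Set G) := fun x hx =>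
  norm_of (by
    rintro _ ⟨g, hg, rfl⟩
    refine PC.mem_Q'_of_comm (c := 0) (P.S_le_C (conj_mem_of_normalizes le_rfl hx (P.u_mem_S g))) one_ne_zero
      (conj_comm ?_).symm
    obtain ⟨c, a, e⟩ := PC.mem_V.1 (conj_mem_of_normalizes' h.normalizer_S_le_V hx (PC.mem_V.2 ⟨0, 1, rfl⟩))
    rw [e, ← map_mul, ← map_mul, eq_comm, mul_inv_eq_iff_eq_mul.1 (conj_vv g c a), show g.a1 = 0 from hg, zero_mul,
      add_zero])
theorem normalizer_Q'_le_V : Subgroup.normalizer (P.Q' : Set G) ≤ Subgroup.normalizer (P.V : Set G) := fun x hx =>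
  norm_of fun v hv => by
    obtain ⟨c, a, rfl⟩ := PC.mem_V.1 hv
    obtain ⟨w, -, hw⟩ := conj_mem_of_normalizes le_rfl hx (PC.u_mem_Q'.2 rfl : P.u (vv c a) ∈ P.Q')
    refine ⟨w, mem_V_of_comm fun k hk => P.inj ?_, hw⟩
    obtain ⟨g, hg, e⟩ := conj_mem_of_normalizes' le_rfl hx (PC.u_mem_Q'.2 hk)
    rw [map_mul, map_mul, hw]
    refine (conj_comm ?_).symm
    rw [← e, ← map_mul, ← map_mul, mul_inv_eq_iff_eq_mul.1 (conj_vv g c a), show g.a1 = 0 from hg, zero_mul, add_zero]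
/-- `C_G(Q) = Z`, so `C_G(S) = C_G(C) = Z` -/
theorem mem_Z_of_comm_Q (hx : ∀ y ∈ P.Q, x * y = y * x) : x ∈ P.Z := by
  set D := centralizer (P.Q : Set G)
  set M := centralizer ({P.τ} : Set G)
  have hτ : P.τ ∈ P.Q := Z_le_Q (PC.mem_Z.2 ⟨1, rfl⟩)
  have hDM : D ≤ M := fun y hy => mem_centralizer_singleton_iff.2 (hy _ hτ).symm
  have hMD : M ≤ normalizer (D : Set G) := le_normalizer_centralizer fun y hy =>
    h.normalizer_C_le_Q (h.norm y (mem_centralizer_singleton_iff.1 hy))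
  have hZD : P.Z ≤ D := fun z hz y hy => by
    obtain ⟨c, rfl⟩ := PC.mem_Z.1 hz
    exact PC.comm_Z (P.S_le_C (map_le_range _ _ hy)) c
  have h3 : SylIn 2 P.Z D := ⟨hZD, P.isPGroup_S.to_le (map_le_range _ _), fun E hE e1 e2 => le_antisymm (fun y hy => by
    obtain ⟨k, hk⟩ := isPGroup_iff_forall_mem.1 hE y hy
    exact PC.mem_Z_of_comm_Q (h.mem_C_of_two (h.norm y (mem_centralizer_singleton_iff.1 (hDM (e2 hy)))) hk)
      fun w hw => (e2 hy w hw).symm) e1⟩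
  have h5 : normalizer ((h3.toSylow : Subgroup D) : Set D) ≤ centralizer ((h3.toSylow : Subgroup D) : Set D) :=
    fun d _ z hz => Subtype.ext (d.2 z (Z_le_Q hz))
  have h6 := MonoidHom.ker_transferSylow_isComplement' _ h5
  set R := (MonoidHom.transferSylow _ h5).ker
  have h7 : R = ⊥ := by
    have h8 := map_pPrimeCore_le_map_pPrimeCore (p := 2) hDM hMD
    rw [show Cfsg.pPrimeCore 2 M = ⊥ from h.core, Subgroup.map_bot, le_bot_iff, map_eq_bot_iff_of_injective _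
      D.subtype_injective] at h8
    rw [← le_bot_iff, ← h8]
    refine le_pPrimeCore ?_
    rw [← h6.index_eq_card]
    exact ((Nat.Prime.coprime_iff_not_dvd Nat.prime_two).2 h3.toSylow.not_dvd_index).symm
  have h8 := h6.sup_eq_top
  rw [h7, bot_sup_eq, h3.coe_toSylow, subgroupOf_eq_top] at h8
  exact h8 fun y hy => (hx y hy).symm
/-- Frattini argument -/
theorem frattini_arg (hx : x ∈ Subgroup.normalizer (P.C : Set G)) :
    ∃ c ∈ P.C, c * x ∈ Subgroup.normalizer (P.S : Set G) := by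
  obtain ⟨n, hn, y, hy, rfl⟩ := (h.sylIn P.S_le_C).frattini hx
  exact ⟨n⁻¹, inv_mem hn, by rwa [inv_mul_cancel_left]⟩
/-- an element normalising `S` and centralising `H₁` acts on `S / Φ(S)` by scalars -/
theorem scalar (hx : x ∈ Subgroup.normalizer (P.S : Set G)) (hc : ∀ n, x * P.h1 n = P.h1 n * x) :
    ∃ t : Kˣ × Kˣ, ∀ g g', x * P.u g * x⁻¹ = P.u g' → g'.a1 = (tor t g).a1 ∧ g'.b8 = (tor t g).b8 := by
  have := T.char
  have k1 : ∀ {g g'}, x * P.u g * x⁻¹ = P.u g' → (g'.a1 = 0 ↔ g.a1 = 0) := fun e => by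
    rw [← PC.u_mem_Q' (P := P), ← PC.u_mem_Q' (P := P), ← e]
    exact (h.normalizer_S_le_Q' hx _).symm
  have k8 : ∀ {g g'}, x * P.u g * x⁻¹ = P.u g' → (g'.b8 = 0 ↔ g.b8 = 0) := fun e => by
    rw [b8_eq_zero_iff, b8_eq_zero_iff, ← PC.u_mem_map (P := P), ← PC.u_mem_map (P := P), map_mul, map_mul, ← e, conj_mul]
    exact (h.normalizer_C_le_Q (h.normalizer_S_le hx) _).symm
  have kd : ∀ {g g' k k'}, x * P.u g * x⁻¹ = P.u g' → x * P.u k * x⁻¹ = P.u k' →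
      x * P.u (g * k⁻¹) * x⁻¹ = P.u (g' * k'⁻¹) := fun e e' => by
    simp only [map_mul, map_inv, ← e, ← e']
    group
  have kt : ∀ {g g'} (n : Kˣ), x * P.u g * x⁻¹ = P.u g' → x * P.u (tr n 1 g) * x⁻¹ = P.u (tr n 1 g') := fun {g g'} n e => by
    have e1 := P.h1u n
    simp only [tor_apply, Units.val_one] at e1
    rw [← e1, ← e1, ← e]
    calc _ = x * P.h1 n * P.u g * (x * P.h1 n)⁻¹ := by group
      _ = _ := by rw [hc]; group
  obtain ⟨a, ha⟩ := conj_mem_of_normalizes le_rfl hx (P.u_mem_S (x1 1))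
  obtain ⟨b, hb⟩ := conj_mem_of_normalizes le_rfl hx (P.u_mem_S (y8 1 0))
  have ha0 : a.a1 ≠ 0 := fun e => one_ne_zero ((k1 ha.symm).1 e)
  have hb0 : b.b8 ≠ 0 := fun e => one_ne_zero ((k8 hb.symm).1 e)
  have e1 : ∀ g g', x * P.u g * x⁻¹ = P.u g' → g'.a1 = a.a1 * g.a1 := fun g g' e => by
    by_cases h0 : g.a1 = 0
    · rw [(k1 e).2 h0, h0, mul_zero]
    obtain ⟨n, hn⟩ := Tits.norm_surj σ g.a1⁻¹
    have := (k1 (kd e (kt (Units.mk0 n (left_ne_zero_of_mul (hn ▸ inv_ne_zero h0))) ha.symm))).2 (by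
      usimp
      rw [Units.val_mk0, hn]
      grind)
    usimp at this
    rw [Units.val_mk0, hn] at this
    grind
  have e8 : ∀ g g', x * P.u g * x⁻¹ = P.u g' → g'.b8 = b.b8 * g.b8 := fun g g' e => by
    by_cases h0 : g.b8 = 0
    · rw [(k8 e).2 h0, h0, mul_zero]
    obtain ⟨n, hn⟩ := Tits.surj σ g.b8
    have := (k8 (kd e (kt (Units.mk0 n ((map_ne_zero σ).1 (hn ▸ h0))) hb.symm))).2 (by
      usimp
      rw [Units.val_mk0, hn]
      grind)
    usimp at this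
    rw [Units.val_mk0, hn] at this
    grind
  have hm : a.a1 * b.b8 ^ 2 ≠ 0 := mul_ne_zero ha0 (pow_ne_zero _ hb0)
  have hm' := (map_ne_zero σ).2 hm
  have ha1 := (map_ne_zero σ).2 ha0
  have hb1 := (map_ne_zero σ).2 hb0
  refine ⟨(Units.mk0 _ (mul_ne_zero hm hm'), Units.mk0 _ (div_ne_zero ((map_ne_zero σ).2 (mul_ne_zero hm hm')) hb0)),
    fun g g' e => ?_⟩
  rw [e1 g g' e, e8 g g' e, tor_apply, Units.val_mk0, Units.val_mk0]
  usimp
  constructor <;> field_simp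
/-- an element acting trivially on `S / Φ(S)` lies in `S` -/
theorem mem_S_of_triv (hq : 2 < Nat.card K) (hx : x ∈ Subgroup.normalizer (P.S : Set G))
    (hc : ∀ g g', x * P.u g * x⁻¹ = P.u g' → g'.a1 = g.a1 ∧ g'.b8 = g.b8) : x ∈ P.S := by
  have := T.char
  obtain ⟨k, hk⟩ := exists_odd x
  have h0 : ∀ y ∈ zpowers x, ∀ g, ∃ g', y * P.u g * y⁻¹ = P.u g' ∧ g'.a1 = g.a1 ∧ g'.b8 = g.b8 := by
    intro y hy
    rw [← mem_powers_iff_mem_zpowers] at hy
    obtain ⟨n, rfl⟩ := hy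
    induction n with
    | zero => exact fun g => ⟨g, by simp, rfl, rfl⟩
    | succ n ih =>
      intro g
      obtain ⟨g', e, e1, e2⟩ := ih g
      obtain ⟨g'', e'⟩ := conj_mem_of_normalizes le_rfl hx (P.u_mem_S g')
      have := hc _ _ e'.symm
      refine ⟨g'', ?_, this.1.trans e1, this.2.trans e2⟩
      rw [e', ← e]
      simp only [pow_succ']
      group
  have h1 : P.S ≤ centralizer (zpowers (x ^ 2 ^ k) : Set G) := by
    refine coprime_le_centralizer_of_commutator_le_frattini _ P.S (zpowers_le.2 (pow_mem hx _)) ?_ ?_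
    · exact coprime_card_of_isPGroup (P.isPGroup_S.to_subgroup _) (by
        rw [Nat.card_zpowers]; exact Nat.coprime_two_right.2 hk)
    · rw [commutator_comm, commutator_le]
      rintro w hw _ ⟨g, rfl⟩
      obtain ⟨g', e, e1, e2⟩ := h0 w (zpowers_le.2 (pow_mem (mem_zpowers x) _) hw) g
      rw [commutatorElement_def, e, ← map_inv, ← map_mul]
      have h2 : g' * g⁻¹ ∈ frattini (U σ) := mem_frattini hq (by usimp; grind) (by usimp; grind)
      refine ⟨MonoidHom.ofInjective P.inj (g' * g⁻¹), ?_, rfl⟩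
      exact frattini_le_comap_frattini_of_surjective (MonoidHom.ofInjective P.inj).surjective h2
  refine h.mem_S_of_two hx (k := k + 1) ?_
  rw [pow_succ, pow_mul, pow_two]
  exact Z_sq (h.mem_Z_of_comm_Q fun y hy => h1 (map_le_range _ _ hy) _ (mem_zpowers _))

end PC.Hyp

theorem P8.hyp_of [Finite K] [Finite G] (P : P8 σ r G) (h1 : Odd P.S.index)
    (h2 : ∀ g, g * P.τ = P.τ * g → g ∈ Subgroup.normalizer (P.C : Set G))
    (h3 : Cfsg.oddCore (Subgroup.centralizer ({P.τ} : Set G)) = ⊥) : P.Hyp := by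
  have e1 : ∀ s n, P.h2 s * P.h1 n * (P.h2 s)⁻¹ = P.h1 n := fun s n => by rw [← P.h12, mul_inv_cancel_right]
  have e2 : ∀ s, P.h2 s * P.n8 * (P.h2 s)⁻¹ = (P.h1 (σu σ s))⁻¹ * P.n8 := fun s => by
    rw [← map_inv P.h1, ← P.n8h1, mul_assoc _ P.n8 P.n8, P.n8n8, mul_one, mul_inv_eq_iff_eq_mul, mul_assoc, ← P.n8h2, ← mul_assoc,
      ← mul_assoc, P.n8n8, one_mul]
  have hn : ∀ s, P.h2 s ∈ normalizer (P.C : Set G) := fun s => mem_normalizer_of_cj_le (cj_le_iff.2 (P.C_le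
    (fun g => mem_cj.2 (by rw [inv_inv, P.h2u]; exact P.u_mem_C _))
    (fun n => mem_cj.2 (by rw [inv_inv, e1]; exact P.h1_mem_C _))
    (mem_cj.2 (by rw [inv_inv, e2]; exact mul_mem (inv_mem (P.h1_mem_C _)) P.n8_mem_C))))
  refine ⟨h1, h2, h3, P.C.normalizerMonoidHom.comp (P.h2.codRestrict _ hn), fun s g x e => ?_, fun s n x e => ?_,
    fun s x e => ?_⟩
  · exact (congrArg (fun y => P.h2 s * y * (P.h2 s)⁻¹) e).trans (P.h2u s g)
  · exact Subtype.ext ((congrArg (fun y => P.h2 s * y * (P.h2 s)⁻¹) e).trans ((e1 s n).trans e.symm))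
  · exact (congrArg (fun y => P.h2 s * y * (P.h2 s)⁻¹) e).trans (e2 s)

end CL.RF
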