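/-
INV library (large Ree groups): preparations for the braid relation (torus, Bender transitivity).
-/
import Cfsg.Agent.INV.RF.Bas
import Cfsg.Agent.INV.Bender.Cons

set_option autoImplicit false
set_option linter.unusedSimpArgs false
set_option linter.unusedSectionVars false

namespace CL.RF

open U

namespace Br

/-- Bender: the 2-elements of a strongly embedded subgroup are transitive on the other cosets. -/
theorem bender_two {Y : Type*} [Group Y] [Finite Y] {M : Subgroup Y} (hM : Cfsg.IsStronglyEmbedded M)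
    (h2 : CL.PS.Rank2 Y) {g₁ g₂ : Y} (h₁ : g₁ ∉ M) (h₂ : g₂ ∉ M) :
    ∃ x ∈ M, (∃ k, x ^ 2 ^ k = 1) ∧ g₂⁻¹ * (x * g₁) ∈ M := by
  have := CL.Bender.nontrivial_quot hM.1
  obtain ⟨_, hπ, _, hR, h⟩ := CL.Bender.exists_quot (CL.IFix.of_isStronglyEmbedded hM) h2
  obtain ⟨t, Q, hS, hQ⟩ := h ((1 : Y) : Y ⧸ M)
  set a : Y ⧸ M := ((1 : Y) : Y ⧸ M) with ha
  have h3 : ∀ g ∉ M, a ≠ g := fun g hg e => hg ((CL.IFix.coe_eq_one_iff M _).1 e.symm)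
  have hta : a ≠ t • a := fun e => hS.not_mem e.symm
  -- `Q` is transitive on the other points
  have key : ∀ b : Y ⧸ M, a ≠ b → ∃ x ∈ Q, x • t • a = b := by
    intro b hb
    obtain ⟨x, e1, e2⟩ := MulAction.is_two_pretransitive_iff.1 hS.two_transitive hta hb
    have hx : x ∈ Q ⊔ (MulAction.stabilizer _ a ⊓ MulAction.stabilizer _ (t • a)) := hS.sup_eq.symm ▸ e1
    have hn : (MulAction.stabilizer _ a ⊓ MulAction.stabilizer (Y ⧸ Cfsg.oddCore Y) (t • a)) ≤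
        Subgroup.normalizer (Q : Set (Y ⧸ Cfsg.oddCore Y)) := fun d hd =>
      Subgroup.mem_normalizer_iff.2 fun y => ⟨hS.conj_mem d hd.1 y, fun hy => by
        simpa [mul_assoc] using hS.conj_mem d⁻¹ (inv_mem hd.1) _ hy⟩
    have hx' : x ∈ ((Q ⊔ (MulAction.stabilizer _ a ⊓ MulAction.stabilizer _ (t • a)) : Subgroup _) : Set _) := hx
    rw [Subgroup.coe_mul_of_right_le_normalizer_left _ _ hn] at hx'
    obtain ⟨y, hy, d, hd, rfl⟩ := hx'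
    refine ⟨y, hy, ?_⟩
    rw [← e2, mul_smul, show d • t • a = t • a from hd.2]
  obtain ⟨x₁, hx₁, e₁⟩ := key _ (h3 _ h₁)
  obtain ⟨x₂, hx₂, e₂⟩ := key _ (h3 _ h₂)
  have hx : x₂ * x₁⁻¹ ∈ Q := mul_mem hx₂ (inv_mem hx₁)
  have e : (x₂ * x₁⁻¹) • (g₁ : Y ⧸ M) = g₂ := by rw [← e₁, ← e₂, ← mul_smul, inv_mul_cancel_right]
  obtain ⟨x, hxe⟩ := QuotientGroup.mk_surjective (x₂ * x₁⁻¹)
  rw [← hxe] at hx e
  obtain ⟨k, hk⟩ := hQ ⟨_, hx⟩
  have hk' : (x : Y ⧸ Cfsg.oddCore Y) ^ 2 ^ k = 1 := congrArg Subtype.val hk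
  -- the 2-part of `x`
  obtain ⟨j, m, hm, hjm⟩ := Nat.exists_eq_two_pow_mul_odd (orderOf_pos x).ne'
  have hc : Nat.Coprime m (2 ^ k) := Nat.Coprime.pow_right _ (Nat.coprime_two_right.2 hm)
  obtain ⟨l, hl⟩ := exists_pow_eq_self_of_coprime (hc.coprime_dvd_right (orderOf_dvd_of_pow_eq_one hk'))
  have hxl : ((x ^ (m * l) : Y) : Y ⧸ Cfsg.oddCore Y) = x := by
    rw [QuotientGroup.mk_pow, pow_mul]
    exact hl
  have hxM : x ∈ M := (CL.IFix.mem_iff_smul_one M x).2 ((hπ x _).symm.trans (hS.le hx))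
  refine ⟨x ^ (m * l), pow_mem hxM _, ⟨j, ?_⟩, ?_⟩
  · rw [← pow_mul, show m * l * 2 ^ j = orderOf x * l by rw [hjm]; ring, pow_mul, pow_orderOf_eq_one, one_pow]
  · rw [← hxl, hπ] at e
    exact QuotientGroup.eq.1 e.symm

variable {K : Type*} [Field K] {σ : K →+* K} [T : Tits σ] {r : R8 K} {G : Type*} [Group G]

section P8

variable (P : P8 σ r G)

theorem h_comm (t t' : Kˣ × Kˣ) : P.h t * P.h t' = P.h t' * P.h t := by rw [← map_mul, ← map_mul, mul_comm]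
theorem h_fst (n : Kˣ) : P.h (n, 1) = P.h1 n := by simp [P8.h_apply]
theorem h_snd (s : Kˣ) : P.h (1, s) = P.h2 s := by simp [P8.h_apply]

theorem h_inj : Function.Injective P.h := by
  rw [injective_iff_map_eq_one]
  rintro ⟨n, s⟩ h
  have h1 := P.hu (n, s) (x5 1)
  have h2 := P.hu (n, s) (y4 0 1)
  rw [h, one_mul, inv_one, mul_one] at h1 h2
  have e1 := congrArg U.a5 (P.inj h1)
  have e2 := congrArg U.c4 (P.inj h2)
  simp only [tor_apply, tr_a5, x5_a5, tr_c4, y4_c4, mul_one] at e1 e2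
  ext
  · exact e1.symm
  · exact e2.symm

theorem n8h (t : Kˣ × Kˣ) : P.n8 * P.h t * P.n8 = P.h (σu σ t.2 * t.1⁻¹, t.2) := by
  have h : P.n8 * P.h t * P.n8 = (P.n8 * P.h1 t.1 * P.n8) * (P.n8 * P.h2 t.2 * P.n8) := by
    rw [P8.h_apply]; simp only [mul_assoc, ← mul_assoc P.n8 P.n8, P.n8n8, one_mul]
  rw [h, P.n8h1, P.n8h2, P8.h_apply, ← mul_assoc, ← map_mul, mul_comm t.1⁻¹]

theorem h_mem_normalizer_S (t : Kˣ × Kˣ) : P.h t ∈ Subgroup.normalizer (P.S : Set G) :=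
  Subgroup.mem_normalizer_iff.2 fun y => ⟨fun ⟨g, e⟩ => e ▸ ⟨_, (P.hu t g).symm⟩, fun ⟨g, e⟩ => ⟨tor t⁻¹ g, by
    rw [← P.hu, e, map_inv]; simp [mul_assoc]⟩⟩

theorem h_conj_Z (t : Kˣ × Kˣ) (c : K) : P.h t * P.u (y4 0 c) * (P.h t)⁻¹ = P.u (y4 0 (t.2 * c)) := by
  rw [P.hu]; congr 1; rw [tor_apply]; usimp

theorem h_conj_y4 (t : Kˣ × Kˣ) (b c : K) :
    P.h t * P.u (y4 b c) * (P.h t)⁻¹ = P.u (y4 (σ t.2 / t.2 * b) (t.2 * c)) := by
  rw [P.hu]; congr 1; rw [tor_apply]; usimp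

theorem h_mem_normalizer_Z (t : Kˣ × Kˣ) : P.h t ∈ Subgroup.normalizer (P.Z : Set G) :=
  Subgroup.mem_normalizer_iff.2 fun y => ⟨fun hy => by
    obtain ⟨c, rfl⟩ := PC.mem_Z.1 hy
    exact PC.mem_Z.2 ⟨_, h_conj_Z P t c⟩, fun hy => by
    obtain ⟨c, e⟩ := PC.mem_Z.1 hy
    exact PC.mem_Z.2 ⟨_, by rw [← h_conj_Z P t⁻¹ c, ← e, map_inv]; simp [mul_assoc]⟩⟩

/-- `Z` is a TI-set -/
theorem ti [Finite K] [Finite G] (h : P.Hyp) {g z : G} (hz : z ∈ P.Z) (h1 : z ≠ 1) (hg : g * z * g⁻¹ ∈ P.Z) :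
    g ∈ Subgroup.normalizer (P.Z : Set G) := by
  obtain ⟨c, rfl⟩ := PC.mem_Z.1 hz
  have hc : c ≠ 0 := fun e => h1 (by rw [e]; exact map_one P.u)
  have e := h_conj_Z P (1, Units.mk0 c hc) 1
  simp only [Units.val_mk0, mul_one] at e
  have h2 : g * P.h (1, Units.mk0 c hc) ∈ Subgroup.normalizer (P.Z : Set G) :=
    h.normalizer_C_le_Z (h.mem_normalizer_of_conj (by rw [← e] at hg; simpa [mul_assoc, PC.τ] using hg))
  simpa using mul_mem h2 (inv_mem (h_mem_normalizer_Z P (1, Units.mk0 c hc)))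

theorem ne_of_ne_one {κ : Kˣ} (hκ : κ ≠ 1) :
    (κ : K) ≠ 1 ∧ σ κ ≠ 1 ∧ κ * σ κ ≠ 1 ∧ σ κ * κ ^ 2 ≠ 1 ∧ σ κ ≠ κ := by
  have h1 : (κ : K) ≠ 1 := fun e => hκ (Units.ext e)
  have h3 : (κ : K) * σ κ ≠ 1 := fun e => h1 (Tits.norm_inj σ (by simpa using e))
  refine ⟨h1, fun e => h1 (σ.injective (by simpa using e)), h3, fun e => h3 (σ.injective ?_), fun e => ?_⟩
  · rw [map_mul, T.sq, e, map_one]
  · rcases Tits.eq_of_fix σ e with e | e
    · exact κ.ne_zero e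
    · exact h1 e

theorem eq_zero_of_mul {a b : K} (ha : a ≠ 1) (h : a * b = b) : b = 0 := by
  by_contra hb
  exact ha (mul_right_cancel₀ hb (by rw [h, one_mul]))

/-- the element `k₈` -/
def k8 (κ : Kˣ) : Kˣ × Kˣ := (κ * σu σ κ, σu σ κ * κ ^ 2)

theorem tor_k8 (κ : Kˣ) (g : U σ) : tor (k8 (σ := σ) κ) g = dia (κ : K) 1 g := by
  have h1 := κ.ne_zero
  have h2 := (map_ne_zero σ).2 h1
  rw [tor_apply, tr_eq_dia (Units.ne_zero _) (Units.ne_zero _)]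
  congr 1
  · simp only [k8, Units.val_mul, σu_val, Units.val_pow_eq_pow_val, map_mul, T.sq]; field_simp
  · simp only [k8, Units.val_mul, σu_val, Units.val_pow_eq_pow_val, map_mul, T.sq]; field_simp

theorem eq_y8_of_fix {κ : Kˣ} (hκ : κ ≠ 1) {g : U σ} (h : tor (k8 (σ := σ) κ) g = g) : g = y8 g.b8 g.c8 := by
  obtain ⟨h1, h2, h3, h4, -⟩ := ne_of_ne_one (σ := σ) hκ
  rw [tor_k8] at h
  have h5 : (κ : K) ^ 2 * σ κ ≠ 1 := by rwa [mul_comm]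
  usimp at h ⊢
  obtain ⟨e1, e2, e3, e4, e5, e6, e7, e8, e9, e10⟩ := h
  exact ⟨eq_zero_of_mul h1 e1, eq_zero_of_mul h1 e2, eq_zero_of_mul h3 e3, eq_zero_of_mul h3 e4, eq_zero_of_mul h2 e5,
    eq_zero_of_mul h5 e6, eq_zero_of_mul h3 e7, eq_zero_of_mul h1 e8, eq_zero_of_mul h3 e9, eq_zero_of_mul h1 e10⟩

theorem eq_one_of_fix {κ : Kˣ} (hκ : κ ≠ 1) {g : U σ} (h : ∀ t, tor t g = g) : g = 1 := by
  obtain ⟨h1, h2, h3, h4, -⟩ := ne_of_ne_one (σ := σ) hκ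
  have e := eq_y8_of_fix hκ (h _)
  have e1 := congrArg U.b8 (h (κ, 1))
  have e2 := congrArg U.c8 (h (κ, 1))
  simp only [tor_apply, tr_b8, tr_c8, Units.val_one, map_one, div_one, mul_one] at e1 e2
  rw [e, eq_zero_of_mul h2 e1, eq_zero_of_mul h4 e2]
  rfl

end P8

section P81

variable (P : P81 σ r G)

theorem n1h (t : Kˣ × Kˣ) : P.n1 * P.h t * P.n1 = P.h (t.1, t.1 * σu σ t.1 * t.2⁻¹) := by
  have h : P.n1 * P.h t * P.n1 = (P.n1 * P.h1 t.1 * P.n1) * (P.n1 * P.h2 t.2 * P.n1) := by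
    rw [P8.h_apply]; simp only [mul_assoc, ← mul_assoc P.n1 P.n1, P.n1n1, one_mul]
  rw [h, P.n1h1, P.n1h2, P8.h_apply, mul_assoc, ← map_mul]

/-- the reflection exchanging `U₄` and `U₈` -/
def g0 : G := P.n1 * P.n8 * P.n1
/-- the reflection in `U₄` -/
def n4 : G := g0 P * P.n8 * g0 P

theorem n1n1' (x : G) : P.n1 * (P.n1 * x) = x := by rw [← mul_assoc, P.n1n1, one_mul]
theorem n8n8' (x : G) : P.n8 * (P.n8 * x) = x := by rw [← mul_assoc, P.n8n8, one_mul]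
theorem g0g0 : g0 P * g0 P = 1 := by simp only [g0, mul_assoc, n1n1', n8n8', P.n1n1]
theorem g0g0' (x : G) : g0 P * (g0 P * x) = x := by rw [← mul_assoc, g0g0, one_mul]
theorem n4n4 : n4 P * n4 P = 1 := by simp only [n4, mul_assoc, g0g0', n8n8', g0g0]
theorem n4n4' (x : G) : n4 P * (n4 P * x) = x := by rw [← mul_assoc, n4n4, one_mul]
theorem n4_inv : (n4 P)⁻¹ = n4 P := inv_eq_of_mul_eq_one_right (n4n4 P)
theorem n8n4 : P.n8 * n4 P = (P.n8 * P.n1) ^ 4 := by simp only [n4, g0, pow_succ, pow_zero, one_mul, mul_assoc]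

theorem g0_y4 (b c : K) : g0 P * P.u (y4 b c) * g0 P = P.u (y8 b c) := by
  have h1 : P.n1 * P.u (y4 b c) * P.n1 = P.u (y6 b c) := by rw [P.n1u _ rfl]; congr 1; usimp
  have h2 : P.n8 * P.u (y6 b c) * P.n8 = P.u (y2 b c) := by rw [P.n8u _ rfl rfl]; congr 1; usimp
  have h3 : P.n1 * P.u (y2 b c) * P.n1 = P.u (y8 b c) := by rw [P.n1u _ rfl]; congr 1; usimp
  rw [← h3, ← h2, ← h1]; simp only [g0, mul_assoc]

theorem g0_y8 (b c : K) : g0 P * P.u (y8 b c) * g0 P = P.u (y4 b c) := by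
  rw [← g0_y4]; simp only [mul_assoc, g0g0', g0g0, mul_one]

theorem n8_y4 (b c : K) : P.n8 * P.u (y4 b c) * P.n8 = P.u (y4 b c) := by rw [P.n8u _ rfl rfl]; congr 1; usimp

theorem n4_y8 (b c : K) : n4 P * P.u (y8 b c) * n4 P = P.u (y8 b c) := by
  calc n4 P * P.u (y8 b c) * n4 P = g0 P * (P.n8 * (g0 P * P.u (y8 b c) * g0 P) * P.n8) * g0 P := by
        simp only [n4, mul_assoc]
    _ = _ := by rw [g0_y8, n8_y4, g0_y4]

theorem σσ (s : Kˣ) : σu σ (σu σ s) = s ^ 2 := Units.ext (by simp [T.sq])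

theorem n4h (t : Kˣ × Kˣ) : n4 P * P.h t * n4 P = P.h (t.1 * (σu σ t.2)⁻¹, t.2⁻¹) := by
  calc n4 P * P.h t * n4 P = P.n1 * (P.n8 * (P.n1 * (P.n8 * (P.n1 * (P.n8 * (P.n1 * P.h t * P.n1) * P.n8) * P.n1) *
      P.n8) * P.n1) * P.n8) * P.n1 := by simp only [n4, g0, mul_assoc]
    _ = _ := by
      simp only [n1h, n8h, map_mul, map_inv, σσ, map_pow]
      congr 2 <;> (apply Additive.ofMul.injective; simp only [ofMul_mul, ofMul_inv, ofMul_pow]; abel)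

end P81

end Br

end CL.RF
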