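/-
INV library (large Ree groups): endomorphisms of `Q'` commuting with the torus.
-/
import Cfsg.Agent.INV.RF.BrA

set_option autoImplicit false
set_option linter.unusedSimpArgs false
set_option linter.unusedSectionVars false

namespace CL.RF

open U

variable {K : Type*} [Field K] {σ : K →+* K} [T : Tits σ]

namespace N1

open Br

/-- the torus element acting as `dia l m` -/
def dt (σ : K →+* K) (l m : Kˣ) : Kˣ × Kˣ := (l * σu σ l * m ^ 2 * σu σ m ^ 2, l ^ 2 * σu σ l * m ^ 3 * σu σ m ^ 2)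

theorem tor_dt (l m : Kˣ) (g : U σ) : tor (dt σ l m) g = dia (l : K) m g := by
  have h1 := l.ne_zero
  have h2 := (map_ne_zero σ).2 h1
  have h3 := m.ne_zero
  have h4 := (map_ne_zero σ).2 h3
  rw [tor_apply, tr_eq_dia (Units.ne_zero _) (Units.ne_zero _)]
  congr 1
  · simp only [dt, Units.val_mul, σu_val, Units.val_pow_eq_pow_val, map_mul, map_pow, T.sq]; field_simp
  · simp only [dt, Units.val_mul, σu_val, Units.val_pow_eq_pow_val, map_mul, map_pow, T.sq]; field_simp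

theorem norm_ne {w : K} (h : w ≠ 1) : w * σ w ≠ 1 := fun e => h (Tits.norm_inj σ (by simpa using e))

theorem fixd {l m : K} {g : U σ} (h : dia l m g = g) : (l ≠ 1 → g.a1 = 0) ∧ (l * m ≠ 1 → g.b2 = 0 ∧ g.c2 = 0) ∧
    (l * σ m ≠ 1 → g.a3 = 0) ∧ (σ l * m * σ m ≠ 1 → g.b4 = 0 ∧ g.c4 = 0) ∧ (l * m ^ 2 ≠ 1 → g.a5 = 0) ∧
    (l * m * σ m ≠ 1 → g.b6 = 0 ∧ g.c6 = 0) ∧ (l * σ m * m ^ 2 ≠ 1 → g.a7 = 0) ∧ (m ≠ 1 → g.b8 = 0 ∧ g.c8 = 0) := by
  usimp at h
  obtain ⟨e1, e2, e3, e4, e5, e6, e7, e8, e9, e10, e11, e12⟩ := h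
  have key : ∀ {w w' x : K}, w ≠ 1 → w' * x = x → w' = w * σ w → x = 0 := fun h e e' =>
    eq_zero_of_mul (norm_ne (σ := σ) h) (e' ▸ e)
  refine ⟨fun h => eq_zero_of_mul h e1, fun h => ⟨eq_zero_of_mul h e2, key h e3 ?_⟩, fun h => key h e4 ?_,
    fun h => ⟨eq_zero_of_mul h e5, key h e6 ?_⟩, fun h => key h e7 ?_, fun h => ⟨eq_zero_of_mul h e8, key h e9 ?_⟩,
    fun h => eq_zero_of_mul h e10, fun h => ⟨eq_zero_of_mul h e11, key h e12 ?_⟩⟩ <;>
  simp only [map_mul, map_pow, T.sq] <;> ring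

theorem ne7 {κ : Kˣ} (hκ : κ ≠ 1) : (κ : K) ≠ 0 ∧ σ κ ≠ 0 ∧ (κ : K) ≠ 1 ∧ σ κ ≠ 1 ∧ κ * σ κ ≠ 1 ∧ σ κ * κ ^ 2 ≠ 1 ∧ σ κ ≠ κ ∧
    (κ : K) ^ 2 ≠ 1 ∧ (κ : K) ^ 2 ≠ σ κ := by
  obtain ⟨h1, h2, h3, h4, h5⟩ := ne_of_ne_one (σ := σ) hκ
  exact ⟨κ.ne_zero, (map_ne_zero σ).2 κ.ne_zero, h1, h2, h3, h4, h5, fun e => h2 (σ.injective (by rw [T.sq, e, map_one])),
    fun e => h5 (σ.injective (by rw [T.sq, e]))⟩

/-- inequalities between weights -/
scoped macro "wne" : tactic => `(tactic| (intro e; (try simp only [Units.val_inv_eq_inv_val, Units.val_mul, σu_val,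
  Units.val_pow_eq_pow_val, Units.val_one, map_inv₀, map_mul, map_pow, map_one, Tits.sq'] at e); (try field_simp at e); grind))

theorem fix1 {κ : Kˣ} (hκ : κ ≠ 1) {g : U σ} (h : tor (dt σ 1 κ) g = g) : g = x1 g.a1 := by
  obtain ⟨h1, h2, h3, h4, h5, h6, h7, h8, h9⟩ := ne7 (σ := σ) hκ
  obtain ⟨-, f2, f3, f4, f5, f6, f7, f8⟩ := fixd ((tor_dt _ _ g).symm.trans h)
  usimp
  simp only [f2 (by wne), f3 (by wne), f4 (by wne), f5 (by wne), f6 (by wne), f7 (by wne), f8 (by wne), and_self]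

theorem fix2 {κ : Kˣ} (hκ : κ ≠ 1) {g : U σ} (h : tor (dt σ κ⁻¹ κ) g = g) : g = y2 g.b2 g.c2 := by
  obtain ⟨h1, h2, h3, h4, h5, h6, h7, h8, h9⟩ := ne7 (σ := σ) hκ
  obtain ⟨f1, -, f3, f4, f5, f6, f7, f8⟩ := fixd ((tor_dt _ _ g).symm.trans h)
  usimp
  simp only [f1 (by wne), f3 (by wne), f4 (by wne), f5 (by wne), f6 (by wne), f7 (by wne), f8 (by wne), and_self]

theorem fix3 {κ : Kˣ} (hκ : κ ≠ 1) {g : U σ} (h : tor (dt σ (σu σ κ)⁻¹ κ) g = g) : g = x3 g.a3 := by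
  obtain ⟨h1, h2, h3, h4, h5, h6, h7, h8, h9⟩ := ne7 (σ := σ) hκ
  obtain ⟨f1, f2, -, f4, f5, f6, f7, f8⟩ := fixd ((tor_dt _ _ g).symm.trans h)
  usimp
  simp only [f1 (by wne), f2 (by wne), f4 (by wne), f5 (by wne), f6 (by wne), f7 (by wne), f8 (by wne), and_self]

theorem fix4 {κ : Kˣ} (hκ : κ ≠ 1) {g : U σ} (h : tor (dt σ (κ * σu σ κ)⁻¹ (σu σ κ)) g = g) : g = y4 g.b4 g.c4 := by
  obtain ⟨h1, h2, h3, h4, h5, h6, h7, h8, h9⟩ := ne7 (σ := σ) hκ
  obtain ⟨f1, f2, f3, -, f5, f6, f7, f8⟩ := fixd ((tor_dt _ _ g).symm.trans h)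
  usimp
  simp only [f1 (by wne), f2 (by wne), f3 (by wne), f5 (by wne), f6 (by wne), f7 (by wne), f8 (by wne), and_self]

theorem fix6 {κ : Kˣ} (hκ : κ ≠ 1) {g : U σ} (h : tor (dt σ (κ * σu σ κ)⁻¹ κ) g = g) : g = y6 g.b6 g.c6 := by
  obtain ⟨h1, h2, h3, h4, h5, h6, h7, h8, h9⟩ := ne7 (σ := σ) hκ
  obtain ⟨f1, f2, f3, f4, f5, -, f7, f8⟩ := fixd ((tor_dt _ _ g).symm.trans h)
  usimp
  simp only [f1 (by wne), f2 (by wne), f3 (by wne), f4 (by wne), f5 (by wne), f7 (by wne), f8 (by wne), and_self]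

theorem fix7 {κ : Kˣ} (hκ : κ ≠ 1) {g : U σ} (h : tor (dt σ (σu σ κ * κ ^ 2)⁻¹ κ) g = g) : g = x7 g.a7 := by
  obtain ⟨h1, h2, h3, h4, h5, h6, h7, h8, h9⟩ := ne7 (σ := σ) hκ
  obtain ⟨f1, f2, f3, f4, f5, f6, -, f8⟩ := fixd ((tor_dt _ _ g).symm.trans h)
  usimp
  simp only [f1 (by wne), f2 (by wne), f3 (by wne), f4 (by wne), f5 (by wne), f6 (by wne), f8 (by wne), and_self]

/-- rigidity of a Suzuki 2-group -/
theorem suz {κ : Kˣ} (hκ : κ ≠ 1) (ε : U σ → U σ) (Y : K → K → U σ)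
    (inj : ∀ {b c b' c'}, Y b c = Y b' c' → c = c') (mul : ∀ b c b' c', Y b c * Y b' c' = Y (b + b') (c + c' + σ b' * b))
    (h1 : ∀ b c b' c', ε (Y b c * Y b' c') = ε (Y b c) * ε (Y b' c'))
    (h2 : ∀ β : Kˣ, ∃ t : Kˣ × Kˣ, (∀ b c, tor t (Y b c) = Y (β * b) (β * σ β * c)) ∧ ∀ b, ε (tor t (Y b 0)) = tor t (ε (Y b 0)))
    (h3 : ∀ b c, ∃ c', ε (Y b c) = Y b c') (b c : K) : ε (Y b c) = Y b c := by
  have := T.char
  choose φ hφ using h3
  have a0 : ∀ c, ε (Y 0 c) = Y 0 c := fun c => by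
    obtain ⟨b, rfl⟩ := Tits.norm_surj σ c
    have e := h1 b 0 b 0
    rw [hφ b 0, mul, mul] at e
    convert e using 2 <;> grind
  have a1 : ∀ b c, ε (Y b c) = Y b (φ b 0 + c) := fun b c => by
    have e := h1 b 0 0 c
    rw [hφ b 0, a0, mul, mul] at e
    simpa using e
  have a2 : ∀ b b', φ (b + b') 0 = φ b 0 + φ b' 0 := fun b b' => by
    have e := h1 b 0 b' 0
    rw [hφ b 0, hφ b' 0, mul, mul, a1] at e
    have := inj e
    grind
  have a3 : ∀ β : Kˣ, φ β 0 = β * σ β * φ 1 0 := fun β => by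
    obtain ⟨t, e1, e2⟩ := h2 β
    have e := e2 1
    rw [e1, hφ 1 0, e1, mul_one, mul_zero, hφ] at e
    exact inj e
  obtain ⟨k1, -, -, -, k2⟩ := ne_of_ne_one (σ := σ) hκ
  have k3 : (κ : K) + 1 ≠ 0 := by grind
  have a4 : φ 1 0 = 0 := by
    have e := a3 (Units.mk0 _ k3)
    rw [Units.val_mk0, a2, a3 κ, map_add, map_one] at e
    have e' : (σ κ + κ) * φ 1 0 = 0 := by grind
    exact (mul_eq_zero.1 e').resolve_left (by grind)
  by_cases hb : b = 0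
  · rw [hb, a0]
  · have e := a3 (Units.mk0 b hb)
    rw [a4, mul_zero, Units.val_mk0] at e
    rw [a1, e, zero_add]

theorem exists_norm [Finite K] (β : Kˣ) : ∃ m : Kˣ, (m : K) * σ m = β := by
  obtain ⟨m, e⟩ := Tits.norm_surj σ (β : K)
  exact ⟨Units.mk0 m fun h => β.ne_zero (by rw [← e, h, zero_mul]), e⟩

theorem eq_of_comm [Finite K] (hq : 2 < Nat.card K) (ε : U σ → U σ)
    (h1 : ∀ g k, g.a1 = 0 → k.a1 = 0 → ε (g * k) = ε g * ε k)
    (h2 : ∀ (t : Kˣ × Kˣ) g, g.a1 = 0 → ε (tor t g) = tor t (ε g)) (h3 : ∀ c a, ε (vv c a) = vv c a)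
    {g : U σ} (hg : g.a1 = 0) : ε g = g := by
  have := T.char
  obtain ⟨κ, hκ⟩ := Tits.exists_ne σ hq
  obtain ⟨k1, k2, -⟩ := ne7 (σ := σ) hκ
  have pres : ∀ (l m : Kˣ) (g : U σ), g.a1 = 0 → dia (l : K) m g = g → tor (dt σ l m) (ε g) = ε g := fun l m g hg e => by
    rw [← h2 _ _ hg, tor_dt, e]
  have z4 : ∀ c, ε (y4 0 c) = y4 0 c := fun c => h3 c 0
  have z6 : ∀ c, ε (y6 0 c) = y6 0 c := fun c => h3 0 c
  have e4 : ∀ b c, ε (y4 b c) = y4 b c := by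
    refine suz hκ ε y4 (fun e => congrArg U.c4 e) (fun _ _ _ _ => by usimp) (fun _ _ _ _ => h1 _ _ rfl rfl) (fun β => ?_)
      fun b c => ?_
    · obtain ⟨m, hm⟩ := exists_norm (σ := σ) β
      refine ⟨dt σ 1 m, fun b c => ?_, fun b => h2 _ _ rfl⟩
      rw [tor_dt, ← hm]; usimp; simp only [Units.val_one, map_one]; constructor <;> ring
    · have e := fix4 hκ (pres _ _ (y4 b c) rfl (by
        usimp; simp only [Units.val_inv_eq_inv_val, Units.val_mul, σu_val, map_inv₀, map_mul, T.sq]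
        constructor <;> field_simp))
      have e' := h1 (y4 b c) (y4 b c) rfl rfl
      rw [show (y4 b c * y4 b c : U σ) = y4 0 (b * σ b) by usimp; grind, z4, e] at e'
      have e'' := congrArg U.c4 e'
      usimp at e''
      exact ⟨_, by rw [e, Tits.norm_inj σ (b := b) (a := (ε (y4 b c)).b4) (by grind)]⟩
  have e6 : ∀ b c, ε (y6 b c) = y6 b c := by
    refine suz hκ ε y6 (fun e => congrArg U.c6 e) (fun _ _ _ _ => by usimp) (fun _ _ _ _ => h1 _ _ rfl rfl) (fun β => ?_)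
      fun b c => ?_
    · refine ⟨dt σ β 1, fun b c => ?_, fun b => h2 _ _ rfl⟩
      rw [tor_dt]; usimp; simp only [Units.val_one, map_one, mul_one, one_pow, and_self]
    · have e := fix6 hκ (pres _ _ (y6 b c) rfl (by
        usimp; simp only [Units.val_inv_eq_inv_val, Units.val_mul, σu_val, map_inv₀, map_mul, T.sq]
        constructor <;> field_simp))
      have e' := h1 (y6 b c) (y6 b c) rfl rfl
      rw [show (y6 b c * y6 b c : U σ) = y6 0 (b * σ b) by usimp; grind, z6, e] at e'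
      have e'' := congrArg U.c6 e'
      usimp at e''
      exact ⟨_, by rw [e, Tits.norm_inj σ (b := b) (a := (ε (y6 b c)).b6) (by grind)]⟩
  have e5 : ∀ a, ε (x5 a) = x5 a := fun a => by
    have r : (y6 a 0 * y4 1 0 : U σ) = y4 1 0 * x5 a * y6 a 0 := by usimp
    have e := congrArg ε r
    rw [h1 _ _ rfl rfl, h1 _ _ (by usimp) rfl, h1 _ _ rfl rfl, e4, e6, r, mul_left_inj, mul_right_inj] at e
    exact e.symm
  have e8 : ∀ b c, ε (y8 b c) = y8 b c := by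
    refine suz hκ ε y8 (fun e => congrArg U.c8 e) (fun _ _ _ _ => by usimp) (fun _ _ _ _ => h1 _ _ rfl rfl) (fun β => ?_)
      fun b c => ?_
    · refine ⟨dt σ 1 β, fun b c => ?_, fun b => h2 _ _ rfl⟩
      rw [tor_dt]; usimp
    · have e := eq_y8_of_fix hκ (g := ε (y8 b c)) (by rw [← h2 _ _ rfl, tor_k8]; congr 1; usimp)
      have r : (y8 b c * x5 1 : U σ) = x5 1 * y6 0 b * y8 b c := by usimp
      have e' := congrArg ε r
      rw [h1 _ _ rfl rfl, h1 _ _ (by usimp) rfl, h1 _ _ rfl rfl, e5, e6, e] at e'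
      have e'' := congrArg U.c6 e'
      usimp at e''
      exact ⟨_, by rw [e, e'']⟩
  have e2 : ∀ b c, ε (y2 b c) = y2 b c := by
    refine suz hκ ε y2 (fun e => congrArg U.c2 e) (fun _ _ _ _ => by usimp) (fun _ _ _ _ => h1 _ _ rfl rfl) (fun β => ?_)
      fun b c => ?_
    · refine ⟨dt σ β 1, fun b c => ?_, fun b => h2 _ _ rfl⟩
      rw [tor_dt]; usimp; simp only [Units.val_one, map_one, mul_one, one_pow, and_self]
    · have e := fix2 hκ (pres _ _ (y2 b c) rfl (by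
        usimp; simp only [Units.val_inv_eq_inv_val, Units.val_mul, σu_val, map_inv₀, map_mul, T.sq]
        constructor <;> field_simp))
      have r : (x5 1 * y2 b c : U σ) = y2 b c * y4 0 b * x5 1 := by usimp
      have e' := congrArg ε r
      rw [h1 _ _ rfl rfl, h1 _ _ (by usimp) rfl, h1 _ _ rfl rfl, e5, e4, e] at e'
      have e'' := congrArg U.c4 e'
      usimp at e''
      exact ⟨_, by rw [e, show (ε (y2 b c)).b2 = b by grind]⟩
  have e7 : ∀ a, ε (x7 a) = x7 a := fun a => by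
    have e := fix7 hκ (pres _ _ (x7 a) rfl (by
      usimp; simp only [Units.val_inv_eq_inv_val, Units.val_mul, Units.val_pow_eq_pow_val, σu_val, map_inv₀, map_mul, T.sq]
      field_simp))
    have r : (x7 a * y4 1 0 : U σ) = y4 1 0 * y6 0 a * x7 a := by usimp
    have e' := congrArg ε r
    rw [h1 _ _ rfl rfl, h1 _ _ (by usimp) rfl, h1 _ _ rfl rfl, e4, e6, e] at e'
    have e'' := congrArg U.c6 e'
    usimp at e''
    rw [e, e'']
  have e3 : ∀ a, ε (x3 a) = x3 a := fun a => by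
    have e := fix3 hκ (pres _ _ (x3 a) rfl (by
      usimp; simp only [Units.val_inv_eq_inv_val, Units.val_mul, Units.val_pow_eq_pow_val, σu_val, map_inv₀, map_mul, T.sq]
      field_simp))
    have r : (y6 1 0 * x3 a : U σ) = x3 a * y4 0 a * y6 1 0 := by usimp
    have e' := congrArg ε r
    rw [h1 _ _ rfl rfl, h1 _ _ (by usimp) rfl, h1 _ _ rfl rfl, e4, e6, e] at e'
    have e'' := congrArg U.c4 e'
    usimp at e''
    rw [e, e'']
  have e := eq_prod g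
  rw [hg, show (x1 0 : U σ) = 1 from rfl, one_mul] at e
  rw [e, h1 _ _ (by simp only [mul_a1]; usimp) rfl, h1 _ _ (by simp only [mul_a1]; usimp) rfl,
    h1 _ _ (by simp only [mul_a1]; usimp) rfl, h1 _ _ (by simp only [mul_a1]; usimp) rfl,
    h1 _ _ (by simp only [mul_a1]; usimp) rfl, h1 _ _ rfl rfl, e2, e3, e4, e5, e6, e7, e8]

end N1

end CL.RF
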