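/-
INV library (large Ree groups): alternating words in `n₁`, `n₈` and the Bruhat cells.
-/
import Cfsg.Agent.INV.RF.BrA

set_option autoImplicit false
set_option linter.unusedSimpArgs false
set_option linter.unusedSectionVars false

namespace CL.RF

open U

variable {K : Type*} [Field K] {σ : K →+* K} [T : Tits σ] {r : R8 K} {G : Type*} [Group G]

namespace Am

open Br

section P8

variable {P : P8 σ r G} {x : G}

theorem u_mem_B (P : P8 σ r G) (g : U σ) : P.u g ∈ P.B := Subgroup.mem_sup_left ⟨g, rfl⟩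
theorem h_mem_B (P : P8 σ r G) (t : Kˣ × Kˣ) : P.h t ∈ P.B := Subgroup.mem_sup_right ⟨t, rfl⟩

theorem B_le_normalizer (P : P8 σ r G) : P.B ≤ Subgroup.normalizer (P.S : Set G) :=
  sup_le Subgroup.le_normalizer fun _ ⟨t, e⟩ => e ▸ h_mem_normalizer_S P t

theorem mem_B : x ∈ P.B ↔ ∃ g t, x = P.u g * P.h t := by
  refine ⟨fun hx => ?_, fun ⟨g, t, e⟩ => e ▸ mul_mem (u_mem_B P g) (h_mem_B P t)⟩
  have hx' : x ∈ ((P.S ⊔ P.H : Subgroup G) : Set G) := hx
  have hn : P.H ≤ Subgroup.normalizer (P.S : Set G) := fun _ ⟨t, e⟩ => e ▸ h_mem_normalizer_S P t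
  rw [Subgroup.coe_mul_of_right_le_normalizer_left _ _ hn] at hx'
  obtain ⟨_, ⟨g, rfl⟩, _, ⟨t, rfl⟩, e⟩ := hx'
  exact ⟨g, t, e.symm⟩

theorem mem_B' : x ∈ P.B ↔ ∃ t g, x = P.h t * P.u g := by
  refine ⟨fun hx => ?_, fun ⟨t, g, e⟩ => e ▸ mul_mem (h_mem_B P t) (u_mem_B P g)⟩
  obtain ⟨g, t, e⟩ := mem_B.1 (inv_mem hx)
  exact ⟨t⁻¹, g⁻¹, by rw [map_inv, map_inv, ← mul_inv_rev, ← e, inv_inv]⟩

theorem eq_one_of_h_mem [Finite K] {t : Kˣ × Kˣ} (h : P.h t ∈ P.S) : t = 1 := by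
  have h1 := h_conj_Z P t 1
  rw [PC.comm_Z (P.S_le_C h), mul_inv_cancel_right] at h1
  have h2 : t.2 = 1 := Units.ext (by simpa using (congrArg U.c4 (P.inj h1)).symm)
  rw [P8.h_apply, h2, map_one, mul_one] at h
  exact Prod.ext (PC.eq_one_of_h1_mem h) h2

end P8

variable (P : P81 σ r G)

theorem mv1 {g g' : U σ} (hg : g.a1 = 0) (e : w1 g = g') (y : G) : P.u g * (P.n1 * y) = P.n1 * (P.u g' * y) := by
  rw [← e, ← P.n1u g hg]; simp only [mul_assoc, n1n1']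
theorem mv8 {g g' : U σ} (hg : g.b8 = 0) (hg' : g.c8 = 0) (e : w8 g = g') (y : G) :
    P.u g * (P.n8 * y) = P.n8 * (P.u g' * y) := by
  rw [← e, ← P.n8u g hg hg']; simp only [mul_assoc, n8n8']

theorem x1_8 (a : K) (y : G) : P.u (x1 a) * (P.n8 * y) = P.n8 * (P.u (x7 a) * y) := mv8 P rfl rfl (by usimp) y
theorem x7_8 (a : K) (y : G) : P.u (x7 a) * (P.n8 * y) = P.n8 * (P.u (x1 a) * y) := mv8 P rfl rfl (by usimp) y
theorem x3_8 (a : K) (y : G) : P.u (x3 a) * (P.n8 * y) = P.n8 * (P.u (x5 a) * y) := mv8 P rfl rfl (by usimp) y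
theorem x5_8 (a : K) (y : G) : P.u (x5 a) * (P.n8 * y) = P.n8 * (P.u (x3 a) * y) := mv8 P rfl rfl (by usimp) y
theorem y2_8 (b c : K) (y : G) : P.u (y2 b c) * (P.n8 * y) = P.n8 * (P.u (y6 b c) * y) := mv8 P rfl rfl (by usimp) y
theorem y6_8 (b c : K) (y : G) : P.u (y6 b c) * (P.n8 * y) = P.n8 * (P.u (y2 b c) * y) := mv8 P rfl rfl (by usimp) y
theorem y4_8 (b c : K) (y : G) : P.u (y4 b c) * (P.n8 * y) = P.n8 * (P.u (y4 b c) * y) := mv8 P rfl rfl (by usimp) y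
theorem x7_1 (a : K) (y : G) : P.u (x7 a) * (P.n1 * y) = P.n1 * (P.u (x3 a) * y) := mv1 P rfl (by usimp) y
theorem x3_1 (a : K) (y : G) : P.u (x3 a) * (P.n1 * y) = P.n1 * (P.u (x7 a) * y) := mv1 P rfl (by usimp) y
theorem x5_1 (a : K) (y : G) : P.u (x5 a) * (P.n1 * y) = P.n1 * (P.u (x5 a) * y) := mv1 P rfl (by usimp) y
theorem y8_1 (b c : K) (y : G) : P.u (y8 b c) * (P.n1 * y) = P.n1 * (P.u (y2 b c) * y) := mv1 P rfl (by usimp) y
theorem y2_1 (b c : K) (y : G) : P.u (y2 b c) * (P.n1 * y) = P.n1 * (P.u (y8 b c) * y) := mv1 P rfl (by usimp) y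
theorem y6_1 (b c : K) (y : G) : P.u (y6 b c) * (P.n1 * y) = P.n1 * (P.u (y4 b c) * y) := mv1 P rfl (by usimp) y
theorem y4_1 (b c : K) (y : G) : P.u (y4 b c) * (P.n1 * y) = P.n1 * (P.u (y6 b c) * y) := mv1 P rfl (by usimp) y

/-- the two reflections -/
def sr : Bool → G
  | true => P.n1
  | false => P.n8

/-- alternating words -/
def al : Bool → ℕ → G
  | _, 0 => 1
  | e, j + 1 => sr P e * al (!e) j

/-- the two simple root groups -/
def Rt : Bool → G → Prop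
  | true, y => ∃ a, y = P.u (x1 a)
  | false, y => ∃ b c, y = P.u (y8 b c)

theorem srsr (e : Bool) (y : G) : sr P e * (sr P e * y) = y := by
  cases e
  exacts [n8n8' P y, n1n1' P y]

variable {P}

theorem root_move {e : Bool} {y : G} (hy : Rt P e y) {j : ℕ} (hj : j ≤ 7) :
    ∃ g, y * al P (!e) j = al P (!e) j * P.u g := by
  cases e
  · obtain ⟨b, c, rfl⟩ := hy
    interval_cases j <;>
      simp only [al, sr, Bool.not_true, Bool.not_false, y8_1, y2_8, y6_1, y4_8, y4_1, y6_8, y2_1, mul_assoc, mul_right_inj] <;>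
      exact ⟨_, by rw [mul_one, one_mul]⟩
  · obtain ⟨a, rfl⟩ := hy
    interval_cases j <;>
      simp only [al, sr, Bool.not_true, Bool.not_false, x1_8, x7_1, x3_8, x5_1, x5_8, x3_1, x7_8, mul_assoc, mul_right_inj] <;>
      exact ⟨_, by rw [mul_one, one_mul]⟩

theorem sr_mul_B (e : Bool) {b : G} (hb : b ∈ P.B) : ∃ b' ∈ P.B, ∃ y, Rt P e y ∧ sr P e * b = b' * sr P e * y := by
  have := T.char
  obtain ⟨t, g, rfl⟩ := mem_B'.1 hb
  cases e
  · refine ⟨P.n8 * P.h t * P.n8 * (P.n8 * P.u (g * (y8 g.b8 g.c8)⁻¹) * P.n8), mul_mem ?_ ?_, _, ⟨g.b8, g.c8, rfl⟩, ?_⟩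
    · rw [n8h]; exact h_mem_B _ _
    · rw [P.n8u _ (by usimp; grind) (by usimp; grind)]; exact u_mem_B _ _
    · simp [sr, mul_assoc, n8n8']
  · refine ⟨P.n1 * P.h t * P.n1 * (P.n1 * P.u (g * (x1 g.a1)⁻¹) * P.n1), mul_mem ?_ ?_, _, ⟨g.a1, rfl⟩, ?_⟩
    · rw [n1h]; exact h_mem_B _ _
    · rw [P.n1u _ (by usimp; grind)]; exact u_mem_B _ _
    · simp [sr, mul_assoc, n1n1']

theorem rank_one {e : Bool} {y : G} (hy : Rt P e y) :
    y = 1 ∨ ∃ b ∈ P.B, ∃ y', Rt P e y' ∧ sr P e * y * sr P e = b * sr P e * y' := by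
  cases e
  · obtain ⟨b, c, rfl⟩ := hy
    by_cases h : ((b, c) : K × K) = 0
    · obtain ⟨rfl, rfl⟩ := Prod.mk_eq_zero.1 h
      exact Or.inl (map_one P.u)
    · exact Or.inr ⟨_, mul_mem (u_mem_B _ _) (h_fst P.toP8 _ ▸ h_mem_B _ _), _, ⟨_, _, rfl⟩, P.r8 (b, c) h⟩
  · obtain ⟨a, rfl⟩ := hy
    by_cases h : a = 0
    · subst h
      exact Or.inl (map_one P.u)
    · exact Or.inr ⟨_, mul_mem (u_mem_B _ _) (h_snd P.toP8 _ ▸ h_mem_B _ _), _, ⟨_, rfl⟩, P.r1 (Units.mk0 a h)⟩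

theorem n1_not_mem : P.n1 ∉ P.S := by
  rintro ⟨g, e⟩
  have h := y2_1 P 1 0 1
  rw [mul_one, mul_one, ← e, ← map_mul, ← map_mul] at h
  have := congrArg U.b8 (P.inj h)
  usimp at this
  simp at this

theorem n1_x1_not_mem : P.n1 * P.u (x1 1) * P.n1 ∉ P.S := by
  intro h
  have e := P.r1 1
  simp only [inv_one, Units.val_one, map_one, mul_one] at e
  rw [e] at h
  exact n1_not_mem (P := P) (by simpa [mul_assoc] using mul_mem (mul_mem (inv_mem (P.u_mem_S (x1 1))) h) (inv_mem (P.u_mem_S (x1 1))))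

theorem al_not_mem [Finite K] (e : Bool) {j : ℕ} (hj : j ≤ 7) : al P e (j + 1) ∉ Subgroup.normalizer (P.S : Set G) := by
  intro h
  obtain ⟨y, hy, hy'⟩ : ∃ y, Rt P e y ∧ sr P e * y * sr P e ∉ P.S := by
    cases e
    · exact ⟨_, ⟨0, 1, rfl⟩, fun h => one_ne_zero (PC.eq_zero_of_n8 (P := P.toPC) (P.S_le_B1 h)).2⟩
    · exact ⟨_, ⟨1, rfl⟩, n1_x1_not_mem⟩
  obtain ⟨g, hg⟩ := root_move hy hj
  have h1 := (Subgroup.mem_normalizer_iff.1 h _).1 (P.u_mem_S g)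
  have h2 : (sr P e)⁻¹ = sr P e := inv_eq_of_mul_eq_one_right (by simpa using srsr P e 1)
  rw [al, mul_assoc (sr P e), ← hg, mul_inv_rev, h2] at h1
  exact hy' (by simpa [mul_assoc] using h1)

theorem al_even (P : P81 σ r G) (k : ℕ) : al P true (2 * k) = (P.n1 * P.n8) ^ k := by
  induction k with
  | zero => simp [al]
  | succ k ih => rw [pow_succ', ← ih, mul_assoc]; rfl

theorem al_odd (P : P81 σ r G) (k : ℕ) : al P true (2 * k + 1) = (P.n1 * P.n8) ^ k * P.n1 := by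
  induction k with
  | zero => simp [al, sr]
  | succ k ih => rw [pow_succ', mul_assoc, ← ih, mul_assoc]; rfl

section OS

variable (A : OS σ r G)

theorem al_compl : ∀ (j i : ℕ) (e : Bool), i + j = 16 → al A.toP81 e i = al A.toP81 (!e) j
  | 0, i, e, h => by
    obtain rfl : i = 16 := h
    have h1 : al A.toP81 true 16 = 1 := (al_even A.toP81 8).trans A.braid
    cases e
    · have h2 : al A.toP81 false 16 = A.n8 * (al A.toP81 true 16 * A.n8) := by
        simp only [al, sr, Bool.not_true, Bool.not_false, mul_assoc, one_mul, mul_one, A.n8n8]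
      rw [h2, h1, one_mul, A.n8n8]; rfl
    · exact h1
  | j + 1, i, e, h => by
    rw [al, Bool.not_not, ← Bool.not_not e, ← al_compl j (i + 1) (!e) (by omega), al, Bool.not_not, srsr]

/-- the union of the Bruhat cells -/
def Cell (x : G) : Prop := ∃ b ∈ A.B, ∃ e j g, j ≤ 8 ∧ x = b * al A.toP81 e j * A.u g

variable {A}

theorem Cell.B_mul {b x : G} (hb : b ∈ A.B) (hx : Cell A x) : Cell A (b * x) := by
  obtain ⟨b', hb', e, j, g, hj, rfl⟩ := hx
  exact ⟨b * b', mul_mem hb hb', e, j, g, hj, by simp only [mul_assoc]⟩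

theorem Cell.mul_u {x : G} (hx : Cell A x) (g' : U σ) : Cell A (x * A.u g') := by
  obtain ⟨b', hb', e, j, g, hj, rfl⟩ := hx
  exact ⟨b', hb', e, j, g * g', hj, by simp only [map_mul, mul_assoc]⟩

theorem cell_up {e : Bool} {y : G} (hy : Rt A.toP81 e y) {j : ℕ} (hj : j ≤ 7) :
    Cell A (sr A.toP81 e * y * al A.toP81 (!e) j) := by
  obtain ⟨g, hg⟩ := root_move hy hj
  exact ⟨1, one_mem _, e, j + 1, g, by omega, by rw [mul_assoc, hg, one_mul, al, mul_assoc]⟩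

theorem cell_down {e : Bool} {y : G} (hy : Rt A.toP81 e y) {j : ℕ} (hj : j ≤ 7) :
    Cell A (sr A.toP81 e * y * al A.toP81 e (j + 1)) := by
  rcases rank_one hy with rfl | ⟨b, hb, y', hy', h⟩
  · exact ⟨1, one_mem _, !e, j, 1, by omega, by rw [mul_one, al, srsr, map_one, one_mul, mul_one]⟩
  · rw [al, ← mul_assoc, h, mul_assoc b, mul_assoc b]
    exact Cell.B_mul hb (cell_up hy' hj)

theorem Cell.sr_mul (e : Bool) {x : G} (hx : Cell A x) : Cell A (sr A.toP81 e * x) := by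
  obtain ⟨b, hb, e', j, g, hj, rfl⟩ := hx
  obtain ⟨b', hb', y, hy, h⟩ := sr_mul_B e hb
  rw [← mul_assoc, ← mul_assoc, h, mul_assoc b', mul_assoc b', mul_assoc b']
  refine Cell.B_mul hb' (Cell.mul_u ?_ g)
  by_cases he : e' = e
  · subst he
    rcases j with _ | j
    · exact cell_up hy (Nat.zero_le 7)
    · exact cell_down hy (by omega)
  · obtain rfl : e' = !e := by cases e <;> cases e' <;> simp_all
    rcases Nat.lt_or_ge j 8 with h8 | h8
    · exact cell_up hy (by omega)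
    · obtain rfl : j = 8 := by omega
      rw [← al_compl A 8 8 e rfl]
      exact cell_down hy le_rfl

theorem cell_of_mem {x : G} (hx : x ∈ A.grp) : Cell A x := by
  let M : Subgroup G :=
    { carrier := {x | ∀ y, Cell A y ↔ Cell A (x * y)}
      mul_mem' := fun {a b} ha hb y => by rw [mul_assoc, ← ha, ← hb]
      one_mem' := fun y => by rw [one_mul]
      inv_mem' := fun {a} ha y => by rw [ha (a⁻¹ * y), mul_inv_cancel_left] }
  have hB : A.B ≤ M := fun b hb y => ⟨Cell.B_mul hb, fun h => by simpa using Cell.B_mul (inv_mem hb) h⟩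
  have hs : ∀ e, sr A.toP81 e ∈ M := fun e y => ⟨Cell.sr_mul e, fun h => by simpa only [srsr] using Cell.sr_mul e h⟩
  have hle : A.grp ≤ M := sup_le (sup_le (A.C_le (fun g => hB (u_mem_B _ g))
    (fun n => hB (h_fst A.toP8 n ▸ h_mem_B _ _)) (hs false)) fun _ ⟨s, e⟩ => e ▸ hB (h_snd A.toP8 s ▸ h_mem_B _ _))
    (Subgroup.zpowers_le.2 (hs true))
  simpa using (hle hx 1).1 ⟨1, one_mem _, true, 0, 1, by omega, by simp [al]⟩

end OS

end Am

end CL.RF
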