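/-
INV library (large Ree groups): the group generated by the two parabolic subgroups.
-/
import Cfsg.Agent.INV.RF.AmA

set_option autoImplicit false
set_option linter.unusedSimpArgs false
set_option linter.unusedSectionVars false

namespace CL.RF

open U

variable {K : Type*} [Field K] {σ : K →+* K} [T : Tits σ] {r : R8 K} {G : Type*} [Group G]

namespace OS

variable [Finite K]

/-- the 16 elements of the Weyl group -/
def wd (A : OS σ r G) (k : ℕ) (e : Bool) : G := (A.n1 * A.n8) ^ k * if e then A.n1 else 1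

open Br Am

theorem al_eq_wd (A : OS σ r G) (e : Bool) {j : ℕ} (hj : j ≤ 8) : ∃ k e', k < 8 ∧ al A.toP81 e j = A.wd k e' := by
  have key : ∀ i < 16, ∃ k e', k < 8 ∧ al A.toP81 true i = A.wd k e' := fun i hi => by
    rcases Nat.even_or_odd' i with ⟨k, rfl | rfl⟩
    · exact ⟨k, false, by omega, by rw [al_even]; simp [wd]⟩
    · exact ⟨k, true, by omega, by rw [al_odd]; simp [wd]⟩
  cases e
  · rcases j with _ | j
    · exact key 0 (by omega)
    · rw [al_compl A (15 - j) (j + 1) false (by omega)]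
      exact key _ (by omega)
  · exact key j (by omega)

/-- Bruhat decomposition -/
theorem bruhat (A : OS σ r G) {x : G} (hx : x ∈ A.grp) : ∃ g t k e g', k < 8 ∧ x = A.u g * A.h t * A.wd k e * A.u g' := by
  obtain ⟨b, hb, e, j, g', hj, rfl⟩ := cell_of_mem hx
  obtain ⟨g, t, rfl⟩ := mem_B.1 hb
  obtain ⟨k, e', hk, h⟩ := al_eq_wd A e hj
  exact ⟨g, t, k, e', g', hk, by rw [h]⟩

/-- `B ∩ N = H` -/
theorem eq_of_wd_mem (A : OS σ r G) {k : ℕ} {e : Bool} (hk : k < 8) (h : A.wd k e ∈ A.B) : k = 0 ∧ e = false := by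
  have key : ∀ i < 16, al A.toP81 true i ∈ A.B → i = 0 := fun i hi h => by
    by_contra h0
    replace h := B_le_normalizer _ h
    rcases Nat.lt_or_ge 8 i with h8 | h8
    · rw [al_compl A (15 - i + 1) i true (by omega)] at h
      exact al_not_mem _ (by omega) h
    · obtain ⟨i, rfl⟩ : ∃ j, i = j + 1 := ⟨i - 1, by omega⟩
      exact al_not_mem _ (by omega) h
  cases e
  · exact ⟨by have := key (2 * k) (by omega) (by rw [al_even]; simpa [wd] using h); omega, rfl⟩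
  · exact absurd (key (2 * k + 1) (by omega) (by rw [al_odd]; simpa [wd] using h)) (by omega)

theorem exists_equiv_of_hom {G' : Type*} [Group G'] (D : OS σ r G) (A : OS σ r G') (f : G →* G')
    (hu : ∀ g, f (D.u g) = A.u g) (h1 : ∀ n, f (D.h1 n) = A.h1 n) (h2 : ∀ n, f (D.h2 n) = A.h2 n)
    (hn1 : f D.n1 = A.n1) (hn8 : f D.n8 = A.n8) : ∃ φ : D.grp ≃* A.grp, ∀ x, (φ x : G') = f x := by
  have hm : D.grp.map f = A.grp := by
    have e1 : f.comp D.u = A.u := MonoidHom.ext hu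
    have e2 : f.comp D.h1 = A.h1 := MonoidHom.ext h1
    have e3 : f.comp D.h2 = A.h2 := MonoidHom.ext h2
    simp only [P81.grp, PC.C, PC.S, Subgroup.map_sup, MonoidHom.map_range, MonoidHom.map_zpowers, e1, e2, e3, hn1, hn8]
  have hi : Function.Injective (f.subgroupMap D.grp) := by
    rw [injective_iff_map_eq_one]
    rintro ⟨x, hx⟩ e
    replace e : f x = 1 := congrArg Subtype.val e
    obtain ⟨g, t, k, e', g', hk, rfl⟩ := D.bruhat hx
    have hh : f (D.h t) = A.h t := by simp only [P8.h_apply, map_mul, h1, h2]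
    have hw : f (D.wd k e') = A.wd k e' := by cases e' <;> simp [wd, hn1, hn8]
    rw [map_mul, map_mul, map_mul, hu, hu, hh, hw] at e
    have e2 : A.wd k e' = (A.u g * A.h t)⁻¹ * (A.u g')⁻¹ := by
      rw [eq_inv_mul_iff_mul_eq, eq_inv_iff_mul_eq_one, e]
    obtain ⟨rfl, rfl⟩ := A.eq_of_wd_mem hk
      (e2 ▸ mul_mem (inv_mem (mul_mem (u_mem_B _ g) (h_mem_B _ t))) (inv_mem (u_mem_B _ g')))
    have hw1 : A.wd 0 false = 1 := by simp [wd]
    rw [hw1, mul_one] at e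
    have e3 : A.h t = (A.u g)⁻¹ * (A.u g')⁻¹ := by rw [eq_inv_mul_iff_mul_eq, eq_inv_iff_mul_eq_one, e]
    obtain rfl : t = 1 := eq_one_of_h_mem (e3 ▸ mul_mem (inv_mem (A.u_mem_S g)) (inv_mem (A.u_mem_S g')))
    rw [map_one, mul_one, ← map_mul, ← map_one A.u] at e
    refine Subtype.ext ?_
    simp only [wd, pow_zero, map_one, mul_one, Bool.false_eq_true, if_false]
    rw [← map_mul, A.inj e, map_one]; rfl
  exact ⟨(MulEquiv.ofBijective _ ⟨hi, f.subgroupMap_surjective _⟩).trans (MulEquiv.subgroupCongr hm), fun _ => rfl⟩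

/-- the product structure -/
def prod {G' : Type*} [Group G'] (A : OS σ r G) (A' : OS σ r G') : OS σ r (G × G') where
  u := A.u.prod A'.u
  h1 := A.h1.prod A'.h1
  n8 := (A.n8, A'.n8)
  inj _ _ e := A.inj (congrArg Prod.fst e)
  h1u n g := Prod.ext (A.h1u n g) (A'.h1u n g)
  n8n8 := Prod.ext A.n8n8 A'.n8n8
  n8u g h h' := Prod.ext (A.n8u g h h') (A'.n8u g h h')
  n8h1 n := Prod.ext (A.n8h1 n) (A'.n8h1 n)
  r8 p h := Prod.ext (A.r8 p h) (A'.r8 p h)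
  h2 := A.h2.prod A'.h2
  h12 n s := Prod.ext (A.h12 n s) (A'.h12 n s)
  h2u s g := Prod.ext (A.h2u s g) (A'.h2u s g)
  n8h2 s := Prod.ext (A.n8h2 s) (A'.n8h2 s)
  n1 := (A.n1, A'.n1)
  n1n1 := Prod.ext A.n1n1 A'.n1n1
  n1u g h := Prod.ext (A.n1u g h) (A'.n1u g h)
  n1h1 n := Prod.ext (A.n1h1 n) (A'.n1h1 n)
  n1h2 s := Prod.ext (A.n1h2 s) (A'.n1h2 s)
  r1 t := Prod.ext (A.r1 t) (A'.r1 t)
  braid := Prod.ext A.braid A'.braid

theorem u_mem_grp (P : P81 σ r G) (g : U σ) : P.u g ∈ P.grp :=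
  Subgroup.mem_sup_left (Subgroup.mem_sup_left (P.u_mem_C g))
theorem C_le_grp (P : P81 σ r G) : P.C ≤ P.grp := le_sup_left.trans le_sup_left
theorem h_mem_grp (P : P81 σ r G) (t : Kˣ × Kˣ) : P.h t ∈ P.grp :=
  mul_mem (C_le_grp P (P.h1_mem_C _)) (Subgroup.mem_sup_left (Subgroup.mem_sup_right ⟨_, rfl⟩))
theorem n1_mem_grp (P : P81 σ r G) : P.n1 ∈ P.grp := Subgroup.mem_sup_right (Subgroup.mem_zpowers _)
theorem n8_mem_grp (P : P81 σ r G) : P.n8 ∈ P.grp := C_le_grp P P.n8_mem_C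

/-- uniqueness of the group generated by the two parabolic subgroups -/
theorem exists_equiv {G' : Type*} [Group G'] (A : OS σ r G) (A' : OS σ r G') :
    ∃ φ : A.grp ≃* A'.grp, (∀ g (x : A.grp), x = A.u g → φ x = A'.u g) ∧ (∀ t (x : A.grp), x = A.h t → φ x = A'.h t) ∧
      (∀ x : A.grp, x = A.n1 → φ x = A'.n1) ∧ ∀ x : A.grp, x = A.n8 → φ x = A'.n8 := by
  obtain ⟨φ, hφ⟩ := exists_equiv_of_hom (A.prod A') A (MonoidHom.fst G G') (fun _ => rfl) (fun _ => rfl) (fun _ => rfl) rfl rfl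
  obtain ⟨ψ, hψ⟩ := exists_equiv_of_hom (A.prod A') A' (MonoidHom.snd G G') (fun _ => rfl) (fun _ => rfl) (fun _ => rfl) rfl rfl
  have key : ∀ (γ : (A.prod A').grp) (x : A.grp), (x : G) = γ.1.1 → ((φ.symm.trans ψ) x : G') = γ.1.2 := fun γ x e => by
    rw [show x = φ γ from Subtype.ext (e.trans (hφ γ).symm), MulEquiv.trans_apply, MulEquiv.symm_apply_apply, hψ]; rfl
  exact ⟨φ.symm.trans ψ, fun g => key ⟨_, u_mem_grp _ g⟩, fun t => key ⟨_, h_mem_grp _ t⟩, key ⟨_, n1_mem_grp _⟩,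
    key ⟨_, n8_mem_grp _⟩⟩

theorem al_cases (P : P81 σ r G) {e : Bool} {j : ℕ} (hj : j ≤ 8) {c : K}
    (h : P.u (y4 0 c) * al P e j = al P e j * P.u (y4 0 1)) : al P e j = 1 ∨ al P e j = P.n8 := by
  have k1 : ∀ {g g' : U σ}, P.u g * P.n8 = P.n8 * P.u g' → P.n8 * P.u g' * P.n8 ∈ P.B1 := fun {g g'} e => by
    rw [← e, mul_assoc, P.n8n8, mul_one]; exact P.S_le_B1 (P.u_mem_S _)
  have t1 : ∀ y, P.n1 * (P.u (y4 0 1) * y) = P.u (y6 0 1) * (P.n1 * y) := fun y => (y6_1 P 0 1 y).symm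
  have t2 : ∀ y, P.n8 * (P.u (y4 0 1) * y) = P.u (y4 0 1) * (P.n8 * y) := fun y => (y4_8 P 0 1 y).symm
  have t3 : ∀ y, P.n8 * (P.u (y6 0 1) * y) = P.u (y2 0 1) * (P.n8 * y) := fun y => (y2_8 P 0 1 y).symm
  have t4 : ∀ y, P.n1 * (P.u (y2 0 1) * y) = P.u (y8 0 1) * (P.n1 * y) := fun y => (y8_1 P 0 1 y).symm
  have c1 : P.u (y4 0 c) * P.n1 ≠ P.n1 * P.u (y4 0 1) := fun e => by
    have e1 := t1 1
    rw [mul_one, mul_one, ← e, mul_left_inj] at e1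
    simpa using congrArg U.c6 (P.inj e1)
  have c3 : P.u (y4 0 c) * (P.n1 * (P.n8 * P.n1)) ≠ P.n1 * (P.n8 * (P.n1 * P.u (y4 0 1))) := fun e => by
    rw [← mul_one (P.u (y4 0 1)), t1, t3, t4, mul_one, mul_left_inj] at e
    simpa using congrArg U.c8 (P.inj e)
  have c5 : P.u (y4 0 c) * (P.n1 * (P.n8 * (P.n1 * (P.n8 * P.n1)))) ≠
      P.n1 * (P.n8 * (P.n1 * (P.n8 * (P.n1 * P.u (y4 0 1))))) := fun e => by
    rw [← mul_one (P.u (y4 0 1)), t1, t3, t4, mul_one, y4_1, mul_right_inj, ← mul_assoc, ← mul_assoc P.n8 (P.u _),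
      mul_left_inj] at e
    exact one_ne_zero (PC.eq_zero_of_n8 (P := P.toPC) (k1 e)).2
  have c7 : P.u (y4 0 c) * (P.n1 * (P.n8 * (P.n1 * (P.n8 * (P.n1 * (P.n8 * P.n1)))))) ≠
      P.n1 * (P.n8 * (P.n1 * (P.n8 * (P.n1 * (P.n8 * (P.n1 * P.u (y4 0 1))))))) := fun e => by
    rw [← mul_one (P.u (y4 0 1)), t1, t3, t4, mul_one, y4_1, y6_8, y2_1, mul_right_inj, mul_right_inj, mul_right_inj,
      ← mul_assoc, ← mul_assoc P.n8 (P.u _), mul_left_inj] at e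
    exact one_ne_zero (PC.eq_zero_of_n8 (P := P.toPC) (k1 e)).2
  have t5 : P.n8 * P.u (y4 0 1) = P.u (y4 0 1) * P.n8 := by simpa using t2 1
  have t6 : ∀ a b : G, a * P.n8 = b * P.n8 ↔ a = b := fun a b => mul_left_inj _
  cases e <;> interval_cases j <;>
    simp only [al, sr, Bool.not_true, Bool.not_false, mul_one, mul_assoc, y4_8, mul_right_inj, t5, true_or, or_true] at h ⊢ <;>
    (try simp only [← mul_assoc, t6] at h) <;> (try simp only [mul_assoc] at h) <;>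
    first | exact absurd h c1 | exact absurd h c3 | exact absurd h c5 | exact absurd h c7

theorem mem_C_of_comm (A : OS σ r G) {x : G} (hx : x ∈ A.grp) (h : x * A.τ = A.τ * x) : x ∈ A.C := by
  obtain ⟨b, hb, e, j, g', hj, rfl⟩ := cell_of_mem hx
  obtain ⟨g, t, rfl⟩ := mem_B.1 hb
  have h1 : A.u (y4 0 ((t⁻¹).2 * 1)) * al A.toP81 e j = al A.toP81 e j * A.u (y4 0 1) := by
    rw [PC.τ, mul_assoc, PC.comm_Z (A.u_mem_C g'), ← mul_assoc, ← mul_assoc, mul_left_inj, ← mul_assoc, ← mul_assoc,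
      ← PC.comm_Z (A.u_mem_C g), mul_assoc, mul_assoc, mul_assoc, mul_assoc, mul_right_inj] at h
    rw [← h_conj_Z, map_inv, inv_inv, mul_assoc, mul_assoc, ← h, inv_mul_cancel_left]
  have h2 : al A.toP81 e j ∈ A.C := by
    rcases al_cases A.toP81 hj h1 with e | e <;> rw [e]
    exacts [one_mem _, A.n8_mem_C]
  rw [PC.comm_Z h2, mul_left_inj] at h1
  have h3 : t.2 = 1 := inv_eq_one.1 (Units.ext (by simpa using congrArg U.c4 (A.inj h1)))
  rw [P8.h_apply, h3, map_one, mul_one]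
  exact mul_mem (mul_mem (mul_mem (A.u_mem_C g) (A.h1_mem_C _)) h2) (A.u_mem_C g')

theorem invol_aux (P : P81 σ r G) {x : G} (h1 : x ≠ 1)
    (h : x ∈ P.Z ∨ x = P.u (y6 0 1) ∨ x = P.u (x5 1) ∨ x = P.u (x7 1)) :
    ∃ y ∈ P.grp, y * x * y⁻¹ = P.τ ∨ y * x * y⁻¹ = P.u (x5 1) := by
  have i1 : P.n1⁻¹ = P.n1 := inv_eq_of_mul_eq_one_right P.n1n1
  rcases h with h | rfl | rfl | rfl
  · obtain ⟨c, rfl⟩ := PC.mem_Z.1 h
    have hc : c ≠ 0 := fun e => h1 (by rw [e]; exact map_one P.u)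
    exact ⟨_, h_mem_grp P (1, (Units.mk0 c hc)⁻¹), Or.inl (by rw [h_conj_Z]; simp [PC.τ, hc])⟩
  · exact ⟨_, n1_mem_grp P, Or.inl (by rw [i1, mul_assoc, ← mul_one P.n1, y6_1, mul_one, n1n1', mul_one]; rfl)⟩
  · exact ⟨1, one_mem _, Or.inr (by simp)⟩
  · refine ⟨_, mul_mem (n8_mem_grp P) (n1_mem_grp P), Or.inr ?_⟩
    rw [mul_inv_rev, i1, P.n8_inv, mul_assoc, x7_1, ← mul_one P.n8, x3_8]
    simp only [mul_one, mul_assoc, n1n1', n8n8']

theorem invol_grp' (P : P81 σ r G) {x : G} (hx : x ∈ P.C) (h : x * x = 1) (h1 : x ≠ 1) :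
    ∃ y ∈ P.grp, y * x * y⁻¹ = P.τ ∨ y * x * y⁻¹ = P.u (x5 1) := by
  have key : ∀ {x : G}, x ≠ 1 → ∀ y ∈ P.grp, (y * x * y⁻¹ ∈ P.Z ∨ y * x * y⁻¹ = P.u (y6 0 1) ∨ y * x * y⁻¹ = P.u (x5 1) ∨
      y * x * y⁻¹ = P.u (x7 1)) → ∃ y ∈ P.grp, y * x * y⁻¹ = P.τ ∨ y * x * y⁻¹ = P.u (x5 1) := fun {x} h1 y hy h => by
    obtain ⟨y', hy', e⟩ := invol_aux P (fun e => h1 (by simpa using e)) h
    exact ⟨y' * y, mul_mem hy' hy, by simpa only [mul_inv_rev, mul_assoc] using e⟩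
  obtain ⟨y, hy, e⟩ := PC.invol hx h
  rcases e with e | e | e | e | ⟨c, e⟩
  · exact key h1 y (C_le_grp P hy) (Or.inl e)
  · exact key h1 y (C_le_grp P hy) (Or.inr (Or.inl e))
  · exact key h1 y (C_le_grp P hy) (Or.inr (Or.inr (Or.inl e)))
  · exact key h1 y (C_le_grp P hy) (Or.inr (Or.inr (Or.inr e)))
  have i1 : P.n1⁻¹ = P.n1 := inv_eq_of_mul_eq_one_right P.n1n1
  have h2 : P.n1 * (y * x * y⁻¹) * P.n1⁻¹ ∈ P.Q := by
    rw [e, i1, P.n1u _ (by usimp), PC.u_mem_Q]; usimp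
  obtain ⟨y', hy', e'⟩ := PC.invol_Q h2 (by rw [conj_mul, conj_mul, h]; simp)
  exact key h1 (y' * P.n1 * y) (mul_mem (mul_mem (C_le_grp P hy') (n1_mem_grp P)) (C_le_grp P hy))
    (by simpa only [mul_inv_rev, mul_assoc] using e')

theorem invol_grp (A : OS σ r G) {x : G} (hx : x ∈ A.C) (h : x * x = 1) (h1 : x ≠ 1) :
    ∃ y ∈ A.grp, y * x * y⁻¹ = A.τ ∨ y * x * y⁻¹ = A.u (x5 1) := invol_grp' A.toP81 hx h h1

end OS

end CL.RF
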