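/-
INV library (large Ree groups), `q = 2`: bit-sliced computation in `U σ`. A `BV` is a family of elements of `U σ`; `pr σ i` is the member `i`.
-/
import Cfsg.Agent.INV.RF.Bru2

set_option autoImplicit false
set_option linter.unusedSimpArgs false
set_option linter.unusedSectionVars false

namespace CL.RF.TA

open U

local infixl:70 " *ₓ " => Nat.land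
local infixl:65 " +ₓ " => Nat.xor

/-- twelve bit vectors -/
structure BV where
  a1 : ℕ
  b2 : ℕ
  c2 : ℕ
  a3 : ℕ
  b4 : ℕ
  c4 : ℕ
  a5 : ℕ
  b6 : ℕ
  c6 : ℕ
  a7 : ℕ
  b8 : ℕ
  c8 : ℕ

namespace BV

/-- the product -/
def mul (g h : BV) : BV where
  a1 := g.a1 +ₓ h.a1
  b2 := g.b2 +ₓ h.b2 +ₓ h.a1 *ₓ g.b8
  c2 := g.c2 +ₓ h.c2 +ₓ h.a1 *ₓ g.b4 +ₓ h.a1 *ₓ g.b6 +ₓ h.b2 *ₓ g.b2 +ₓ h.a1 *ₓ h.a1 *ₓ g.c8 +ₓ h.a1 *ₓ h.b2 *ₓ g.b8 +ₓ h.a1 *ₓ g.b2 *ₓ g.b8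
  a3 := g.a3 +ₓ h.a3 +ₓ h.b2 *ₓ g.b4 +ₓ h.c2 *ₓ g.b8 +ₓ h.a1 *ₓ g.b6 +ₓ h.a1 *ₓ g.a7 +ₓ h.a1 *ₓ g.b4 *ₓ g.b8 +ₓ h.b2 *ₓ h.b2 *ₓ g.b8 +ₓ
    h.a1 *ₓ h.b2 *ₓ g.c8 +ₓ h.a1 *ₓ h.a1 *ₓ g.c8 +ₓ h.a1 *ₓ h.a1 *ₓ g.b8 *ₓ g.c8 +ₓ h.a1 *ₓ h.a1 *ₓ g.b8 *ₓ g.b8
  b4 := g.b4 +ₓ h.b4 +ₓ h.a1 *ₓ g.c8 +ₓ h.b2 *ₓ g.b8
  c4 := g.c4 +ₓ h.c4 +ₓ h.a1 *ₓ g.c6 +ₓ h.a3 *ₓ g.b6 +ₓ h.b2 *ₓ g.a5 +ₓ h.c2 *ₓ g.a7 +ₓ h.a3 *ₓ g.b8 +ₓ h.b4 *ₓ g.b4 +ₓ h.c2 *ₓ g.c8 +ₓ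
    h.a1 *ₓ g.a5 *ₓ g.b8 +ₓ h.a1 *ₓ h.a3 *ₓ g.c8 +ₓ h.b2 *ₓ h.c2 *ₓ g.c8 +ₓ h.c2 *ₓ g.b6 *ₓ g.b8 +ₓ h.a1 *ₓ h.b2 *ₓ g.a7 +ₓ
    h.a1 *ₓ h.c2 *ₓ g.c8 +ₓ h.a3 *ₓ h.b2 *ₓ g.b8 +ₓ h.b2 *ₓ h.b2 *ₓ g.a7 +ₓ h.a1 *ₓ g.a7 *ₓ g.b6 +ₓ h.a1 *ₓ h.b4 *ₓ g.c8 +ₓ
    h.b2 *ₓ h.b4 *ₓ g.b8 +ₓ h.a1 *ₓ g.b4 *ₓ g.c8 +ₓ h.a1 *ₓ g.a7 *ₓ g.b8 +ₓ h.b2 *ₓ g.b4 *ₓ g.b8 +ₓ h.b2 *ₓ h.b2 *ₓ g.c8 +ₓ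
    h.a1 *ₓ h.a3 *ₓ g.b8 *ₓ g.b8 +ₓ h.a1 *ₓ h.a1 *ₓ g.a7 *ₓ g.c8 +ₓ h.b2 *ₓ h.c2 *ₓ g.b8 *ₓ g.b8 +ₓ h.b2 *ₓ h.b2 *ₓ g.b6 *ₓ g.b8 +ₓ
    h.a1 *ₓ h.b2 *ₓ g.b6 *ₓ g.c8 +ₓ h.a1 *ₓ h.b2 *ₓ h.b2 *ₓ g.c8 +ₓ h.a1 *ₓ h.a1 *ₓ g.b6 *ₓ g.c8 +ₓ h.a1 *ₓ h.b2 *ₓ g.a7 *ₓ g.b8 +ₓ
    h.a1 *ₓ h.a1 *ₓ h.b2 *ₓ g.c8 +ₓ h.a1 *ₓ h.a1 *ₓ g.c8 *ₓ g.c8 +ₓ h.b2 *ₓ h.b2 *ₓ g.b8 *ₓ g.b8 +ₓ h.a1 *ₓ h.b2 *ₓ g.b8 *ₓ g.c8 +ₓ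
    h.a1 *ₓ h.a1 *ₓ g.b6 *ₓ g.b8 *ₓ g.c8 +ₓ h.a1 *ₓ h.a1 *ₓ g.b8 *ₓ g.c8 +ₓ h.a1 *ₓ h.a1 *ₓ g.a7 *ₓ g.b8 *ₓ g.b8 +ₓ
    h.a1 *ₓ h.a1 *ₓ h.b2 *ₓ g.b8 *ₓ g.c8 +ₓ h.a1 *ₓ h.a1 *ₓ g.b6 *ₓ g.b8 *ₓ g.b8 +ₓ h.a1 *ₓ h.a1 *ₓ g.b8 *ₓ g.b8 +ₓ
    h.a1 *ₓ h.a1 *ₓ g.b8 *ₓ g.b8 *ₓ g.c8 +ₓ h.a1 *ₓ h.a1 *ₓ h.b2 *ₓ g.b8 *ₓ g.b8
  a5 := g.a5 +ₓ h.a5 +ₓ h.b4 *ₓ g.b6 +ₓ h.c2 *ₓ g.c8 +ₓ h.a1 *ₓ g.a7 +ₓ h.a3 *ₓ g.b8 +ₓ h.b2 *ₓ g.a7 +ₓ h.a1 *ₓ h.b4 *ₓ g.c8 +ₓ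
    h.b2 *ₓ h.b4 *ₓ g.b8 +ₓ h.c2 *ₓ g.b8 *ₓ g.b8 +ₓ h.a1 *ₓ g.b6 *ₓ g.c8 +ₓ h.b2 *ₓ g.b6 *ₓ g.b8 +ₓ h.a1 *ₓ h.b2 *ₓ g.c8 +ₓ
    h.a1 *ₓ g.a7 *ₓ g.b8 +ₓ h.a1 *ₓ h.a1 *ₓ g.c8 +ₓ h.a1 *ₓ h.b4 *ₓ g.b8 *ₓ g.b8 +ₓ h.a1 *ₓ h.a1 *ₓ g.b8 *ₓ g.c8 +ₓ
    h.a1 *ₓ h.a1 *ₓ g.b8 *ₓ g.b8
  b6 := g.b6 +ₓ h.b6 +ₓ h.a1 *ₓ g.c8 +ₓ h.b2 *ₓ g.b8 +ₓ h.a1 *ₓ g.b8 *ₓ g.b8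
  c6 := g.c6 +ₓ h.c6 +ₓ h.a3 *ₓ g.c8 +ₓ h.a5 *ₓ g.b8 +ₓ h.b4 *ₓ g.a7 +ₓ h.b2 *ₓ g.a7 +ₓ h.c2 *ₓ g.c8 +ₓ h.b6 *ₓ g.b6 +ₓ
    h.b2 *ₓ h.b4 *ₓ g.c8 +ₓ h.c2 *ₓ g.b8 *ₓ g.c8 +ₓ h.a1 *ₓ h.b4 *ₓ g.c8 +ₓ h.a1 *ₓ g.a7 *ₓ g.b8 +ₓ h.a1 *ₓ h.b6 *ₓ g.c8 +ₓ
    h.a1 *ₓ g.a7 *ₓ g.c8 +ₓ h.b2 *ₓ g.a7 *ₓ g.b8 +ₓ h.b2 *ₓ h.b2 *ₓ g.c8 +ₓ h.b2 *ₓ h.b6 *ₓ g.b8 +ₓ h.a1 *ₓ g.b6 *ₓ g.c8 +ₓ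
    h.c2 *ₓ g.b8 *ₓ g.b8 +ₓ h.a1 *ₓ h.b2 *ₓ g.c8 +ₓ h.b2 *ₓ g.b6 *ₓ g.b8 +ₓ h.a1 *ₓ h.b4 *ₓ g.b8 *ₓ g.c8 +ₓ h.a1 *ₓ h.b2 *ₓ g.b8 *ₓ g.c8 +ₓ
    h.a1 *ₓ h.b6 *ₓ g.b8 *ₓ g.b8 +ₓ h.a1 *ₓ h.b4 *ₓ g.b8 *ₓ g.b8 +ₓ h.a1 *ₓ h.a1 *ₓ g.b8 *ₓ g.c8 +ₓ h.a1 *ₓ h.b2 *ₓ g.b8 *ₓ g.c8 +ₓ
    h.a1 *ₓ g.b6 *ₓ g.b8 *ₓ g.b8 +ₓ h.a1 *ₓ h.a1 *ₓ g.b8 *ₓ g.b8 +ₓ h.a1 *ₓ h.b2 *ₓ g.b8 *ₓ g.b8 +ₓ h.a1 *ₓ h.a1 *ₓ g.b8 *ₓ g.b8 *ₓ g.c8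
  a7 := g.a7 +ₓ h.a7 +ₓ h.b2 *ₓ g.c8 +ₓ h.b6 *ₓ g.b8 +ₓ h.a1 *ₓ g.c8 +ₓ h.a1 *ₓ g.b8 *ₓ g.c8 +ₓ h.a1 *ₓ g.b8 *ₓ g.b8
  b8 := g.b8 +ₓ h.b8
  c8 := g.c8 +ₓ h.c8 +ₓ h.b8 *ₓ g.b8

/-- the inverse -/
def inv (g : BV) : BV where
  a1 := g.a1
  b2 := g.b2 +ₓ g.a1 *ₓ g.b8
  c2 := g.c2 +ₓ g.a1 *ₓ g.b4 +ₓ g.b2 *ₓ g.b2 +ₓ g.a1 *ₓ g.b6 +ₓ g.a1 *ₓ g.a1 *ₓ g.c8 +ₓ g.a1 *ₓ g.b2 *ₓ g.b8 +ₓ g.a1 *ₓ g.a1 *ₓ g.b8 *ₓ g.b8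
  a3 := g.a3 +ₓ g.b2 *ₓ g.b4 +ₓ g.b8 *ₓ g.c2 +ₓ g.a1 *ₓ g.b6 +ₓ g.a1 *ₓ g.a7 +ₓ g.a1 *ₓ g.b4 *ₓ g.b8 +ₓ g.a1 *ₓ g.b2 *ₓ g.c8 +ₓ
    g.a1 *ₓ g.b6 *ₓ g.b8 +ₓ g.a1 *ₓ g.a1 *ₓ g.c8 +ₓ g.a1 *ₓ g.a1 *ₓ g.b8 *ₓ g.c8 +ₓ g.a1 *ₓ g.b2 *ₓ g.b8 *ₓ g.b8 +ₓ
    g.a1 *ₓ g.a1 *ₓ g.b8 *ₓ g.b8
  b4 := g.b4 +ₓ g.a1 *ₓ g.c8 +ₓ g.b2 *ₓ g.b8 +ₓ g.a1 *ₓ g.b8 *ₓ g.b8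
  c4 := g.c4 +ₓ g.a1 *ₓ g.c6 +ₓ g.a3 *ₓ g.b6 +ₓ g.a5 *ₓ g.b2 +ₓ g.a7 *ₓ g.c2 +ₓ g.b4 *ₓ g.b4 +ₓ g.a3 *ₓ g.b8 +ₓ g.c2 *ₓ g.c8 +ₓ
    g.a1 *ₓ g.a3 *ₓ g.c8 +ₓ g.a1 *ₓ g.a7 *ₓ g.b4 +ₓ g.b2 *ₓ g.b4 *ₓ g.b6 +ₓ g.b2 *ₓ g.c2 *ₓ g.c8 +ₓ g.a1 *ₓ g.b6 *ₓ g.b6 +ₓ
    g.a1 *ₓ g.c2 *ₓ g.c8 +ₓ g.a1 *ₓ g.a7 *ₓ g.b2 +ₓ g.a3 *ₓ g.b2 *ₓ g.b8 +ₓ g.a1 *ₓ g.a7 *ₓ g.b6 +ₓ g.b8 *ₓ g.b8 *ₓ g.c2 +ₓ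
    g.a1 *ₓ g.b4 *ₓ g.c8 +ₓ g.a1 *ₓ g.a7 *ₓ g.b8 +ₓ g.b2 *ₓ g.b4 *ₓ g.b8 +ₓ g.b2 *ₓ g.b2 *ₓ g.c8 +ₓ g.a1 *ₓ g.b6 *ₓ g.b8 +ₓ
    g.a1 *ₓ g.a1 *ₓ g.a7 *ₓ g.c8 +ₓ g.a1 *ₓ g.b2 *ₓ g.b6 *ₓ g.c8 +ₓ g.a1 *ₓ g.b2 *ₓ g.b6 *ₓ g.b8 +ₓ g.a1 *ₓ g.a1 *ₓ g.b6 *ₓ g.c8 +ₓ
    g.a1 *ₓ g.a7 *ₓ g.b2 *ₓ g.b8 +ₓ g.a1 *ₓ g.b8 *ₓ g.b8 *ₓ g.c2 +ₓ g.a1 *ₓ g.a1 *ₓ g.b2 *ₓ g.c8 +ₓ g.a1 *ₓ g.a1 *ₓ g.c8 *ₓ g.c8 +ₓ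
    g.a1 *ₓ g.b6 *ₓ g.b8 *ₓ g.b8 +ₓ g.b2 *ₓ g.b2 *ₓ g.b8 *ₓ g.b8 +ₓ g.a1 *ₓ g.b2 *ₓ g.b8 *ₓ g.c8 +ₓ g.a1 *ₓ g.b4 *ₓ g.b8 *ₓ g.b8 +ₓ
    g.a1 *ₓ g.a1 *ₓ g.b8 *ₓ g.c8 +ₓ g.a1 *ₓ g.b2 *ₓ g.b8 *ₓ g.b8 +ₓ g.a1 *ₓ g.a1 *ₓ g.b2 *ₓ g.b8 *ₓ g.c8 +ₓ
    g.a1 *ₓ g.a1 *ₓ g.b6 *ₓ g.b8 *ₓ g.b8 +ₓ g.a1 *ₓ g.a1 *ₓ g.b2 *ₓ g.b8 *ₓ g.b8 +ₓ g.a1 *ₓ g.a1 *ₓ g.b8 *ₓ g.b8 *ₓ g.c8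
  a5 := g.a5 +ₓ g.b4 *ₓ g.b6 +ₓ g.c2 *ₓ g.c8 +ₓ g.a1 *ₓ g.a7 +ₓ g.a3 *ₓ g.b8 +ₓ g.a7 *ₓ g.b2 +ₓ g.b2 *ₓ g.b2 *ₓ g.c8 +ₓ
    g.a1 *ₓ g.b6 *ₓ g.c8 +ₓ g.a1 *ₓ g.b2 *ₓ g.c8 +ₓ g.a1 *ₓ g.b6 *ₓ g.b8 +ₓ g.a1 *ₓ g.a7 *ₓ g.b8 +ₓ g.a1 *ₓ g.a1 *ₓ g.c8 +ₓ
    g.a1 *ₓ g.a1 *ₓ g.b8 *ₓ g.c8 +ₓ g.a1 *ₓ g.b2 *ₓ g.b8 *ₓ g.b8 +ₓ g.a1 *ₓ g.a1 *ₓ g.b8 *ₓ g.b8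
  b6 := g.b6 +ₓ g.a1 *ₓ g.c8 +ₓ g.b2 *ₓ g.b8
  c6 := g.c6 +ₓ g.a3 *ₓ g.c8 +ₓ g.a5 *ₓ g.b8 +ₓ g.a7 *ₓ g.b4 +ₓ g.b6 *ₓ g.b6 +ₓ g.c2 *ₓ g.c8 +ₓ g.a7 *ₓ g.b2 +ₓ g.b4 *ₓ g.b6 *ₓ g.b8 +ₓ
    g.b8 *ₓ g.c2 *ₓ g.c8 +ₓ g.a1 *ₓ g.a7 *ₓ g.b8 +ₓ g.a3 *ₓ g.b8 *ₓ g.b8 +ₓ g.a7 *ₓ g.b2 *ₓ g.b8 +ₓ g.a1 *ₓ g.a7 *ₓ g.c8 +ₓ
    g.b2 *ₓ g.b6 *ₓ g.b8 +ₓ g.a1 *ₓ g.b6 *ₓ g.c8 +ₓ g.b8 *ₓ g.b8 *ₓ g.c2 +ₓ g.a1 *ₓ g.b2 *ₓ g.c8 +ₓ g.b2 *ₓ g.b2 *ₓ g.b8 *ₓ g.c8 +ₓ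
    g.a1 *ₓ g.b6 *ₓ g.b8 *ₓ g.c8 +ₓ g.a1 *ₓ g.b2 *ₓ g.b8 *ₓ g.c8 +ₓ g.a1 *ₓ g.b6 *ₓ g.b8 *ₓ g.b8 +ₓ g.a1 *ₓ g.a7 *ₓ g.b8 *ₓ g.b8 +ₓ
    g.a1 *ₓ g.a1 *ₓ g.b8 *ₓ g.c8 +ₓ g.a1 *ₓ g.b2 *ₓ g.b8 *ₓ g.c8 +ₓ g.a1 *ₓ g.b2 *ₓ g.b8 *ₓ g.b8 +ₓ g.a1 *ₓ g.b6 *ₓ g.b8 *ₓ g.b8 +ₓ
    g.a1 *ₓ g.a1 *ₓ g.b8 *ₓ g.b8 +ₓ g.a1 *ₓ g.b2 *ₓ g.b8 *ₓ g.b8 +ₓ g.a1 *ₓ g.a1 *ₓ g.b8 *ₓ g.b8 *ₓ g.c8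
  a7 := g.a7 +ₓ g.b2 *ₓ g.c8 +ₓ g.b6 *ₓ g.b8 +ₓ g.a1 *ₓ g.c8 +ₓ g.a1 *ₓ g.b8 *ₓ g.c8 +ₓ g.b2 *ₓ g.b8 *ₓ g.b8 +ₓ g.a1 *ₓ g.b8 *ₓ g.b8
  b8 := g.b8
  c8 := g.c8 +ₓ g.b8 *ₓ g.b8

/-- the action of `n₈` -/
def w8 (g : BV) : BV where
  a1 := g.a7
  b2 := g.b6
  c2 := g.c6 +ₓ g.a7 *ₓ g.b4 +ₓ g.a7 *ₓ g.b2
  a3 := g.a5 +ₓ g.b4 *ₓ g.b6 +ₓ g.a1 *ₓ g.a7 +ₓ g.a7 *ₓ g.b2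
  b4 := g.b4
  c4 := g.c4 +ₓ g.a1 *ₓ g.c6 +ₓ g.a3 *ₓ g.b6 +ₓ g.a5 *ₓ g.b2 +ₓ g.a7 *ₓ g.c2 +ₓ g.a1 *ₓ g.a7 *ₓ g.b4 +ₓ g.b2 *ₓ g.b4 *ₓ g.b6 +ₓ
    g.a1 *ₓ g.b6 *ₓ g.b6 +ₓ g.a1 *ₓ g.a7 *ₓ g.b2 +ₓ g.a1 *ₓ g.a7 *ₓ g.b6
  a5 := g.a3 +ₓ g.b2 *ₓ g.b4 +ₓ g.a1 *ₓ g.b6 +ₓ g.a1 *ₓ g.a7
  b6 := g.b2
  c6 := g.c2 +ₓ g.a1 *ₓ g.b4 +ₓ g.a1 *ₓ g.b6
  a7 := g.a1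
  b8 := 0
  c8 := 0

instance : Mul BV := ⟨mul⟩
instance : Inv BV := ⟨inv⟩

/-- the power with exponent `0` or `1` -/
def pw (t : ℕ) (g : BV) : BV := ⟨t *ₓ g.a1, t *ₓ g.b2, t *ₓ g.c2, t *ₓ g.a3, t *ₓ g.b4, t *ₓ g.c4, t *ₓ g.a5, t *ₓ g.b6, t *ₓ g.c6,
  t *ₓ g.a7, t *ₓ g.b8, t *ₓ g.c8⟩

/-- `o` or `0` -/
def mk1 (o n k : ℕ) : ℕ := if n.testBit k then o else 0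

/-- the constant family -/
def cst (o n : ℕ) : BV := ⟨mk1 o n 0, mk1 o n 1, mk1 o n 2, mk1 o n 3, mk1 o n 4, mk1 o n 5, mk1 o n 6, mk1 o n 7, mk1 o n 8,
  mk1 o n 9, mk1 o n 10, mk1 o n 11⟩

/-- where the upper coordinates differ -/
def neU (g h : BV) : ℕ := (g.a1 +ₓ h.a1).lor <| (g.b2 +ₓ h.b2).lor <| (g.c2 +ₓ h.c2).lor <| (g.b4 +ₓ h.b4).lor <| (g.b6 +ₓ h.b6).lor <|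
  (g.b8 +ₓ h.b8).lor (g.c8 +ₓ h.c8)

/-- where the families differ -/
def ne (g h : BV) : ℕ := (neU g h).lor <| (g.a3 +ₓ h.a3).lor <| (g.c4 +ₓ h.c4).lor <| (g.a5 +ₓ h.a5).lor <| (g.c6 +ₓ h.c6).lor
  (g.a7 +ₓ h.a7)

end BV

/-- all `2 ^ N` lanes -/
def ones (N : ℕ) : ℕ := 2 ^ 2 ^ N - 1

/-- bit `k` of the lane number -/
def vr (k : ℕ) : ℕ → ℕ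
  | 0 => 0
  | N + 1 => if k = N then (ones N).shiftLeft (2 ^ N) else (vr k N).lor ((vr k N).shiftLeft (2 ^ N))

theorem ones_bit {N i : ℕ} : (ones N).testBit i = decide (i < 2 ^ N) := Nat.testBit_two_pow_sub_one ..

theorem vr_bit {k N i : ℕ} (hk : k < N) (hi : i < 2 ^ N) : (vr k N).testBit i = i.testBit k := by
  have h0 : ∀ N i, 2 ^ N ≤ i → (vr k N).testBit i = false := by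
    intro N
    induction N with
    | zero => simp [vr]
    | succ N ih =>
      intro i hi
      rw [vr]; split_ifs
      · show (ones N <<< 2 ^ N).testBit i = false
        simp only [Nat.testBit_shiftLeft, ones_bit]; simp; omega
      · show (vr k N ||| vr k N <<< 2 ^ N).testBit i = false
        rw [Nat.testBit_or, Nat.testBit_shiftLeft, ih i (by omega), ih _ (by omega)]; simp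
  induction N generalizing i with
  | zero => omega
  | succ N ih =>
    rw [vr]; split_ifs with e
    · subst e
      show (ones k <<< 2 ^ k).testBit i = _
      rw [Nat.testBit_shiftLeft, ones_bit]
      rcases lt_or_ge i (2 ^ k) with h | h
      · simp [Nat.testBit_lt_two_pow h, h]
      · rw [Nat.testBit_of_two_pow_le_and_two_pow_add_one_gt h hi]; simp; omega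
    show (vr k N ||| vr k N <<< 2 ^ N).testBit i = _
    rw [Nat.testBit_or, Nat.testBit_shiftLeft]
    rcases lt_or_ge i (2 ^ N) with h | h
    · simp [ih (by omega) h, h]
    · obtain ⟨j, rfl⟩ := Nat.exists_eq_add_of_le h
      rw [h0 N _ h, Nat.add_sub_cancel_left, ih (by omega) (by omega), Nat.testBit_two_pow_add_gt (by omega)]
      simp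

variable {K : Type*} [Field K] {σ : K →+* K} [T : Tits σ]

/-- a bit as a field element -/
def bt (K : Type*) [Field K] (n i : ℕ) : K := if n.testBit i then 1 else 0

theorem bt_and (x y i : ℕ) : bt K (x *ₓ y) i = bt K x i * bt K y i := by
  rw [bt, show x *ₓ y = x &&& y from rfl, Nat.testBit_and, bt, bt]
  cases x.testBit i <;> cases y.testBit i <;> simp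

theorem bt_xor [CharP K 2] (x y i : ℕ) : bt K (x +ₓ y) i = bt K x i + bt K y i := by
  rw [bt, show x +ₓ y = x ^^^ y from rfl, Nat.testBit_xor, bt, bt]
  cases x.testBit i <;> cases y.testBit i <;> simp [CharTwo.add_self_eq_zero]

theorem bt_zero (i : ℕ) : bt K 0 i = 0 := by simp [bt]
theorem bt_σ (x i : ℕ) : σ (bt K x i) = bt K x i := by unfold bt; split_ifs <;> simp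
theorem bt_sq (x i : ℕ) : bt K x i ^ 2 = bt K x i := by unfold bt; split_ifs <;> simp
theorem bt_cube (x i : ℕ) : bt K x i ^ 3 = bt K x i := by unfold bt; split_ifs <;> simp
theorem bt_congr {x y i j : ℕ} (h : x.testBit i = y.testBit j) : bt K x i = bt K y j := by rw [bt, h, bt]

theorem bt_eq_iff {x y i : ℕ} : bt K x i = bt K y i ↔ (x +ₓ y).testBit i = false := by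
  rw [bt, show x +ₓ y = x ^^^ y from rfl, Nat.testBit_xor, bt]
  cases x.testBit i <;> cases y.testBit i <;> simp

variable (σ) in
/-- member `i` of the family -/
@[simps] def pr (i : ℕ) (g : BV) : U σ := ⟨bt K g.a1 i, bt K g.b2 i, bt K g.c2 i, bt K g.a3 i, bt K g.b4 i, bt K g.c4 i,
  bt K g.a5 i, bt K g.b6 i, bt K g.c6 i, bt K g.a7 i, bt K g.b8 i, bt K g.c8 i⟩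

variable (σ) in
/-- the element with the code `n` -/
def cd (n : ℕ) : U σ := ⟨bt K n 0, bt K n 1, bt K n 2, bt K n 3, bt K n 4, bt K n 5, bt K n 6, bt K n 7, bt K n 8, bt K n 9,
  bt K n 10, bt K n 11⟩

theorem pr_mul (i : ℕ) (g h : BV) : pr σ i (g * h) = pr σ i g * pr σ i h := by
  have := T.char
  show pr σ i (BV.mul g h) = U.mul (pr σ i g) (pr σ i h)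
  simp only [pr, BV.mul, U.mul, bt_and, bt_xor, bt_σ, bt_sq, bt_cube]

theorem pr_inv (i : ℕ) (g : BV) : pr σ i g⁻¹ = (pr σ i g)⁻¹ := by
  have := T.char
  show pr σ i (BV.inv g) = U.inv (pr σ i g)
  simp only [pr, BV.inv, U.inv, bt_and, bt_xor, bt_σ, bt_sq, bt_cube]

theorem pr_w8 (i : ℕ) (g : BV) : pr σ i g.w8 = w8 (pr σ i g) := by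
  have := T.char
  simp only [pr, BV.w8, U.w8, bt_and, bt_xor, bt_σ, bt_zero]

open Classical in
/-- the power with exponent `0` or `1` -/
noncomputable def pw {X : Type*} [One X] (t : K) (g : X) : X := if t = 0 then 1 else g

theorem map_pw {X Y : Type*} [Group X] [Group Y] (f : X →* Y) (t : K) (g : X) : f (pw t g) = pw t (f g) := by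
  unfold pw; split_ifs <;> simp

theorem pr_pw (i t : ℕ) (g : BV) : pr σ i (BV.pw t g) = pw (bt K t i) (pr σ i g) := by
  simp only [pr, BV.pw, bt_and, pw]
  unfold bt
  cases t.testBit i <;> simp <;> rfl

theorem pr_cst {N i : ℕ} (hi : i < 2 ^ N) (n : ℕ) : pr σ i (.cst (ones N) n) = cd σ n := by
  have h (k : ℕ) : bt K (BV.mk1 (ones N) n k) i = bt K n k := by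
    unfold BV.mk1 bt; cases n.testBit k <;> simp [ones_bit, hi]
  simp only [pr, BV.cst, h, cd]

theorem lor_bit (x y i : ℕ) : (x.lor y).testBit i = false ↔ x.testBit i = false ∧ y.testBit i = false := by
  rw [show x.lor y = x ||| y from rfl, Nat.testBit_or, Bool.or_eq_false_iff]

theorem ne_bit {i : ℕ} {g h : BV} : (BV.ne g h).testBit i = false ↔ pr σ i g = pr σ i h := by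
  simp only [BV.ne, BV.neU, lor_bit, ← bt_eq_iff (K := K), pr, U.mk.injEq]
  tauto

/-- the third term of the lower central series of `Q'` -/
def P2 : Subgroup (U σ) where
  carrier := {g | g.a1 = 0 ∧ g.b2 = 0 ∧ g.c2 = 0 ∧ g.b4 = 0 ∧ g.b6 = 0 ∧ g.b8 = 0 ∧ g.c8 = 0}
  mul_mem' {a b} ha hb := by simp only [Set.mem_ofPred_eq] at *; usimp; simp [*]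
  one_mem' := ⟨rfl, rfl, rfl, rfl, rfl, rfl, rfl⟩
  inv_mem' {a} ha := by simp only [Set.mem_ofPred_eq] at *; usimp; simp [*]

theorem mem_P2 {g : U σ} : g ∈ P2 ↔ g.a1 = 0 ∧ g.b2 = 0 ∧ g.c2 = 0 ∧ g.b4 = 0 ∧ g.b6 = 0 ∧ g.b8 = 0 ∧ g.c8 = 0 := Iff.rfl

instance : (P2 : Subgroup (U σ)).Normal := ⟨fun k hk g => by
  have := T.char
  rw [mem_P2] at *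
  usimp; simp only [hk, map_zero]; grind⟩

/-- the quotient map -/
abbrev π : U σ →* U σ ⧸ (P2 : Subgroup (U σ)) := QuotientGroup.mk' P2

theorem π_eq {g h : U σ} : π g = π h ↔
    g.a1 = h.a1 ∧ g.b2 = h.b2 ∧ g.c2 = h.c2 ∧ g.b4 = h.b4 ∧ g.b6 = h.b6 ∧ g.b8 = h.b8 ∧ g.c8 = h.c8 := by
  have := T.char
  rw [QuotientGroup.mk'_eq_mk']
  constructor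
  · rintro ⟨z, hz, rfl⟩
    rw [mem_P2] at hz
    usimp; simp [hz]
  · refine fun e => ⟨g⁻¹ * h, ?_, by simp⟩
    rw [mem_P2]
    usimp; simp only [e]; grind

theorem neU_bit {i : ℕ} {g h : BV} : (BV.neU g h).testBit i = false ↔ π (pr σ i g) = π (pr σ i h) := by
  simp only [BV.neU, lor_bit, ← bt_eq_iff (K := K), pr, π_eq]

end CL.RF.TA
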