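/-
INV library (large Ree groups), `q = 2`: the automorphisms of `Q'` generating `S₃` with `x₁` (bit-sliced search).
-/
import Cfsg.Agent.INV.RF.TwA1

set_option autoImplicit false
set_option linter.unusedSimpArgs false
set_option linter.unusedSectionVars false

namespace CL.RF.TA

open U

/-- images of the generators of `Q'`, or exponents -/
structure Im (X : Type*) where
  b2 : X
  c2 : X
  a3 : X
  b4 : X
  c4 : X
  a5 : X
  b6 : X
  c6 : X
  a7 : X
  b8 : X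
  c8 : X

section

variable {X Y R R' : Type*} [Mul X] [Inv X] [Mul Y] [Inv Y]

def Im.map (f : R → R') (I : Im R) : Im R' :=
  ⟨f I.b2, f I.c2, f I.a3, f I.b4, f I.c4, f I.a5, f I.b6, f I.c6, f I.a7, f I.b8, f I.c8⟩

def cm (a b : X) : X := a * b * (a⁻¹ * b⁻¹)

/-- the images of the root elements under `y2, y4, y8, v4, v6 ↦ a, b, c, p, p'` -/
def imgs (a b c p p' : X) : Im X :=
  let e := b⁻¹ * cm a c
  let f := cm b e
  let g := f * e * p'
  ⟨a, a * a, cm a b, b, p, f, g, p', cm g c, c, c * c⟩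

def ev (pw : R → X → X) (I : Im X) (J : Im R) : X :=
  pw J.b2 I.b2 * pw J.c2 I.c2 * pw J.a3 I.a3 * pw J.b4 I.b4 * pw J.c4 I.c4 * pw J.a5 I.a5 * pw J.b6 I.b6 * pw J.c6 I.c6 *
    pw J.a7 I.a7 * pw J.b8 I.b8 * pw J.c8 I.c8

def ev6 (pw : R → X → X) (I : Im X) (J : Im R) : X :=
  pw J.b2 I.b2 * pw J.c2 I.c2 * pw J.b4 I.b4 * pw J.b6 I.b6 * pw J.b8 I.b8 * pw J.c8 I.c8

theorem map_imgs {f : X → Y} (h1 : ∀ x y, f (x * y) = f x * f y) (h2 : ∀ x, f x⁻¹ = (f x)⁻¹) (a b c p p' : X) :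
    (imgs a b c p p').map f = imgs (f a) (f b) (f c) (f p) (f p') := by
  simp only [imgs, Im.map, cm, h1, h2]

theorem map_ev {f : X → Y} {φ : R → R'} {pw : R → X → X} {pw' : R' → Y → Y} (h1 : ∀ x y, f (x * y) = f x * f y)
    (h2 : ∀ t x, f (pw t x) = pw' (φ t) (f x)) (I : Im X) (J : Im R) : f (ev pw I J) = ev pw' (I.map f) (J.map φ) := by
  simp only [ev, Im.map, h1, h2]

theorem map_ev6 {f : X → Y} {φ : R → R'} {pw : R → X → X} {pw' : R' → Y → Y} (h1 : ∀ x y, f (x * y) = f x * f y)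
    (h2 : ∀ t x, f (pw t x) = pw' (φ t) (f x)) (I : Im X) (J : Im R) : f (ev6 pw I J) = ev6 pw' (I.map f) (J.map φ) := by
  simp only [ev6, Im.map, h1, h2]

end

/-- exponents -/
def BV.co (g : BV) : Im ℕ := ⟨g.b2, g.c2, g.a3, g.b4, g.c4, g.a5, g.b6, g.c6, g.a7, g.b8, g.c8⟩

/-- conjugation by `x1` -/
def BV.c1 (o : ℕ) (g : BV) : BV := .cst o 1 * g * .cst o 1

/-- the lanes in the list -/
def msk (L : List ℕ) : ℕ := L.foldr (fun i m => (Nat.shiftLeft 1 i).lor m) 0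

/-- a family given on some lanes -/
def lanes (L : List (ℕ × ℕ)) : BV := L.foldr (fun p g => .cst (Nat.shiftLeft 1 p.1) p.2 * g) (.cst 0 0)

/-- upper coordinates free -/
def var1 (k : ℕ) : BV := ⟨0, vr k 18, vr (k + 1) 18, 0, vr (k + 2) 18, 0, 0, vr (k + 3) 18, 0, 0, vr (k + 4) 18, vr (k + 5) 18⟩

/-- lower coordinates free -/
def var2 (j k l : ℕ) : BV := ⟨0, BV.mk1 (ones 15) j k, BV.mk1 (ones 15) j (k + 1), vr l 15, BV.mk1 (ones 15) j (k + 2),
  vr (l + 1) 15, vr (l + 2) 15, BV.mk1 (ones 15) j (k + 3), vr (l + 3) 15, vr (l + 4) 15, BV.mk1 (ones 15) j (k + 4),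
  BV.mk1 (ones 15) j (k + 5)⟩

/-- first stage -/
def bad1 (o : ℕ) (a b c : BV) : ℕ :=
  let E (g : BV) : BV := ev6 BV.pw (imgs a b c (.cst o 256) (.cst o 32)) g.co
  (BV.neU (b * b) (.cst o 256)).lor <| (BV.neU (E a) (.cst o 2)).lor <| (BV.neU (E b) (.cst o 16)).lor <|
    (BV.neU (E c) (.cst o 1024)).lor <| (BV.neU (E (a.c1 o)) (a.c1 o)).lor <|
    (BV.neU (E (b.c1 o)) ((E (.cst o 20)).c1 o)).lor (BV.neU (E (c.c1 o)) ((E (.cst o 2026)).c1 o))

/-- second stage -/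
def bad2 (o : ℕ) (a b c : BV) : ℕ :=
  let E (g : BV) : BV := ev BV.pw (imgs a b c (.cst o 256) (.cst o 32)) g.co
  (BV.ne (E a) (.cst o 2)).lor <| (BV.ne (E b) (.cst o 16)).lor <| (BV.ne (E c) (.cst o 1024)).lor <|
    (BV.ne (E (a.c1 o)) (a.c1 o)).lor (BV.ne (E (b.c1 o)) ((E (.cst o 20)).c1 o))

/-- eight automorphisms of `U` -/
def Tl : List (List ℕ) := [
  [1, 2, 4, 8, 16, 32, 64, 128, 256, 512, 1024, 2048], [1, 2, 4, 8, 16, 32, 64, 128, 256, 512, 1056, 2048],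
  [1, 34, 4, 8, 48, 32, 64, 160, 256, 512, 1024, 2048], [1, 34, 4, 8, 48, 32, 64, 160, 256, 512, 1056, 2048],
  [9, 46, 4, 8, 16, 32, 64, 480, 256, 576, 1072, 2080], [9, 46, 4, 8, 16, 32, 64, 480, 256, 576, 1040, 2080],
  [9, 14, 4, 8, 48, 32, 64, 448, 256, 576, 1072, 2080], [9, 14, 4, 8, 48, 32, 64, 448, 256, 576, 1040, 2080]]

/-- the image of root element `k` under automorphism `t` -/
def tc (t k : ℕ) : ℕ := (Tl.getD t []).getD k 0

/-- last stage -/
def bad3 (o : ℕ) (a b c s : BV) (t : ℕ) : ℕ :=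
  let E (g : BV) : BV := s * ev BV.pw (imgs a b c (.cst o 256) (.cst o 32)) (s⁻¹ * g * s).co * s⁻¹
  (BV.ne (.cst o (tc t 0)) (s * .cst o 1 * s⁻¹)).lor <| (BV.ne (E (.cst o (tc t 1))) (.cst o (tc t 10))).lor <|
    (BV.ne (E (.cst o (tc t 4))) (.cst o (tc t 7))).lor (BV.ne (E (.cst o (tc t 10))) (.cst o (tc t 1)))

def chk2 (d : ℕ × List ℕ × List (ℕ × ℕ)) : Bool :=
  let a := var2 d.1 0 0
  let b := var2 d.1 6 5
  let c := var2 d.1 12 10
  d.2.1.all (· < 8) && ((BV.ne (b * b) (.cst (ones 15) 256)).beq (ones 15) ||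
    Nat.beq (d.2.1.foldr (fun t m => m.land (bad3 (ones 15) a b c (lanes d.2.2) t))
      (((BV.ne (b * b) (.cst (ones 15) 256)).lor (bad2 (ones 15) a b c)).xor (ones 15))) 0)

def dat : List (ℕ × List ℕ × List (ℕ × ℕ)) := [
  (102785, [], []),
  (4624, [0, 1, 2, 3], [(4364, 8), (12558, 8), (6212, 8), (14406, 8), (18759, 4), (26949, 4), (16399, 4), (24589, 4), (22603, 12), (30793, 12), (20739, 12), (28929, 12)]),
  (197137, [], []), (135698, [], []), (115219, [], []), (178836, [], []), (67861, [], []), (47766, [], []), (248087, [], []),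
  (162456, [], []), (67865, [], []), (31386, [], []), (248091, [], []),
  (53788, [0, 1, 2, 3], [(17024, 14), (25218, 14), (19400, 14), (27594, 14), (21388, 6), (29582, 6), (23236, 6), (31430, 6), (13189, 10), (4999, 10), (15053, 10), (6863, 10), (8841, 2), (651, 2), (11201, 2), (3011, 2)]),
  (197149, [], []), (184862, [], []), (115231, [], []), (15024, [], []), (198961, [], []), (146098, [], []),
  (117043, [], []),
  (45620, [4, 5, 6, 7], [(11664, 152), (3474, 152), (3288, 152), (11482, 152), (15836, 144), (7646, 144), (7316, 144), (15510, 144), (19615, 148), (27805, 148), (28119, 148), (19925, 148), (23763, 156), (31953, 156), (32155, 156), (23961, 156)]),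
  (246325, [], []), (176694, [], []), (66103, [], []),
  (29240, [4, 5, 6, 7], [(5762, 154), (13952, 154), (14282, 154), (6088, 154), (1742, 146), (9932, 146), (10118, 146), (1924, 146), (26575, 150), (18381, 150), (18055, 150), (26245, 150), (30595, 158), (22401, 158), (22219, 158), (30409, 158)]),
  (246329, [], []), (160314, [], []), (66107, [], []), (64188, [], []), (198973, [], []), (195262, [], []), (117055, [], [])]

theorem st1 : (bad1 (ones 18) (var1 0) (var1 6) (var1 12)).xor (ones 18) = msk (dat.map (·.1)) := by decide +kernel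

theorem st2 : dat.all chk2 = true := by decide +kernel

variable {K : Type*} [Field K] {σ : K →+* K} [T : Tits σ]

/-- exponents -/
def co (g : U σ) : Im K := ⟨g.b2, g.c2, g.a3, g.b4, g.c4, g.a5, g.b6, g.c6, g.a7, g.b8, g.c8⟩

/-- the map `Q' → U` given by `y2, y4, y8 ↦ a, b, c` -/
noncomputable def EE (a b c g : U σ) : U σ := ev pw (imgs a b c (cd σ 256) (cd σ 32)) (co g)

/-- conjugation by `x1` -/
def c1 (g : U σ) : U σ := cd σ 1 * g * cd σ 1

theorem cd_1 : cd σ 1 = x1 1 := rfl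
theorem cd_2 : cd σ 2 = y2 1 0 := rfl
theorem cd_16 : cd σ 16 = y4 1 0 := rfl
theorem cd_32 : cd σ 32 = y4 0 1 := rfl
theorem cd_256 : cd σ 256 = y6 0 1 := rfl
theorem cd_1024 : cd σ 1024 = y8 1 0 := rfl

theorem pr_c1 {N i : ℕ} (hi : i < 2 ^ N) (g : BV) : pr σ i (g.c1 (ones N)) = c1 (pr σ i g) := by
  rw [BV.c1, pr_mul, pr_mul, pr_cst hi, c1]

theorem pr_ev {N i : ℕ} (hi : i < 2 ^ N) (a b c g : BV) :
    pr σ i (ev BV.pw (imgs a b c (.cst (ones N) 256) (.cst (ones N) 32)) g.co) =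
      EE (pr σ i a) (pr σ i b) (pr σ i c) (pr σ i g) := by
  rw [map_ev (φ := (bt K · i)) (pr_mul i) (pr_pw i), map_imgs (pr_mul i) (pr_inv i), pr_cst hi, pr_cst hi]
  rfl

theorem msk_bit {L : List ℕ} {i : ℕ} (h : (msk L).testBit i = true) : i ∈ L := by
  induction L with
  | nil => simp [msk] at h
  | cons j L ih =>
    rw [show msk (j :: L) = 1 <<< j ||| msk L from rfl, Nat.testBit_or, Nat.one_shiftLeft, Nat.testBit_two_pow] at h
    grind

theorem exists_lane (hq : Nat.card K = 2) (L : List K) : ∃ i < 2 ^ L.length, ∀ k (h : k < L.length), bt K i k = L[k] := by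
  classical
  refine ⟨Nat.ofBits fun k : Fin L.length => decide (L[k] ≠ 0), Nat.ofBits_lt_two_pow _, fun k h => ?_⟩
  rw [bt, Nat.testBit_ofBits_lt _ _ h]
  obtain ⟨y, -, hy⟩ := (Nat.card_eq_two_iff' (0 : K)).1 hq
  by_cases e : L[k] = 0
  · simp [e]
  · simpa [e] using (hy 1 one_ne_zero).trans (hy _ e).symm

theorem bt_vr {k N i : ℕ} (hk : k < N) (hi : i < 2 ^ N) : bt K (vr k N) i = bt K i k := bt_congr (vr_bit hk hi)

theorem bt_mk1 {N i : ℕ} (hi : i < 2 ^ N) (n k : ℕ) : bt K (BV.mk1 (ones N) n k) i = bt K n k := by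
  unfold BV.mk1 bt; cases n.testBit k <;> simp [ones_bit, hi]

theorem cm_D {x y : U σ} (hx : x.a1 = 0) (hy : y.a1 = 0) : (cm x y).a1 = 0 ∧ (cm x y).b2 = 0 ∧ (cm x y).b8 = 0 := by
  have := T.char
  unfold cm; usimp; grind

theorem π_cm {x y : U σ} (hx : x.a1 = 0) (hy : y.a1 = 0) (h2 : y.b2 = 0) (h8 : y.b8 = 0) :
    π (cm x y) = 1 ∧ π (cm y x) = 1 := by
  have := T.char
  rw [← map_one π, π_eq, π_eq]
  unfold cm; usimp; simp only [hx, hy, h2, h8, map_zero]; constructor <;> grind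

theorem pw_one {X : Type*} [One X] (t : K) : pw t (1 : X) = 1 := ite_self _

theorem π_EE {a b c : U σ} (ha : a.a1 = 0) (hb : b.a1 = 0) (hc : c.a1 = 0) (h : b * b = cd σ 256) (g : U σ) :
    π (EE a b c g) = ev6 pw (imgs (π a) (π b) (π c) (π (cd σ 256)) (π (cd σ 32))) (co g) := by
  have := T.char
  have h2 : b.b2 = 0 := Tits.norm_eq_zero σ (by
    have := congrArg U.c2 h; rw [cd_256] at this; usimp at this; simp only [hb, map_zero] at this; grind)
  have h8 : b.b8 = 0 := Tits.norm_eq_zero σ (by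
    have := congrArg U.c8 h; rw [cd_256] at this; usimp at this; grind)
  have e1 : π (cd σ 256) = 1 := by rw [← map_one π, π_eq, cd_256]; usimp
  have e2 : π (cd σ 32) = 1 := by rw [← map_one π, π_eq, cd_32]; usimp
  obtain ⟨k1, k2, k3⟩ := cm_D ha hc
  have k4 : (b⁻¹ * cm a c).a1 = 0 := by usimp; simp [*]
  obtain ⟨k5, k6, k7⟩ := cm_D hb k4
  have e3 := (π_cm hc (y := cm b (b⁻¹ * cm a c) * (b⁻¹ * cm a c) * cd σ 32) (by rw [cd_32]; usimp; simp [*])
    (by rw [cd_32]; usimp; simp [*]) (by rw [cd_32]; usimp; simp [*])).2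
  rw [EE, map_ev (φ := id) (map_mul π) (map_pw π), ← map_imgs (map_mul (π (σ := σ))) (map_inv π)]
  simp only [ev, ev6, imgs, Im.map, id, e1, e2, e3, (π_cm ha hb h2 h8).1, (π_cm k4 hb h2 h8).2, pw_one, mul_one]

theorem ev6_congr {X : Type*} [Group X] (I : Im X) {g h : U σ} (e : π g = π h) : ev6 pw I (co g) = ev6 pw I (co h) := by
  simp only [ev6, co, π_eq.1 e]

theorem π_c1 {g h : U σ} (e : π g = π h) : π (c1 g) = π (c1 h) := by simp only [c1, map_mul, e]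

theorem fold_bit {i : ℕ} (L : List ℕ) (f : ℕ → ℕ) (m : ℕ) (hm : m.testBit i = true)
    (h : (L.foldr (fun t m => m.land (f t)) m).testBit i = false) : ∃ t ∈ L, (f t).testBit i = false := by
  induction L with
  | nil => simp [hm] at h
  | cons t L ih =>
    rw [List.foldr_cons, show ∀ x y : ℕ, x.land y = x &&& y from fun _ _ => rfl, Nat.testBit_and,
      Bool.and_eq_false_iff] at h
    grind

theorem classify (hq : Nat.card K = 2) {a b c : U σ} (ha : a.a1 = 0) (hb : b.a1 = 0) (hc : c.a1 = 0)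
    (h1 : b * b = cd σ 256) (h2 : EE a b c a = cd σ 2) (h3 : EE a b c b = cd σ 16) (h4 : EE a b c c = cd σ 1024)
    (h5 : EE a b c (c1 a) = c1 a) (h6 : EE a b c (c1 b) = c1 (EE a b c (cd σ 20)))
    (h7 : EE a b c (c1 c) = c1 (EE a b c (cd σ 2026))) :
    ∃ t < 8, ∃ s : U σ, cd σ (tc t 0) = s * cd σ 1 * s⁻¹ ∧ s * EE a b c (s⁻¹ * cd σ (tc t 1) * s) * s⁻¹ = cd σ (tc t 10) ∧
      s * EE a b c (s⁻¹ * cd σ (tc t 4) * s) * s⁻¹ = cd σ (tc t 7) ∧
      s * EE a b c (s⁻¹ * cd σ (tc t 10) * s) * s⁻¹ = cd σ (tc t 1) := by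
  obtain ⟨j, hj, ej⟩ := exists_lane hq [a.b2, a.c2, a.b4, a.b6, a.b8, a.c8, b.b2, b.c2, b.b4, b.b6, b.b8, b.c8,
    c.b2, c.c2, c.b4, c.b6, c.b8, c.c8]
  obtain ⟨i, hi, ei⟩ := exists_lane hq [a.a3, a.c4, a.a5, a.c6, a.a7, b.a3, b.c4, b.a5, b.c6, b.a7,
    c.a3, c.c4, c.a5, c.c6, c.a7]
  change j < 2 ^ 18 at hj
  change i < 2 ^ 15 at hi
  simp only [List.length_cons, List.length_nil, Nat.reduceAdd] at ej ei
  have ea : π (pr σ j (var1 0)) = π a := by rw [π_eq]; simp [var1, bt_vr _ hj, ej, bt_zero, ha]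
  have eb : π (pr σ j (var1 6)) = π b := by rw [π_eq]; simp [var1, bt_vr _ hj, ej, bt_zero, hb]
  have ec : π (pr σ j (var1 12)) = π c := by rw [π_eq]; simp [var1, bt_vr _ hj, ej, bt_zero, hc]
  have hE (g : BV) (g' : U σ) (e : π (pr σ j g) = π g') : π (pr σ j (ev6 BV.pw (imgs (var1 0) (var1 6) (var1 12)
      (.cst (ones 18) 256) (.cst (ones 18) 32)) g.co)) = π (EE a b c g') := by
    rw [π_EE ha hb hc h1, ← ev6_congr _ e, map_ev6 (f := fun x => π (pr σ j x)) (φ := (bt K · j)) (pw' := pw)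
      (fun x y => by rw [pr_mul, map_mul]) (fun t x => by rw [pr_pw, map_pw]),
      map_imgs (fun x y => by rw [pr_mul, map_mul]) (fun x => by rw [pr_inv, map_inv]), ea, eb, ec, pr_cst hj, pr_cst hj]
    rfl
  have hc1 (g : BV) (g' : U σ) (e : π (pr σ j g) = π g') : π (pr σ j (g.c1 (ones 18))) = π (c1 g') := by
    rw [pr_c1 hj, π_c1 e]
  have s1 : (bad1 (ones 18) (var1 0) (var1 6) (var1 12)).testBit j = false := by
    simp only [bad1, lor_bit, neU_bit (σ := σ), pr_cst hj]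
    refine ⟨by rw [pr_mul, map_mul, eb, ← map_mul, h1], by rw [hE _ _ ea, h2], by rw [hE _ _ eb, h3], by rw [hE _ _ ec, h4],
      by rw [hE _ _ (hc1 _ _ ea), h5, hc1 _ _ ea], ?_, ?_⟩
    · rw [hE _ _ (hc1 _ _ eb), h6, hc1 _ _ (hE _ _ (by rw [pr_cst hj]))]
    · rw [hE _ _ (hc1 _ _ ec), h7, hc1 _ _ (hE _ _ (by rw [pr_cst hj]))]
  obtain ⟨d, hd, rfl⟩ := List.mem_map.1 (msk_bit (L := dat.map (·.1)) (i := j) (by
    rw [← st1, show ∀ x y : ℕ, x.xor y = x ^^^ y from fun _ _ => rfl, Nat.testBit_xor, s1, ones_bit, decide_eq_true hj]; rfl))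
  have s2 := List.all_eq_true.1 st2 d hd
  have fa : pr σ i (var2 d.1 0 0) = a := by ext <;> simp [var2, bt_vr _ hi, bt_mk1 hi, ej, ei, bt_zero, ha]
  have fb : pr σ i (var2 d.1 6 5) = b := by ext <;> simp [var2, bt_vr _ hi, bt_mk1 hi, ej, ei, bt_zero, hb]
  have fc : pr σ i (var2 d.1 12 10) = c := by ext <;> simp [var2, bt_vr _ hi, bt_mk1 hi, ej, ei, bt_zero, hc]
  have s3 : (BV.ne (var2 d.1 6 5 * var2 d.1 6 5) (.cst (ones 15) 256)).testBit i = false := by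
    rw [ne_bit (σ := σ), pr_mul, fb, pr_cst hi, h1]
  have s4 : (bad2 (ones 15) (var2 d.1 0 0) (var2 d.1 6 5) (var2 d.1 12 10)).testBit i = false := by
    simp only [bad2, lor_bit, ne_bit (σ := σ), pr_cst hi, pr_ev hi, pr_c1 hi, fa, fb, fc, h2, h3, h4, h5, h6, and_self]
  simp only [chk2, Bool.and_eq_true, Bool.or_eq_true, Nat.beq_eq, List.all_eq_true, decide_eq_true_eq] at s2
  obtain ⟨s5, s6 | s6⟩ := s2
  · rw [s6, ones_bit, decide_eq_true hi] at s3; cases s3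
  have s7 := fun h => fold_bit (i := i) _ _ _ h ((congrArg (·.testBit i) s6).trans (Nat.zero_testBit i))
  obtain ⟨t, ht, e⟩ := s7 (by
    rw [show ∀ x y : ℕ, x.xor y = x ^^^ y from fun _ _ => rfl, Nat.testBit_xor, (lor_bit ..).2 ⟨s3, s4⟩, ones_bit,
      decide_eq_true hi]; rfl)
  simp only [bad3, lor_bit, ne_bit (σ := σ), pr_cst hi, pr_ev hi, pr_mul, pr_inv, fa, fb, fc] at e
  exact ⟨t, s5 t ht, _, e⟩

end CL.RF.TA
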