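/-
INV library (large Ree groups), `q = 2`: eight automorphisms of the group `C`.
-/
import Cfsg.Agent.INV.RF.TwA2

set_option autoImplicit false
set_option linter.unusedSimpArgs false
set_option linter.unusedSectionVars false

namespace CL.RF.TA

open U

/-- the images of the root elements -/
def imt {X : Type*} (f : ℕ → X) (t : ℕ) : Im X := ⟨f (tc t 1), f (tc t 2), f (tc t 3), f (tc t 4), f (tc t 5), f (tc t 6),
  f (tc t 7), f (tc t 8), f (tc t 9), f (tc t 10), f (tc t 11)⟩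

def alB (o t : ℕ) (g : BV) : BV := BV.pw g.a1 (.cst o (tc t 0)) * ev BV.pw (imt (.cst o) t) g.co

/-- all elements -/
def all : BV := ⟨vr 0 12, vr 1 12, vr 2 12, vr 3 12, vr 4 12, vr 5 12, vr 6 12, vr 7 12, vr 8 12, vr 9 12, vr 10 12, vr 11 12⟩

/-- all elements of `U₈` -/
def y8B (k : ℕ) : BV := ⟨0, 0, 0, 0, 0, 0, 0, 0, 0, 0, vr k 12, vr (k + 1) 12⟩

/-- the correction of `n₈` -/
def zc (t : ℕ) : ℕ := if t < 4 then 0 else 32

def psB (o t : ℕ) (y : BV) : BV := alB o t y * y⁻¹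

def tst (p p' p'' g : BV) : ℕ := BV.ne (p * g.w8 * p⁻¹).w8 (p' * (p'' * g * p''⁻¹).w8 * p'⁻¹)

def chk3 (t : ℕ) : Bool :=
  let o := ones 12
  let q : BV := { all with b8 := 0, c8 := 0 }
  let p := psB o t (y8B 0)
  (List.range 12).all (fun k => (BV.ne (alB o t (all * .cst o (2 ^ k))) (alB o t all * .cst o (tc t k))).beq 0) &&
  ((BV.ne (alB o t all) (.cst o 0)).beq (BV.ne all (.cst o 0))) && (alB o t all).a1.beq all.a1 &&
  (alB o t q).b8.beq 0 && (alB o t q).c8.beq 0 && (BV.ne (alB o t q.w8) (alB o t q).w8).beq 0 &&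
  (BV.ne p ⟨0, 0, 0, 0, p.b4, p.c4, 0, 0, 0, 0, 0, 0⟩).beq 0 &&
  Nat.beq (((BV.ne p (psB o t (y8B 2) * psB o t (y8B 4) * .cst o (zc t))).land (BV.ne (y8B 0) (.cst o 0))).land
    (((tst (y8B 0) (y8B 2) (y8B 4) (.cst o 128)).lor (tst (y8B 0) (y8B 2) (y8B 4) (.cst o 2))).xor o)) 0 &&
  (tc t 5).beq 32

theorem st3 : (List.range 8).all chk3 = true := by decide +kernel

theorem st4 : BV.ne (alB (ones 12) 0 all) all = 0 ∧ BV.ne (ev BV.pw (imgs (.cst (ones 12) 2) (.cst (ones 12) 16)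
    (.cst (ones 12) 1024) (.cst (ones 12) 32) (.cst (ones 12) 256)) all.co) { all with a1 := 0 } = 0 ∧
    BV.ne ((BV.cst (ones 0) 16).c1 (ones 0)) (.cst (ones 0) 20) = 0 ∧
    BV.ne ((BV.cst (ones 0) 1024).c1 (ones 0)) (.cst (ones 0) 2026) = 0 := by decide +kernel

variable {K : Type*} [Field K] {σ : K →+* K} [T : Tits σ]

/-- automorphism number `t` -/
noncomputable def al (t : ℕ) (g : U σ) : U σ := pw g.a1 (cd σ (tc t 0)) * ev pw (imt (cd σ) t) (co g)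

theorem pr_al {N i : ℕ} (hi : i < 2 ^ N) (t : ℕ) (g : BV) : pr σ i (alB (ones N) t g) = al t (pr σ i g) := by
  rw [alB, pr_mul, pr_pw, map_ev (φ := (bt K · i)) (pr_mul i) (pr_pw i)]
  simp only [imt, Im.map, pr_cst hi]
  rfl

theorem exists_all (hq : Nat.card K = 2) (g : U σ) : ∃ i < 2 ^ 12, pr σ i all = g := by
  obtain ⟨i, hi, e⟩ := exists_lane hq [g.a1, g.b2, g.c2, g.a3, g.b4, g.c4, g.a5, g.b6, g.c6, g.a7, g.b8, g.c8]
  change i < 2 ^ 12 at hi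
  simp only [List.length_cons, List.length_nil, Nat.reduceAdd] at e
  exact ⟨i, hi, by ext <;> simp [all, bt_vr _ hi, e]⟩

theorem eq_of_ne {g h : BV} (e : BV.ne g h = 0) (i : ℕ) : pr σ i g = pr σ i h := ne_bit.1 (by rw [e, Nat.zero_testBit])

theorem c1_16 : c1 (cd σ 16) = cd σ 20 := by
  simpa only [pr_c1 (N := 0) one_pos, pr_cst (N := 0) one_pos] using eq_of_ne (σ := σ) st4.2.2.1 0

theorem c1_1024 : c1 (cd σ 1024) = cd σ 2026 := by
  simpa only [pr_c1 (N := 0) one_pos, pr_cst (N := 0) one_pos] using eq_of_ne (σ := σ) st4.2.2.2 0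

theorem ev_self (hq : Nat.card K = 2) {g : U σ} (hg : g.a1 = 0) :
    ev pw (imgs (cd σ 2) (cd σ 16) (cd σ 1024) (cd σ 32) (cd σ 256)) (co g) = g := by
  obtain ⟨i, hi, rfl⟩ := exists_all hq g
  have e := eq_of_ne (σ := σ) st4.2.1 i
  rw [map_ev (φ := (bt K · i)) (pr_mul i) (pr_pw i), map_imgs (pr_mul i) (pr_inv i)] at e
  simp only [pr_cst hi] at e
  have e' : pr σ i { all with a1 := 0 } = pr σ i all := by
    simp only [pr, bt_zero] at hg ⊢
    rw [hg]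
  rw [e'] at e
  generalize all = x at e
  exact e

/-- the properties of the automorphisms -/
structure Good (σ : K →+* K) [Tits σ] (t : ℕ) (α : U σ →* U σ) : Prop where
  gen : ∀ k < 12, α (cd σ (2 ^ k)) = cd σ (tc t k)
  inj : Function.Injective α
  a1 : ∀ g, (α g).a1 = g.a1
  q : ∀ g, g.b8 = 0 → g.c8 = 0 → ((α g).b8 = 0 ∧ (α g).c8 = 0) ∧ α (w8 g) = w8 (α g)
  ps : ∀ b c, ∃ b' c', α (y8 b c) * (y8 b c)⁻¹ = y4 b' c'
  r8 : ∀ b c b' c' b'' c'', (b, c) ≠ 0 → (∀ g : U σ, g.b8 = 0 → g.c8 = 0 → w8 (y8 b c * w8 g * (y8 b c)⁻¹) =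
    y8 b' c' * w8 (y8 b'' c'' * g * (y8 b'' c'')⁻¹) * (y8 b' c')⁻¹) →
    α (y8 b c) * (y8 b c)⁻¹ = α (y8 b' c') * (y8 b' c')⁻¹ * (α (y8 b'' c'') * (y8 b'' c'')⁻¹) * cd σ (zc t)
  z : α (y4 0 1) = y4 0 1

theorem exists_good (hq : Nat.card K = 2) {t : ℕ} (ht : t < 8) : ∃ α, Good σ t α := by
  have h := List.all_eq_true.1 st3 t (List.mem_range.2 ht)
  simp only [chk3, Bool.and_eq_true, Nat.beq_eq, List.all_eq_true, List.mem_range] at h
  obtain ⟨⟨⟨⟨⟨⟨⟨⟨h1, h2⟩, h3⟩, h4⟩, h5⟩, h6⟩, h7⟩, h8⟩, h9⟩ := h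
  have k1 (k : ℕ) (hk : k < 12) (g : U σ) : al t (g * cd σ (2 ^ k)) = al t g * cd σ (tc t k) := by
    obtain ⟨i, hi, rfl⟩ := exists_all hq g
    simpa only [pr_al hi, pr_mul, pr_cst hi] using eq_of_ne (σ := σ) (h1 k hk) i
  have k2 (k : ℕ) (hk : k < 12) (g : U σ) (s : K) : al t (g * pw s (cd σ (2 ^ k))) = al t g * pw s (cd σ (tc t k)) := by
    unfold pw; split_ifs
    exacts [by rw [mul_one, mul_one], k1 k hk g]
  have k3 (g : U σ) : al 0 g = g := by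
    obtain ⟨i, hi, rfl⟩ := exists_all hq g
    simpa only [pr_al hi] using eq_of_ne (σ := σ) st4.1 i
  have k4 (g h : U σ) : al t (g * h) = al t g * al t h := by
    have e : g * al 0 h = g * pw h.a1 (cd σ (2 ^ 0)) * pw h.b2 (cd σ (2 ^ 1)) * pw h.c2 (cd σ (2 ^ 2)) *
        pw h.a3 (cd σ (2 ^ 3)) * pw h.b4 (cd σ (2 ^ 4)) * pw h.c4 (cd σ (2 ^ 5)) * pw h.a5 (cd σ (2 ^ 6)) *
        pw h.b6 (cd σ (2 ^ 7)) * pw h.c6 (cd σ (2 ^ 8)) * pw h.a7 (cd σ (2 ^ 9)) * pw h.b8 (cd σ (2 ^ 10)) *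
        pw h.c8 (cd σ (2 ^ 11)) := by
      simp only [al, ev, ← mul_assoc]; rfl
    rw [k3] at e
    rw [e]
    simp (disch := omega) only [k2]
    simp only [al, ev, ← mul_assoc]; rfl
  let α : U σ →* U σ := MonoidHom.mk' (al t) k4
  have hα (g : U σ) : α g = al t g := rfl
  have gen (k : ℕ) (hk : k < 12) : α (cd σ (2 ^ k)) = cd σ (tc t k) := by
    have := k1 k hk 1
    rwa [one_mul, ← hα, ← hα, map_one, one_mul] at this
  have hy (i k : ℕ) : pr σ i (y8B k) = y8 (bt K (vr k 12) i) (bt K (vr (k + 1) 12) i) := by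
    simp only [pr, y8B, bt_zero, y8]
  refine ⟨α, gen, (injective_iff_map_eq_one α).2 fun g hg => ?_, fun g => ?_, fun g g1 g2 => ?_, fun b c => ?_,
    fun b c b' c' b'' c'' hp H => ?_, (gen 5 (by omega)).trans (h9 ▸ rfl)⟩
  · obtain ⟨i, hi, rfl⟩ := exists_all hq g
    have e := (ne_bit (σ := σ) (i := i) (g := alB (ones 12) t all) (h := .cst (ones 12) 0)).2
      (by rw [pr_al hi, pr_cst hi]; exact hg)
    rwa [h2, ne_bit (σ := σ), pr_cst hi] at e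
  · obtain ⟨i, hi, rfl⟩ := exists_all hq g
    rw [hα, ← pr_al hi, pr_a1, h3, pr_a1]
  · obtain ⟨i, hi, rfl⟩ := exists_all hq g
    have e : pr σ i { all with b8 := 0, c8 := 0 } = pr σ i all := by
      simp only [pr, bt_zero] at g1 g2 ⊢
      rw [g1, g2]
    rw [← e, hα, hα, ← pr_w8, ← pr_al hi, ← pr_al hi, ← pr_w8, pr_b8, pr_c8, h4, h5]
    exact ⟨⟨bt_zero i, bt_zero i⟩, eq_of_ne h6 i⟩
  · obtain ⟨i, hi, e⟩ := exists_lane hq [b, c, 0, 0, 0, 0, 0, 0, 0, 0, 0, 0]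
    change i < 2 ^ 12 at hi
    have e0 : pr σ i (y8B 0) = y8 b c := by rw [hy, bt_vr _ hi, bt_vr _ hi, e _ (by simp), e _ (by simp)] <;> simp
    have := eq_of_ne (σ := σ) h7 i
    rw [psB, pr_mul, pr_inv, pr_al hi, e0] at this
    exact ⟨_, _, this.trans (by simp only [pr, bt_zero]; rfl)⟩
  · obtain ⟨i, hi, e⟩ := exists_lane hq [b, c, b', c', b'', c'', 0, 0, 0, 0, 0, 0]
    change i < 2 ^ 12 at hi
    have e0 : pr σ i (y8B 0) = y8 b c := by rw [hy, bt_vr _ hi, bt_vr _ hi, e _ (by simp), e _ (by simp)] <;> simp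
    have e2 : pr σ i (y8B 2) = y8 b' c' := by rw [hy, bt_vr _ hi, bt_vr _ hi, e _ (by simp), e _ (by simp)] <;> simp
    have e4 : pr σ i (y8B 4) = y8 b'' c'' := by rw [hy, bt_vr _ hi, bt_vr _ hi, e _ (by simp), e _ (by simp)] <;> simp
    have e5 (n : ℕ) (h : (cd σ n).b8 = 0) (h' : (cd σ n).c8 = 0) :
        (tst (y8B 0) (y8B 2) (y8B 4) (.cst (ones 12) n)).testBit i = false := by
      simp only [tst, ne_bit (σ := σ), pr_mul, pr_inv, pr_w8, pr_cst hi, e0, e2, e4, H _ h h']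
    have e6 := (congrArg (·.testBit i) h8).trans (Nat.zero_testBit i)
    simp only [show ∀ x y : ℕ, x.land y = x &&& y from fun _ _ => rfl, Nat.testBit_and, Bool.and_eq_false_iff,
      show ∀ x y : ℕ, x.xor y = x ^^^ y from fun _ _ => rfl, Nat.testBit_xor, (lor_bit ..).2 ⟨e5 128 rfl rfl, e5 2 rfl rfl⟩,
      ones_bit, decide_eq_true hi, ne_bit (σ := σ), psB, pr_mul, pr_inv, pr_al hi, pr_cst hi, e0, e2, e4] at e6
    rcases e6 with (e6 | e6) | e6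
    · exact e6
    · exact (hp (Prod.ext (congrArg U.b8 e6) (congrArg U.c8 e6))).elim
    · cases e6

end CL.RF.TA
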