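/-
INV library (large Ree groups): the braid relation (`q > 2`).
-/
import Cfsg.Agent.INV.RF.BrA

set_option autoImplicit false
set_option linter.unusedSimpArgs false
set_option linter.unusedSectionVars false

namespace CL.RF

open U

variable {K : Type*} [Field K] {σ : K →+* K} [T : Tits σ] {r : R8 K} {G : Type*} [Group G]

namespace Br

variable [Finite K] [Finite G] {P : P81 σ r G}

theorem n4_not_mem : n4 P ∉ Subgroup.normalizer (P.Z : Set G) := by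
  intro hn
  have h1 : n4 P * P.u (y4 0 1) * (n4 P)⁻¹ ∈ P.Z := (Subgroup.mem_normalizer_iff.1 hn _).1 (PC.mem_Z.2 ⟨1, rfl⟩)
  obtain ⟨c, e⟩ := PC.mem_Z.1 h1
  have h2 : P.n8 * P.u (y8 0 1) * P.n8 = P.u (y8 0 c) := by
    rw [← g0_y4 P 0 c, ← e, n4_inv, ← g0_y4]; simp only [n4, mul_assoc, g0g0', g0g0, mul_one]
  exact one_ne_zero (PC.eq_zero_of_n8 (P := P.toPC) (h2 ▸ P.S_le_B1 (P.u_mem_S _))).2

theorem n8_mem : P.n8 ∈ Subgroup.normalizer (P.Z : Set G) := by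
  have key : ∀ y ∈ P.Z, P.n8 * y * P.n8 = y := fun y hy => by
    obtain ⟨c, rfl⟩ := PC.mem_Z.1 hy
    exact n8_y4 P 0 c
  refine Subgroup.mem_normalizer_iff.2 fun y => ⟨fun hy => by rwa [P.n8_inv, key y hy], fun hy => ?_⟩
  have := key _ hy
  rw [P.n8_inv] at this hy
  simp only [mul_assoc, n8n8', P.n8n8, mul_one] at this hy
  rwa [this]

/-- 2-elements of `N(Z) ∩ C(h₁ n)` -/
theorem two_elt (h : P.Hyp) {n : Kˣ} (hn : n ≠ 1) {x : G} (hx : x ∈ Subgroup.normalizer (P.Z : Set G))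
    (hc : x * P.h1 n = P.h1 n * x) {k : ℕ} (hk : x ^ 2 ^ k = 1) : ∃ b c, x = P.u (y4 b c) := by
  obtain ⟨b, c, m, e⟩ := PC.exists_of_comm_h1 (h.mem_C_of_two (h.normalizer_Z_le hx) hk) hn hc
  have h1 : x ∈ P.S := PC.mem_S_of_two (PC.mem_B1.2 ⟨_, _, e⟩) hk
  have h2 : P.h1 m ∈ P.S := by
    have := mul_mem (inv_mem (P.u_mem_S (y4 b c))) h1
    rwa [e, inv_mul_cancel_left] at this
  exact ⟨b, c, by rw [e, PC.eq_one_of_h1_mem h2, map_one, mul_one]⟩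

theorem y4_sq (b c : K) : (y4 b c * y4 b c : U σ) = y4 0 (b * σ b) := by
  have := T.char
  usimp; grind

theorem inv_elt (h : P.Hyp) {n : Kˣ} (hn : n ≠ 1) {x : G} (hx : x ∈ Subgroup.normalizer (P.Z : Set G))
    (hc : x * P.h1 n = P.h1 n * x) (hk : x * x = 1) : x ∈ P.Z := by
  obtain ⟨b, c, rfl⟩ := two_elt h hn hx hc (k := 1) (by rw [pow_one, pow_two, hk])
  rw [← map_mul, y4_sq, ← map_one P.u] at hk
  obtain rfl : b = 0 := Tits.norm_eq_zero σ (congrArg U.c4 (P.inj hk))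
  exact PC.mem_Z.2 ⟨c, rfl⟩

theorem y4_comm (n : Kˣ) (b c : K) : P.u (y4 b c) * P.h1 n = P.h1 n * P.u (y4 b c) := by
  have := h_conj_y4 P.toP8 (n, 1) b c
  rw [h_fst] at this
  simp only [Units.val_one, map_one, div_one, one_mul] at this
  rw [← mul_inv_eq_iff_eq_mul.1 this]

theorem y4_mem (h : P.Hyp) (b c : K) : P.u (y4 b c) ∈ Subgroup.normalizer (P.Z : Set G) :=
  h.normalizer_C_le_Z (Subgroup.le_normalizer (P.u_mem_C _))

theorem z_sq (c : K) : P.u (y4 0 c) * P.u (y4 0 c) = 1 := by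
  rw [← map_mul, y4_sq, zero_mul]; exact map_one P.u

theorem z_ne {c c' : K} (hc : c ≠ c') : P.u (y4 0 c) ≠ P.u (y4 0 c') := fun e => hc (congrArg U.c4 (P.inj e))

theorem z_ne_one {c : K} (hc : c ≠ 0) : P.u (y4 0 c) ≠ 1 := fun e => z_ne hc (e.trans (map_one P.u).symm)

/-- Bender: `U₄` is transitive on the conjugates `≠ Z` of `Z` under `C(h₁ n)` -/
theorem trans (h : P.Hyp) {n : Kˣ} (hn : n ≠ 1) {g₁ g₂ : G} (c₁ : g₁ * P.h1 n = P.h1 n * g₁)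
    (c₂ : g₂ * P.h1 n = P.h1 n * g₂) (h₁ : g₁ ∉ Subgroup.normalizer (P.Z : Set G))
    (h₂ : g₂ ∉ Subgroup.normalizer (P.Z : Set G)) :
    ∃ b c, g₂⁻¹ * (P.u (y4 b c) * g₁) ∈ Subgroup.normalizer (P.Z : Set G) := by
  set Y := Subgroup.centralizer ({P.h1 n} : Set G) with hY
  have mem : ∀ {x : G}, x ∈ Y ↔ x * P.h1 n = P.h1 n * x := Subgroup.mem_centralizer_singleton_iff
  set M := (Subgroup.normalizer (P.Z : Set G)).subgroupOf Y with hM
  let z : K → Y := fun c => ⟨P.u (y4 0 c), mem.2 (y4_comm n 0 c)⟩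
  have hse : Cfsg.IsStronglyEmbedded M := by
    refine ⟨fun e => h₁ (show (⟨g₁, mem.2 c₁⟩ : Y) ∈ M from e ▸ Subgroup.mem_top _), ?_, fun g hg => ?_⟩
    · have h2 : orderOf (⟨z 1, y4_mem h 0 1⟩ : M) = 2 :=
        orderOf_eq_prime (Subtype.ext (Subtype.ext (by simpa [pow_two] using z_sq 1))) fun e =>
          z_ne_one one_ne_zero (congrArg (fun x : M => ((x : Y) : G)) e)
      exact even_iff_two_dvd.2 (h2 ▸ orderOf_dvd_natCard _)
    · by_contra ho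
      obtain ⟨⟨x, hx, y, hy, e⟩, h2⟩ := exists_prime_orderOf_dvd_card' 2 (even_iff_two_dvd.1 (Nat.not_odd_iff_even.1 ho))
      have e' : (g : G) * y * (g : G)⁻¹ = x := congrArg Subtype.val e
      have hx2 : (x : G) * x = 1 := by
        have := pow_orderOf_eq_one (⟨x, hx, y, hy, e⟩ : ↥(M ⊓ M.map (MulAut.conj g).toMonoidHom))
        rw [h2, pow_two] at this
        exact congrArg (fun w : ↥(M ⊓ M.map (MulAut.conj g).toMonoidHom) => ((w : Y) : G)) this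
      have hx1 : (x : G) ≠ 1 := fun e1 => by
        have : (⟨x, hx, y, hy, e⟩ : ↥(M ⊓ M.map (MulAut.conj g).toMonoidHom)) = 1 := Subtype.ext (Subtype.ext e1)
        rw [this, orderOf_one] at h2
        exact absurd h2 (by decide)
      have hy2 : (y : G) * y = 1 := by
        rw [← e', conj_mul] at hx2
        simpa using hx2
      have hy1 : (y : G) ≠ 1 := fun e1 => hx1 (by rw [← e', e1]; simp)
      exact hg (ti P.toP8 h (inv_elt h hn hy (mem.1 y.2) hy2) hy1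
        (e' ▸ inv_elt h hn hx (mem.1 x.2) hx2))
  have hr : CL.PS.Rank2 Y := ⟨z 1, z n, fun e => z_ne_one one_ne_zero (congrArg Subtype.val e),
    fun e => z_ne_one n.ne_zero (congrArg Subtype.val e),
    fun e => z_ne (ne_of_ne_one (σ := σ) hn).1.symm (congrArg Subtype.val e), Subtype.ext (z_sq 1),
    Subtype.ext (z_sq (n : K)),
    Subtype.ext (PC.comm_Z (P.u_mem_C _) _)⟩
  obtain ⟨x, hx, ⟨k, hk⟩, e⟩ := bender_two hse hr (g₁ := ⟨g₁, mem.2 c₁⟩) (g₂ := ⟨g₂, mem.2 c₂⟩) h₁ h₂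
  obtain ⟨b, c, e'⟩ := two_elt h hn hx (mem.1 x.2) (k := k) (congrArg Subtype.val hk)
  exact ⟨b, c, e' ▸ e⟩

theorem n4_comm (n : Kˣ) : n4 P * P.h1 n = P.h1 n * n4 P := by
  have := n4h P (n, 1)
  simp only [map_one, inv_one, mul_one, h_fst] at this
  rw [← mul_left_inj (n4 P), this, mul_assoc, n4n4, mul_one]

theorem eq_one_of_n4 (h : P.Hyp) {n : Kˣ} (hn : n ≠ 1) {b c : K}
    (hx : n4 P * P.u (y4 b c) * n4 P ∈ Subgroup.normalizer (P.Z : Set G)) : b = 0 ∧ c = 0 := by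
  have key : ∀ c : K, n4 P * P.u (y4 0 c) * n4 P ∈ Subgroup.normalizer (P.Z : Set G) → c = 0 := by
    intro c hc
    by_contra h0
    refine n4_not_mem (ti P.toP8 h (PC.mem_Z.2 ⟨c, rfl⟩) (z_ne_one h0) ?_)
    rw [n4_inv]
    refine inv_elt h hn hc ?_ ?_
    · rw [mul_assoc, n4_comm, ← mul_assoc, mul_assoc (n4 P), y4_comm, ← mul_assoc, n4_comm]; simp only [mul_assoc]
    · simp only [mul_assoc, n4n4']
      rw [← mul_assoc (P.u _), z_sq, one_mul, n4n4]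
  have h2 := mul_mem hx hx
  simp only [mul_assoc, n4n4'] at h2
  rw [← mul_assoc (P.u _), ← map_mul, y4_sq, ← mul_assoc] at h2
  obtain rfl : b = 0 := Tits.norm_eq_zero σ (key _ h2)
  exact ⟨rfl, key _ hx⟩

theorem w0h (t : Kˣ × Kˣ) : P.n8 * n4 P * P.h t = P.h t⁻¹ * (P.n8 * n4 P) := by
  have h1 := n8h P.toP8 (t.1 * (σu σ t.2)⁻¹, t.2⁻¹)
  rw [← n4h] at h1
  have h2 : ((σu σ t.2⁻¹ * (t.1 * (σu σ t.2)⁻¹)⁻¹, t.2⁻¹) : Kˣ × Kˣ) = t⁻¹ := by
    ext : 1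
    · simp [mul_comm]
    · rfl
  rw [h2] at h1
  rw [← h1]; simp only [mul_assoc, n8n8', n4n4, mul_one]

theorem ch (t : Kˣ × Kˣ) : (P.n8 * n4 P) ^ 2 * P.h t = P.h t * (P.n8 * n4 P) ^ 2 := by
  rw [pow_two, mul_assoc, w0h, ← mul_assoc, w0h, inv_inv, mul_assoc]

theorem c_mem_Z (h : P.Hyp) {n : Kˣ} (hn : n ≠ 1) : (P.n8 * n4 P) ^ 2 ∈ Subgroup.normalizer (P.Z : Set G) := by
  have c₂ : P.n8 * n4 P * P.n8 * P.h1 n = P.h1 n * (P.n8 * n4 P * P.n8) := by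
    have e1 : P.n8 * P.h1 n = P.h1 n⁻¹ * P.n8 := by rw [← P.n8h1, mul_assoc, P.n8n8, mul_one]
    rw [mul_assoc, e1, ← mul_assoc, ← h_fst, w0h, ← h_fst]; simp [mul_assoc]
  have h₂ : P.n8 * n4 P * P.n8 ∉ Subgroup.normalizer (P.Z : Set G) := fun e => n4_not_mem (P := P) (by
    simpa only [mul_assoc, n8n8', P.n8n8, mul_one] using mul_mem (mul_mem n8_mem e) n8_mem)
  obtain ⟨b, c, e⟩ := trans h hn (n4_comm n) c₂ n4_not_mem h₂
  have hi : (P.n8 * n4 P * P.n8)⁻¹ = P.n8 * n4 P * P.n8 := by simp only [mul_inv_rev, n4_inv, P.n8_inv, mul_assoc]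
  rw [hi] at e
  -- conjugate by the second torus
  set t : Kˣ × Kˣ := (1, n) with ht
  obtain ⟨t₁, e₁⟩ : ∃ t₁, (P.h t)⁻¹ * n4 P = n4 P * P.h t₁ :=
    ⟨_, by rw [← n4h P t⁻¹, map_inv]; simp only [mul_assoc, n4n4']⟩
  obtain ⟨t₂, e₂⟩ : ∃ t₂, P.n8 * n4 P * P.n8 * P.h t = P.h t₂ * (P.n8 * n4 P * P.n8) :=
    ⟨_, by rw [← mul_assoc (P.h _), ← w0h, ← n8h P.toP8 t]; simp only [mul_assoc, n8n8', P.n8n8, mul_one]⟩
  have e' : P.n8 * n4 P * P.n8 * (P.h t * P.u (y4 b c) * (P.h t)⁻¹ * n4 P) ∈ Subgroup.normalizer (P.Z : Set G) := by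
    have := mul_mem (mul_mem (h_mem_normalizer_Z P.toP8 t₂) e) (h_mem_normalizer_Z P.toP8 t₁)
    rwa [← mul_assoc (P.h t₂), ← e₂, mul_assoc, mul_assoc (P.u _), ← e₁, mul_assoc, ← mul_assoc (P.u _),
      ← mul_assoc (P.h t), ← mul_assoc (P.h t)] at this
  rw [h_conj_y4] at e'
  have e3 := mul_mem (inv_mem e) e'
  simp only [mul_inv_rev, n4_inv, P.n8_inv, mul_assoc, n8n8', n4n4'] at e3
  have e4 : ((y4 b c)⁻¹ * y4 (σ n / n * b) (n * c) : U σ) = y4 (b + σ n / n * b) (c + b * σ b + n * c + σ (σ n / n * b) * b) := by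
    usimp
  rw [← mul_assoc (P.u _)⁻¹, ← map_inv, ← map_mul, e4, ← mul_assoc] at e3
  obtain ⟨f1, f2⟩ := eq_one_of_n4 h hn e3
  obtain ⟨k1, -, -, -, k2⟩ := ne_of_ne_one (σ := σ) hn
  have := T.char
  obtain rfl : b = 0 := eq_zero_of_mul (a := σ n / n) (fun e => k2 (by rwa [div_eq_one_iff_eq n.ne_zero] at e)) (by grind)
  obtain rfl : c = 0 := eq_zero_of_mul k1 (by simp only [mul_zero, map_zero, add_zero] at f2; grind)
  rw [show P.u (y4 0 0) = 1 from map_one P.u, one_mul] at e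
  simpa only [pow_two, mul_assoc] using e

theorem c_mem_S (h : P.Hyp) {n : Kˣ} (hn : n ≠ 1) : (P.n8 * n4 P) ^ 2 ∈ Subgroup.normalizer (P.S : Set G) := by
  obtain ⟨y, hy, hyc⟩ := h.frattini_arg (h.normalizer_Z_le (c_mem_Z h hn))
  have h1 : y⁻¹⁻¹ * P.h1 n * y⁻¹ ∈ Subgroup.normalizer (P.S : Set G) := by
    have := mul_mem (mul_mem hyc (h_mem_normalizer_S P.toP8 (n, 1))) (inv_mem hyc)
    rw [mul_assoc y, ch, h_fst] at this
    simpa [mul_assoc] using this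
  rcases PC.mem_or_of_h1 (inv_mem hy) hn h1 with h2 | h2
  · simpa using mul_mem (P.B1_le_normalizer h2) hyc
  exfalso
  have h3 : n4 P * P.n8 * n4 P ∈ Subgroup.normalizer (P.S : Set G) := by
    simpa [pow_two, mul_assoc, n8n8'] using mul_mem (P.B1_le_normalizer h2) hyc
  obtain ⟨g, e⟩ := (Subgroup.mem_normalizer_iff.1 h3 _).1 (P.u_mem_S (y8 0 1))
  simp only [mul_inv_rev, n4_inv, P.n8_inv, mul_assoc] at e
  rw [← mul_assoc (n4 P) (P.u _), ← mul_assoc (n4 P * _), n4_y8] at e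
  -- `g` is fixed by `k₈`
  have k1 : ∀ κ : Kˣ, P.n8 * P.h (k8 (σ := σ) κ) = P.h (k8 (σ := σ) κ) * P.n8 := fun κ => by
    have e1 := n8h P.toP8 (k8 (σ := σ) κ)
    have e2 : (σu σ (k8 (σ := σ) κ).2 * (k8 (σ := σ) κ).1⁻¹, (k8 (σ := σ) κ).2) = k8 (σ := σ) κ := by
      simp only [k8, map_mul, map_pow, σσ]
      congr 1
      apply Additive.ofMul.injective; simp only [ofMul_mul, ofMul_inv, ofMul_pow]; abel
    rw [e2] at e1
    rw [← mul_left_inj P.n8, e1, mul_assoc, P.n8n8, mul_one]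
  have k2 : n4 P * P.h (k8 (σ := σ) n⁻¹) = P.h (k8 (σ := σ) n) * n4 P := by
    have e1 := n4h P (k8 (σ := σ) n⁻¹)
    have e2 : ((k8 (σ := σ) n⁻¹).1 * (σu σ (k8 (σ := σ) n⁻¹).2)⁻¹, (k8 (σ := σ) n⁻¹).2⁻¹) = k8 (σ := σ) n := by
      simp only [k8, map_mul, map_pow, σσ, map_inv]
      congr 1 <;> (apply Additive.ofMul.injective; simp only [ofMul_mul, ofMul_inv, ofMul_pow]; abel)
    rw [e2] at e1
    rw [← e1, mul_assoc, n4n4, mul_one]
  have k3 : P.h (k8 (σ := σ) n⁻¹) * P.u (y8 0 1) = P.u (y8 0 1) * P.h (k8 (σ := σ) n⁻¹) := by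
    rw [← mul_inv_eq_iff_eq_mul, P.hu, tor_k8]; congr 1; usimp
  have k4 : P.h (k8 (σ := σ) n) * n4 P = n4 P * P.h (k8 (σ := σ) n⁻¹) := k2.symm
  have k5 : P.h (k8 (σ := σ) n⁻¹) * n4 P = n4 P * P.h (k8 (σ := σ) n) := by
    rw [← mul_right_inj (n4 P), n4n4', ← mul_assoc, k2, mul_assoc, n4n4, mul_one]
  have hg : tor (k8 (σ := σ) n) g = g := P.inj (by
    rw [← P.hu, mul_inv_eq_iff_eq_mul, e, ← mul_assoc, k4, mul_assoc, ← mul_assoc (P.h _), ← k1, mul_assoc,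
      ← mul_assoc (P.h _), k3, mul_assoc, ← mul_assoc (P.h _), ← k1, mul_assoc, k5]
    simp only [mul_assoc])
  rw [eq_y8_of_fix hn hg, ← n4_y8, mul_assoc, mul_right_inj, ← mul_assoc, ← mul_assoc, mul_left_inj] at e
  exact one_ne_zero (PC.eq_zero_of_n8 (P := P.toPC) (e ▸ P.S_le_B1 (P.u_mem_S _))).2

theorem c_eq (h : P.Hyp) (hq : 2 < Nat.card K) : ∃ t, (P.n8 * n4 P) ^ 2 = P.h t := by
  obtain ⟨n, hn⟩ := Tits.exists_ne σ hq
  have hc := c_mem_S h hn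
  obtain ⟨t, ht⟩ := h.scalar hc fun m => by rw [← h_fst, ch]
  have h1 : (P.n8 * n4 P) ^ 2 * (P.h t)⁻¹ ∈ P.S := by
    refine h.mem_S_of_triv hq (mul_mem hc (inv_mem (h_mem_normalizer_S P.toP8 t))) fun g g' e => ?_
    have := ht (tor t⁻¹ g) g' (by rw [← e, ← P.hu, map_inv]; simp only [mul_inv_rev, inv_inv, mul_assoc])
    rwa [← MulAut.mul_apply, ← map_mul, mul_inv_cancel, map_one, MulAut.one_apply] at this
  obtain ⟨g, e⟩ := h1
  have h2 : g = 1 := eq_one_of_fix hn fun t' => P.inj (by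
    rw [← P.hu, e, mul_inv_eq_iff_eq_mul, ← mul_assoc, ← ch, mul_assoc, mul_assoc, ← map_inv, h_comm])
  rw [h2, map_one] at e
  exact ⟨t, mul_inv_eq_one.1 e.symm⟩

end Br

open Br in
/-- The braid relation. `c = (n₈ n₄)² = (n₈ n₁)⁸` normalises `Z` (Bender), then `S`, so it lies in the torus; it is inverted by
`n₁` and `n₈`. -/
theorem P81.braid [Finite K] [Finite G] {P : P81 σ r G} (h : P.Hyp) (hq : 2 < Nat.card K) : (P.n1 * P.n8) ^ 8 = 1 := by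
  obtain ⟨t, ht⟩ := c_eq h hq
  rw [n8n4, ← pow_mul] at ht
  have hi : (P.n1 * P.n8) ^ 8 = P.h t⁻¹ := by
    rw [map_inv, ← ht, ← inv_pow, mul_inv_rev, P.n8_inv, inv_eq_of_mul_eq_one_right P.n1n1]
  have e8 : P.n8 * P.h t * P.n8 = P.h t⁻¹ := by
    rw [← hi, ← ht]; simp only [pow_succ, pow_zero, one_mul, mul_assoc, n8n8']
  have e1 : P.n1 * P.h t * P.n1 = P.h t⁻¹ := by
    rw [← hi, ← ht]; simp only [pow_succ, pow_zero, one_mul, mul_assoc, P.n1n1, mul_one]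
  have key : ∀ s : Kˣ, s = s⁻¹ → s = 1 := fun s hs => by
    have := T.char
    have h1 : (s : K) * s = 1 := by
      nth_rw 2 [hs]
      exact s.mul_inv
    exact Units.ext (show (s : K) = 1 by grind)
  rw [n8h] at e8
  rw [n1h] at e1
  have h1 : t = 1 := Prod.ext (key _ (congrArg Prod.fst (h_inj P.toP8 e1))) (key _ (congrArg Prod.snd (h_inj P.toP8 e8)))
  rw [hi, h1, inv_one, map_one]

end CL.RF
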