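/-
INV library (large Ree groups): the fusion analysis, abstract part (extremal pairs of commuting conjugates of `τ`).
-/
import Cfsg.Agent.INV.RF.Bas
import Cfsg.Agent.TECH.SylIn
import Cfsg.Agent.SOLV.CoprimeSylow
import Cfsg.Agent.PLOC.PFrattini

set_option autoImplicit false
set_option linter.unusedSimpArgs false
set_option linter.unusedSectionVars false

namespace CL.RF

open U Subgroup CL.MSS

namespace Fu

section Abstract

variable {G : Type*} [Group G]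

/-- the subgroup generated by the squares -/
def Sq (T : Subgroup G) : Subgroup G := closure {x | ∃ t ∈ T, x = t * t}
/-- the subgroup generated by the involutions and the squares -/
def Iv (T : Subgroup G) : Subgroup G := closure {x | (x ∈ T ∧ x * x = 1) ∨ ∃ t ∈ T, x = t * t}

theorem sq_mem {T : Subgroup G} {t : G} (h : t ∈ T) : t * t ∈ Sq T := subset_closure ⟨t, h, rfl⟩
theorem inv_mem_Iv {T : Subgroup G} {t : G} (h : t ∈ T) (h2 : t * t = 1) : t ∈ Iv T := subset_closure (.inl ⟨h, h2⟩)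
theorem Sq_le_Iv (T : Subgroup G) : Sq T ≤ Iv T := closure_mono fun _ h => .inr h
theorem Iv_le (T : Subgroup G) : Iv T ≤ T := (closure_le _).2 fun _ h => by
  rcases h with h | ⟨t, ht, rfl⟩
  exacts [h.1, T.mul_mem ht ht]

theorem comm_mem_Sq {T : Subgroup G} {a b : G} (ha : a ∈ T) (hb : b ∈ T) : a * b * a⁻¹ * b⁻¹ ∈ Sq T := by
  have : a * b * a⁻¹ * b⁻¹ = a * a * (a⁻¹ * b * (a⁻¹ * b)) * (b⁻¹ * b⁻¹) := by group
  rw [this]
  exact mul_mem (mul_mem (sq_mem ha) (sq_mem (mul_mem (inv_mem ha) hb))) (sq_mem (inv_mem hb))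

theorem map_Sq {G' : Type*} [Group G'] (f : G →* G') (T : Subgroup G) : (Sq T).map f = Sq (T.map f) := by
  rw [Sq, Sq, MonoidHom.map_closure]
  congr 1
  ext x
  constructor
  · rintro ⟨_, ⟨t, ht, rfl⟩, rfl⟩
    exact ⟨f t, ⟨t, ht, rfl⟩, map_mul ..⟩
  · rintro ⟨_, ⟨t, ht, rfl⟩, rfl⟩
    exact ⟨_, ⟨t, ht, rfl⟩, map_mul ..⟩

theorem map_Iv {G' : Type*} [Group G'] {f : G →* G'} (hf : Function.Injective f) (T : Subgroup G) :
    (Iv T).map f = Iv (T.map f) := by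
  rw [Iv, Iv, MonoidHom.map_closure]
  congr 1
  ext x
  constructor
  · rintro ⟨y, ⟨h, h'⟩ | ⟨t, ht, rfl⟩, rfl⟩
    · exact .inl ⟨⟨y, h, rfl⟩, by rw [← map_mul, h', map_one]⟩
    · exact .inr ⟨f t, ⟨t, ht, rfl⟩, map_mul ..⟩
  · rintro (⟨⟨y, h, rfl⟩, h'⟩ | ⟨_, ⟨t, ht, rfl⟩, rfl⟩)
    · exact ⟨y, .inl ⟨h, hf (by rw [map_mul, h', map_one])⟩, rfl⟩
    · exact ⟨_, .inr ⟨t, ht, rfl⟩, map_mul ..⟩

theorem norm_Sq (T : Subgroup G) : normalizer (T : Set G) ≤ normalizer (Sq T : Set G) := fun g hg =>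
  mem_normalizer_iff_cj.2 (by rw [map_Sq, mem_normalizer_iff_cj.1 hg])

theorem norm_Iv (T : Subgroup G) : normalizer (T : Set G) ≤ normalizer (Iv T : Set G) := fun g hg =>
  mem_normalizer_iff_cj.2 (by rw [map_Iv (MulAut.conj g).injective, mem_normalizer_iff_cj.1 hg])

/-- the elements of `N` acting trivially on `A` modulo `B` -/
def fx (N A B : Subgroup G) (hB : N ≤ normalizer (B : Set G)) : Subgroup G where
  carrier := {x | x ∈ N ∧ ∀ t ∈ A, x * t * x⁻¹ * t⁻¹ ∈ B}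
  mul_mem' {x y} hx hy := ⟨mul_mem hx.1 hy.1, fun t ht => by
    have : x * y * t * (x * y)⁻¹ * t⁻¹ = x * (y * t * y⁻¹ * t⁻¹) * x⁻¹ * (x * t * x⁻¹ * t⁻¹) := by group
    rw [this]
    exact mul_mem (conj_mem_of_normalizes hB hx.1 (hy.2 t ht)) (hx.2 t ht)⟩
  one_mem' := ⟨one_mem _, fun t _ => by simp⟩
  inv_mem' {x} hx := ⟨inv_mem hx.1, fun t ht => by
    have : x⁻¹ * t * x⁻¹⁻¹ * t⁻¹ = x⁻¹ * (x * t * x⁻¹ * t⁻¹)⁻¹ * x⁻¹⁻¹ := by group
    rw [this]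
    exact conj_mem_of_normalizes hB (inv_mem hx.1) (inv_mem (hx.2 t ht))⟩

theorem conj_mem_fx {N A B : Subgroup G} {hB : N ≤ normalizer (B : Set G)} (hA : N ≤ normalizer (A : Set G))
    {n x : G} (hn : n ∈ N) (hx : x ∈ fx N A B hB) : n * x * n⁻¹ ∈ fx N A B hB :=
  ⟨mul_mem (mul_mem hn hx.1) (inv_mem hn), fun t ht => by
    have : n * x * n⁻¹ * t * (n * x * n⁻¹)⁻¹ * t⁻¹ =
      n * (x * (n⁻¹ * t * n⁻¹⁻¹) * x⁻¹ * (n⁻¹ * t * n⁻¹⁻¹)⁻¹) * n⁻¹ := by group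
    rw [this]
    exact conj_mem_of_normalizes hB hn (hx.2 _ (conj_mem_of_normalizes hA (inv_mem hn) ht))⟩

/-- an element stabilising `T ≥ Iv T ≥ Sq T` acts on `T` like an element of a given Sylow subgroup of `N(T)` -/
theorem exists_act [Finite G] {T T₂ : Subgroup G} (hT : IsPGroup 2 T) (h2 : SylIn 2 T₂ (normalizer (T : Set G))) {x : G}
    (hx : x ∈ normalizer (T : Set G)) (h0 : ∀ t ∈ T, x * t * x⁻¹ * t⁻¹ ∈ Iv T)
    (h1 : ∀ t ∈ Iv T, x * t * x⁻¹ * t⁻¹ ∈ Sq T) : ∃ y ∈ T₂, ∀ t ∈ T, x * t * x⁻¹ = y * t * y⁻¹ := by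
  set N := normalizer (T : Set G)
  set N₀ := fx N T (Iv T) (norm_Iv T) ⊓ fx N (Iv T) (Sq T) (norm_Sq T)
  have hle : N₀ ≤ N := fun y hy => hy.1.1
  set φ := T.normalizerMonoidHom
  have hφ : ∀ (y : N) (t : T), (φ y t : G) = y * t * (y : G)⁻¹ := fun _ _ => rfl
  have hp : IsPGroup 2 ((N₀.subgroupOf N).map φ) := by
    rw [isPGroup_iff_forall_mem]
    rintro _ ⟨y, hy, rfl⟩
    have hy : (y : G) ∈ N₀ := hy
    have hyy : (y : G) ^ 2 ∈ fx N T (Sq T) (norm_Sq T) := ⟨pow_mem y.2 _, fun t ht => by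
      have ha := hy.1.2 t ht
      have : (y : G) ^ 2 * t * ((y : G) ^ 2)⁻¹ * t⁻¹ = y * (y * t * (y : G)⁻¹ * t⁻¹) * (y : G)⁻¹ * (y * t * (y : G)⁻¹ * t⁻¹)⁻¹ *
        ((y * t * (y : G)⁻¹ * t⁻¹) * (y * t * (y : G)⁻¹ * t⁻¹)) := by rw [pow_two]; group
      rw [this]
      exact mul_mem (hy.2.2 _ ha) (sq_mem (Iv_le T ha))⟩
    obtain ⟨k, m, hm, e⟩ := Nat.exists_eq_two_pow_mul_odd (orderOf_pos (y : G)).ne'
    set z := ((y : G) ^ 2) ^ 2 ^ k with hz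
    have hz1 : z ∈ fx N T (Sq T) (norm_Sq T) := pow_mem hyy _
    have hz2 : orderOf z ∣ m := orderOf_dvd_of_pow_eq_one (by
      rw [hz, ← pow_mul, ← pow_mul, ← e, mul_comm, pow_mul, pow_orderOf_eq_one, one_pow])
    have hc : T ≤ centralizer (zpowers z : Set G) := by
      refine coprime_le_centralizer_of_commutator_le_frattini _ T (zpowers_le.2 hz1.1) ?_ ?_
      · obtain ⟨j, hj⟩ := IsPGroup.iff_card.1 (hT.to_subgroup (frattini T))
        rw [hj, Nat.card_zpowers]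
        exact Nat.Coprime.pow_right _ (Nat.Coprime.coprime_dvd_left hz2 (Nat.coprime_two_right.2 hm))
      · rw [commutator_comm, commutator_le]
        intro w hw t ht
        exact (closure_le _).2 (by rintro _ ⟨s, hs, rfl⟩; simpa [pow_two] using PG.pow_mem_frattini_map hT hs)
          ((zpowers_le.2 hz1 hw).2 t ht)
    refine ⟨k + 1, ?_⟩
    rw [← map_pow]
    ext t
    rw [hφ, MulAut.one_apply, Subgroup.coe_pow, pow_succ', pow_mul, ← hz, hc t.2 z (mem_zpowers z), mul_inv_cancel_right]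
  have hs := (h2.subgroupOf le_rfl).map φ
  have := hs.le_of_normalized hp (map_mono (comap_mono hle)) (by
    refine le_normalizer_of_cj_le ?_
    rintro _ ⟨n, -, rfl⟩
    rw [cj_le_iff_forall]
    rintro _ ⟨y, hy, rfl⟩
    refine ⟨n * y * n⁻¹, ?_, by simp⟩
    exact ⟨conj_mem_fx le_rfl n.2 hy.1, conj_mem_fx (norm_Iv T) n.2 hy.2⟩)
  obtain ⟨y, hy, e⟩ := this ⟨⟨x, hx⟩, ⟨⟨hx, h0⟩, ⟨hx, h1⟩⟩, rfl⟩
  exact ⟨y, hy, fun t ht => by rw [← hφ y ⟨t, ht⟩, e, hφ]⟩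

end Abstract

variable {K : Type*} [Field K] {σ : K →+* K} [T : Tits σ] {r : R8 K} {G : Type*} [Group G]

theorem Cp_conj (g t : G) : Cp (g * t * g⁻¹) = g •ᶜ Cp t := by
  ext x
  rw [mem_Cp_conj, mem_cj]

variable {P : PC σ r G}

theorem τ_sq : P.τ * P.τ = 1 := by
  have := T.char
  rw [PC.τ, ← map_mul, ← map_one P.u]
  congr 1
  usimp
  grind

theorem τ_ne : P.τ ≠ 1 := fun h => by
  have := congrArg U.c4 (P.inj (h.trans (map_one P.u).symm))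
  simp at this

theorem τ_mem_Z : P.τ ∈ P.Z := PC.mem_Z.2 ⟨1, rfl⟩

theorem sq_of_conj {t : G} (ht : IsConj P.τ t) : t * t = 1 := by
  obtain ⟨g, rfl⟩ := isConj_iff.1 ht
  rw [show g * P.τ * g⁻¹ * (g * P.τ * g⁻¹) = g * (P.τ * P.τ) * g⁻¹ by group, τ_sq]
  simp

/-- `T` is a 2-group centralising two commuting conjugates of `τ` that belong to different points -/
structure Good (P : PC σ r G) (A : Subgroup G) (t t' : G) : Prop where
  pg : IsPGroup 2 A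
  c1 : IsConj P.τ t
  c2 : IsConj P.τ t'
  comm : t * t' = t' * t
  ne : Cp t ≠ Cp t'
  l1 : A ≤ centralizer {t}
  l2 : A ≤ centralizer {t'}

/-- an extremal configuration -/
structure Ext (P : PC σ r G) (A : Subgroup G) (t t' : G) : Prop extends Good P A t t' where
  max : ∀ B s s', Good P B s s' → Nat.card B ≤ Nat.card A

variable {A : Subgroup G} {t t' : G}

theorem Good.symm (h : Good P A t t') : Good P A t' t := ⟨h.pg, h.c2, h.c1, h.comm.symm, h.ne.symm, h.l2, h.l1⟩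
theorem Ext.symm (h : Ext P A t t') : Ext P A t' t := ⟨h.toGood.symm, h.max⟩

theorem Good.cj (h : Good P A t t') (g : G) : Good P (g •ᶜ A) (g * t * g⁻¹) (g * t' * g⁻¹) where
  pg := isPGroup_cj g h.pg
  c1 := h.c1.trans (isConj_iff.2 ⟨g, rfl⟩)
  c2 := h.c2.trans (isConj_iff.2 ⟨g, rfl⟩)
  comm := by simp only [conj_mul, h.comm]
  ne := by rw [Cp_conj, Cp_conj, Ne, cj_inj]; exact h.ne
  l1 := cj_centralizer_singleton g t ▸ cj_mono g h.l1
  l2 := cj_centralizer_singleton g t' ▸ cj_mono g h.l2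

theorem Ext.cj (h : Ext P A t t') (g : G) : Ext P (g •ᶜ A) (g * t * g⁻¹) (g * t' * g⁻¹) :=
  ⟨h.toGood.cj g, fun B s s' hB => (card_cj g A).symm ▸ h.max B s s' hB⟩

variable [Finite K] [Finite G]

theorem Ext.eq_of_le (h : Ext P A t t') {B : Subgroup G} {s s' : G} (hB : Good P B s s') (hle : A ≤ B) : A = B :=
  eq_of_le_of_card_ge hle (h.max B s s' hB)

theorem Ext.mem (h : Ext P A t t') : t ∈ A := by
  have h1 : A ≤ normalizer (zpowers t : Set G) := fun x hx => mem_normalizer_iff_cj.2 (by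
    rw [cj_zpowers, mem_centralizer_singleton_iff.1 (h.l1 hx), mul_inv_cancel_right])
  rw [h.eq_of_le (B := A ⊔ zpowers t) ⟨isPGroup_sup_of_normalizes h.pg
    (isPGroup_zpowers (k := 1) (by simpa [pow_two] using sq_of_conj h.c1)) h1, h.c1, h.c2, h.comm, h.ne,
    sup_le h.l1 (zpowers_le.2 (mem_centralizer_singleton_iff.2 rfl)),
    sup_le h.l2 (zpowers_le.2 (mem_centralizer_singleton_iff.2 h.comm))⟩ le_sup_left]
  exact mem_sup_right (mem_zpowers t)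

variable (h : P.Hyp)
include h

theorem Cp_of_mem {y : G} (ht : IsConj P.τ t) (hy : t ∈ y •ᶜ P.Z) : Cp t = y •ᶜ P.C := by
  obtain ⟨g, rfl⟩ := isConj_iff.1 ht
  have e : y⁻¹ * (g * P.τ * g⁻¹) * y = y⁻¹ * g * P.τ * (y⁻¹ * g)⁻¹ := by group
  rw [mem_cj, e] at hy
  rw [← h.Cp_of_conj hy, ← Cp_conj]
  congr 1
  group

theorem Cp_of_mem_Z (ht : IsConj P.τ t) (hy : t ∈ P.Z) : Cp t = P.C := by
  rw [Cp_of_mem h (y := 1) ht (by rwa [cj_one]), cj_one]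

/-- two conjugates of `Z` sharing a conjugate of `τ` are equal -/
theorem cj_Z_eq {y y' : G} (ht : IsConj P.τ t) (hy : t ∈ y •ᶜ P.Z) (hy' : t ∈ y' •ᶜ P.Z) : y •ᶜ P.Z = y' •ᶜ P.Z := by
  have e := (Cp_of_mem h ht hy).symm.trans (Cp_of_mem h ht hy')
  rw [cj_eq_iff, ← cj_mul] at e
  rw [cj_eq_iff, ← cj_mul]
  exact (mem_normalizer_iff_cj.1 (h.normalizer_C_le_Z (mem_normalizer_iff_cj.2 e.symm))).symm

/-- `Cp t` centralises exactly the conjugate of `Z` through `t` -/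
theorem comm_Cp {y w : G} (ht : IsConj P.τ t) (hy : t ∈ y •ᶜ P.Z) : (∀ x ∈ Cp t, x * w = w * x) ↔ w ∈ y •ᶜ P.Z := by
  rw [Cp_of_mem h ht hy]
  constructor
  · intro H
    refine mem_cj.2 (h.mem_Z_of_comm_Q fun x hx => ?_)
    obtain ⟨x, -, rfl⟩ := hx
    have := H _ (conj_mem_cj (g := y) (P.u_mem_C x))
    calc y⁻¹ * w * y * P.u x = y⁻¹ * (w * (y * P.u x * y⁻¹)) * y := by group
      _ = P.u x * (y⁻¹ * w * y) := by rw [← this]; group
  · rintro ⟨z, hz, rfl⟩ _ ⟨x, hx, rfl⟩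
    obtain ⟨c, rfl⟩ := PC.mem_Z.1 hz
    rw [← map_mul, PC.comm_Z hx, map_mul]

theorem comm_of_two (ht : IsConj P.τ t) {x : G} (hx : Cp (x * t * x⁻¹) = Cp t) {k : ℕ} (hk : x ^ 2 ^ k = 1) :
    x * t = t * x := by
  obtain ⟨g, rfl⟩ := isConj_iff.1 ht
  refine comm_of_mem_Cp (mem_Cp_conj.2 ?_)
  rw [h.Cp_τ]
  refine h.mem_C_of_two (k := k) (mem_normalizer_iff_cj.2 ?_) ?_
  · rw [Cp_conj, Cp_conj, h.Cp_τ] at hx
    rw [cj_mul, cj_mul, hx, inv_cj_cj]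
  · have := @conj_pow G _ (2 ^ k) g⁻¹ x
    rw [inv_inv] at this
    rw [this, hk]; simp

theorem Good.exists_lt (hA : Good P A t t') : ∃ B : Subgroup G, IsPGroup 2 B ∧ A < B ∧ B ≤ centralizer {t} := by
  obtain ⟨g, rfl⟩ := isConj_iff.1 hA.c1
  obtain ⟨S, hS⟩ := h.exists_sylow
  have hSC : P.S ≤ centralizer {P.τ} := fun x hx => mem_centralizer_singleton_iff.2 (PC.comm_Z (P.S_le_C hx) 1)
  have h1 : SylIn 2 P.S (centralizer {P.τ}) := hS ▸ sylIn_sylow S (hS ▸ hSC)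
  have h2 := h1.cj g
  rw [cj_centralizer_singleton] at h2
  obtain ⟨y, hy, hle⟩ := h2.exists_le_conj hA.pg hA.l1
  have h3 := h2.cj_of_mem hy
  refine ⟨_, h3.pgroup, lt_of_le_of_ne hle fun e => hA.ne ?_, h3.le⟩
  have e1 : y * g * P.τ * (y * g)⁻¹ = g * P.τ * g⁻¹ := by
    rw [show y * g * P.τ * (y * g)⁻¹ = y * (g * P.τ * g⁻¹) * y⁻¹ by group, mem_centralizer_singleton_iff.1 hy,
      mul_inv_cancel_right]
  rw [Cp_of_mem h hA.c1 (y := y * g) (e1 ▸ conj_mem_cj τ_mem_Z), Cp_of_mem h hA.c2 (y := y * g)]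
  refine mem_cj.2 (h.mem_Z_of_comm_Q fun x hx => ?_)
  obtain ⟨x, -, rfl⟩ := hx
  have := mem_centralizer_singleton_iff.1 (hA.l2 (e ▸ cj_mul y g P.S ▸ conj_mem_cj (g := y * g) (P.u_mem_S x)))
  calc (y * g)⁻¹ * t' * (y * g) * P.u x = (y * g)⁻¹ * (t' * (y * g * P.u x * (y * g)⁻¹)) * (y * g) := by group
    _ = P.u x * ((y * g)⁻¹ * t' * (y * g)) := by rw [← this]; group

/-- Claim A -/
theorem Ext.exists_syl (hA : Ext P A t t') :
    ∃ B : Subgroup G, SylIn 2 B (normalizer (A : Set G)) ∧ B ≤ centralizer {t} ∧ Nat.card A < Nat.card B := by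
  obtain ⟨B, hB, hlt, hle⟩ := hA.toGood.exists_lt h
  have h1 := lt_inf_normalizer_of_lt hB hlt
  obtain ⟨D, hD, hle'⟩ := exists_sylIn_ge (hB.to_le inf_le_left)
    (le_inf inf_le_right (inf_le_left.trans hle) : B ⊓ normalizer (A : Set G) ≤ normalizer (A : Set G) ⊓ centralizer {t})
  have hc : Nat.card A < Nat.card D := card_lt_of_lt (h1.trans_le hle')
  have hDt := hD.le.trans inf_le_right
  refine ⟨D, SylIn.of_normalizer ⟨le_inf (hD.le.trans inf_le_left) le_normalizer, hD.pgroup, fun E hE e1 e2 => ?_⟩, hDt, hc⟩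
  refine hD.max E hE e1 (le_inf (e2.trans inf_le_left) fun x hx => mem_centralizer_singleton_iff.2 ?_)
  obtain ⟨k, hk⟩ := isPGroup_iff_forall_mem.1 hE x hx
  refine comm_of_two h hA.c1 ?_ hk
  by_contra hne
  refine hc.not_ge (hA.max D _ _ ⟨hD.pgroup, hA.c1.trans (isConj_iff.2 ⟨x, rfl⟩), hA.c1, ?_, hne, ?_, hDt⟩)
  · exact mem_centralizer_singleton_iff.1 (hA.l1 (conj_mem_of_normalizes le_rfl (e2 hx).1 hA.mem))
  · rw [← cj_centralizer_singleton, ← mem_normalizer_iff_cj.1 (e2 hx).2]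
    exact cj_mono x hDt

/-- (B) -/
theorem Ext.exists_swap (hA : Ext P A t t') : ∃ n ∈ normalizer (A : Set G), Cp (n * t' * n⁻¹) = Cp t := by
  obtain ⟨B, hB, hB1, hB2⟩ := hA.exists_syl h
  obtain ⟨B', hB', hB1', -⟩ := hA.symm.exists_syl h
  obtain ⟨n, hn, e⟩ := hB'.exists_conj hB
  refine ⟨n, hn, ?_⟩
  by_contra hne
  refine hB2.not_ge (hA.max B _ _ ⟨hB.pgroup, hA.c2.trans (isConj_iff.2 ⟨n, rfl⟩), hA.c1, ?_, hne, ?_, hB1⟩)
  · exact mem_centralizer_singleton_iff.1 (hA.l1 (conj_mem_of_normalizes le_rfl hn hA.symm.mem))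
  · rw [← cj_centralizer_singleton, ← e]
    exact cj_mono n hB1'

/-- normal form of an extremal configuration -/
theorem exists_ext (hp : P.Pair) : ∃ s : U σ, (s = y6 0 1 ∨ s = x5 1 ∨ s = x7 1 ∨ ∃ c, s = y8 0 1 * y4 0 c) ∧
    Ext P ((centralizer {s}).map P.u) P.τ (P.u s) := by
  obtain ⟨g, h1, h2⟩ := hp
  have h0 : Good P ⊥ (g * P.τ * g⁻¹) P.τ := ⟨IsPGroup.of_bot, isConj_iff.2 ⟨g, rfl⟩, .refl _, h1, fun e => h2 (by
    have := (comm_Cp h (y := 1) (w := g * P.τ * g⁻¹) (.refl _) (by rw [cj_one]; exact τ_mem_Z)).1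
      fun x hx => comm_of_mem_Cp (e ▸ hx)
    rwa [cj_one] at this), bot_le, bot_le⟩
  obtain ⟨A, ⟨t, t', hA⟩, hm⟩ := Set.exists_max_image {A | ∃ t t', Good P A t t'} (fun A => Nat.card A)
    (Set.toFinite _) ⟨_, _, _, h0⟩
  have hE : Ext P A t t' := ⟨hA, fun B s s' hB => hm B ⟨s, s', hB⟩⟩
  obtain ⟨a, ha⟩ := isConj_iff.1 hA.c1.symm
  have h3 := hE.cj a
  rw [ha] at h3
  have h4 : a * t' * a⁻¹ ∈ P.C := h.Cp_τ ▸ mem_Cp (k := 1) h3.comm.symm (by simpa [pow_two] using sq_of_conj h3.c2)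
  obtain ⟨y, hy, h5⟩ := PC.invol h4 (sq_of_conj h3.c2)
  have h6 := h3.cj y
  rw [show y * P.τ * y⁻¹ = P.τ by rw [PC.τ, PC.comm_Z hy, mul_inv_cancel_right]] at h6
  have key : ∀ s, y * (a * t' * a⁻¹) * y⁻¹ = P.u s → (∀ x ∈ P.C, x * P.u s = P.u s * x → x ∈ P.B1) →
      Ext P ((centralizer {s}).map P.u) P.τ (P.u s) := by
    intro s e hs
    rw [e] at h6
    rw [← h6.eq_of_le (B := (centralizer {s}).map P.u) ⟨P.isPGroup_S.to_le (map_le_range _ _), h6.c1, h6.c2, h6.comm,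
      h6.ne, ?_, ?_⟩ ?_]
    · exact h6
    · rintro _ ⟨x, -, rfl⟩
      exact mem_centralizer_singleton_iff.2 (PC.comm_Z (P.u_mem_C x) 1)
    · rintro _ ⟨x, hx, rfl⟩
      exact mem_centralizer_singleton_iff.2 (by rw [← map_mul, mem_centralizer_singleton_iff.1 hx, map_mul])
    · intro x hx
      obtain ⟨k, hk⟩ := isPGroup_iff_forall_mem.1 h6.pg x hx
      have e2 := mem_centralizer_singleton_iff.1 (h6.l2 hx)
      obtain ⟨w, rfl⟩ := PC.mem_S_of_two (hs x (h.Cp_τ ▸ mem_Cp (mem_centralizer_singleton_iff.1 (h6.l1 hx)) hk) e2) hk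
      exact ⟨w, mem_centralizer_singleton_iff.2 (P.inj (by rw [map_mul, map_mul, e2])), rfl⟩
  rcases h5 with h5 | h5 | h5 | h5 | ⟨c, h5⟩
  · exact (h6.ne (by rw [h.Cp_τ, Cp_of_mem_Z h h6.c2 h5])).elim
  · exact ⟨_, .inl rfl, key _ h5 fun x hx e =>
      P.S_le_B1 (map_le_range _ _ (PC.mem_Q'_of_comm (c := 0) hx one_ne_zero e))⟩
  · exact ⟨_, .inr (.inl rfl), key _ h5 fun x hx e => PC.mem_B1_of_comm_x5 hx one_ne_zero e⟩
  · exact ⟨_, .inr (.inr (.inl rfl)), key _ h5 fun x hx e => PC.mem_B1_of_comm_x7 hx one_ne_zero e⟩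
  · exact ⟨_, .inr (.inr (.inr ⟨c, rfl⟩)), key _ h5 fun x hx e => PC.mem_B1_of_comm_y8 hx one_ne_zero e⟩

/-- (C) in coordinates -/
theorem Ext.comm_of {s x : U σ} (hA : Ext P ((centralizer {s}).map P.u) P.τ (P.u s))
    (hx : ∀ a, a * s = s * a → x * a * x⁻¹ * s = s * (x * a * x⁻¹))
    (h0 : ∀ a, a * s = s * a → x * a * x⁻¹ * a⁻¹ ∈ Iv (centralizer {s}))
    (h1 : ∀ a, a * s = s * a → a.b8 = 0 → x * a * x⁻¹ * a⁻¹ ∈ Sq (centralizer {s})) : x * s = s * x := by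
  obtain ⟨B, hB, hB1, -⟩ := hA.symm.exists_syl h
  obtain ⟨y, hy, e⟩ := exists_act hA.pg hB (x := P.u x) (mem_normalizer_of_cj_le (cj_le_iff_forall.2 (by
      rintro _ ⟨a, ha, rfl⟩
      exact ⟨x * a * x⁻¹, mem_centralizer_singleton_iff.2 (hx a (mem_centralizer_singleton_iff.1 ha)), by simp⟩)))
    (by
      rintro _ ⟨a, ha, rfl⟩
      exact map_Iv P.inj _ ▸ ⟨_, h0 a (mem_centralizer_singleton_iff.1 ha), by simp⟩)
    (by
      rw [← map_Iv P.inj, ← map_Sq]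
      rintro _ ⟨a, ha, rfl⟩
      refine ⟨_, h1 a (mem_centralizer_singleton_iff.1 (Iv_le _ ha)) ?_, by simp⟩
      have := T.char
      refine closure_induction (p := fun a _ => a.b8 = 0) ?_ rfl (fun a b _ _ e e' => by rw [mul_b8, e, e', add_zero])
        (fun a _ e => e) ha
      rintro a (⟨-, e⟩ | ⟨b, -, rfl⟩)
      · exact b8_eq_zero_iff.2 (e ▸ one_mem _)
      · rw [mul_b8]; grind)
  have := e _ hA.symm.mem
  rw [mem_centralizer_singleton_iff.1 (hB1 hy), mul_inv_cancel_right, mul_inv_eq_iff_eq_mul, ← map_mul, ← map_mul] at this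
  exact P.inj this

end Fu

end CL.RF
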