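/-
INV library (large Ree groups): the fusion analysis, computations in `U σ`.
-/
import Cfsg.Agent.INV.RF.FusA

set_option autoImplicit false
set_option linter.unusedSimpArgs false
set_option linter.unusedSectionVars false

namespace CL.RF

open U Subgroup CL.MSS

namespace Fu

variable {K : Type*} [Field K] {σ : K →+* K} [T : Tits σ]

theorem mem_of_456 {H : Subgroup (U σ)} (h4 : ∀ c, y4 0 c ∈ H) (h5 : ∀ c, x5 c ∈ H) (h6 : ∀ c, y6 0 c ∈ H) {g : U σ}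
    (e : g = ⟨0, 0, 0, 0, 0, g.c4, g.a5, 0, g.c6, 0, 0, 0⟩) : g ∈ H := by
  have : g = y4 0 g.c4 * x5 g.a5 * y6 0 g.c6 := e.trans (by usimp)
  rw [this]
  exact mul_mem (mul_mem (h4 _) (h5 _)) (h6 _)

theorem mem_of_3456 {H : Subgroup (U σ)} (h3 : ∀ c, x3 c ∈ H) (h4 : ∀ c, y4 0 c ∈ H) (h5 : ∀ c, x5 c ∈ H)
    (h6 : ∀ c, y6 0 c ∈ H) {g : U σ} (e : g = ⟨0, 0, 0, g.a3, 0, g.c4, g.a5, 0, g.c6, 0, 0, 0⟩) : g ∈ H := by
  have : g = x3 g.a3 * y4 0 g.c4 * x5 g.a5 * y6 0 g.c6 := e.trans (by usimp)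
  rw [this]
  exact mul_mem (mul_mem (mul_mem (h3 _) (h4 _)) (h5 _)) (h6 _)

theorem y4_sq (b : K) : (y4 b 0 * y4 b 0 : U σ) = y4 0 (b * σ b) := by
  have := T.char
  usimp
  grind

theorem y6_sq (b : K) : (y6 b 0 * y6 b 0 : U σ) = y6 0 (b * σ b) := by
  have := T.char
  usimp
  grind

theorem y4_mem_Sq {A : Subgroup (U σ)} (h : ∀ b, y4 b 0 ∈ A) (c : K) : y4 0 c ∈ Sq A := by
  obtain ⟨b, rfl⟩ := Tits.norm_surj σ c
  exact y4_sq (σ := σ) b ▸ sq_mem (h b)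

theorem y6_mem_Sq {A : Subgroup (U σ)} (h : ∀ b, y6 b 0 ∈ A) (c : K) : y6 0 c ∈ Sq A := by
  obtain ⟨b, rfl⟩ := Tits.norm_surj σ c
  exact y6_sq (σ := σ) b ▸ sq_mem (h b)

/-! ### the class of `y8 0 1 * y4 0 c` -/

theorem comm_y8 {a : U σ} {c : K} : a * (y8 0 1 * y4 0 c) = y8 0 1 * y4 0 c * a ↔
    a.a1 = 0 ∧ a.b2 = 0 ∧ a.c2 = 0 ∧ a.a3 = 0 := by
  have := T.char
  constructor
  · intro h
    usimp at h
    have h1 : a.a1 = 0 := by grind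
    have h2 : a.b2 = 0 := by grind
    have h3 : a.c2 = 0 := by simp only [h1, h2, map_zero] at h; grind
    refine ⟨h1, h2, h3, ?_⟩
    simp only [h1, h2, h3, map_zero] at h
    grind
  · rintro ⟨h1, h2, h3, h4⟩
    usimp
    simp only [h1, h2, h3, h4, map_zero]
    grind

theorem y8_sq (c : K) {a : U σ} (h : a * (y8 0 1 * y4 0 c) = y8 0 1 * y4 0 c * a) :
    x3 1 * a * (x3 1)⁻¹ * a⁻¹ ∈ Sq (centralizer {(y8 0 1 * y4 0 c : U σ)}) := by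
  have := T.char
  have h4 : ∀ b, (y4 b 0 : U σ) ∈ centralizer {(y8 0 1 * y4 0 c : U σ)} := fun b =>
    mem_centralizer_singleton_iff.2 (comm_y8.2 ⟨rfl, rfl, rfl, rfl⟩)
  have h6 : ∀ b, (y6 b 0 : U σ) ∈ centralizer {(y8 0 1 * y4 0 c : U σ)} := fun b =>
    mem_centralizer_singleton_iff.2 (comm_y8.2 ⟨rfl, rfl, rfl, rfl⟩)
  obtain ⟨h1, h2, h3, h5⟩ := comm_y8.1 h
  refine mem_of_456 (y4_mem_Sq h4) (fun d => ?_) (y6_mem_Sq h6) ?_
  · convert comm_mem_Sq (h4 1) (h6 d) using 1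
    usimp
    grind
  · usimp
    simp only [h1, h2, h3, h5, map_zero]
    grind

theorem y8_norm (c : K) {a : U σ} (h : a * (y8 0 1 * y4 0 c) = y8 0 1 * y4 0 c * a) :
    x3 1 * a * (x3 1)⁻¹ * (y8 0 1 * y4 0 c) = y8 0 1 * y4 0 c * (x3 1 * a * (x3 1)⁻¹) := by
  have := T.char
  obtain ⟨h1, h2, h3, h5⟩ := comm_y8.1 h
  rw [comm_y8]
  usimp
  simp only [h1, h2, h3, h5, map_zero]
  grind

/-! ### the class of `x7 1` -/

theorem comm_x7 {a : U σ} : a * x7 1 = x7 1 * a ↔ a.a1 = 0 ∧ a.b2 = 0 ∧ a.c2 = 0 ∧ a.b4 = 0 := by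
  have := T.char
  constructor
  · intro h
    usimp at h
    have h1 : a.a1 = 0 := (map_eq_zero σ).1 (by grind)
    have h2 : a.b2 = 0 := (map_eq_zero σ).1 (by simp only [h1, map_zero] at h; grind)
    simp only [h1, h2, map_zero] at h
    grind
  · rintro ⟨h1, h2, h3, h4⟩
    usimp
    simp only [h1, h2, h3, h4, map_zero]
    grind

theorem x7_456 {g : U σ} (e : g = ⟨0, 0, 0, 0, 0, g.c4, g.a5, 0, g.c6, 0, 0, 0⟩) :
    g ∈ Sq (centralizer {(x7 1 : U σ)}) := by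
  have := T.char
  have h3 : ∀ b, (x3 b : U σ) ∈ centralizer {(x7 1 : U σ)} := fun b =>
    mem_centralizer_singleton_iff.2 (comm_x7.2 ⟨rfl, rfl, rfl, rfl⟩)
  have h6 : ∀ b, (y6 b 0 : U σ) ∈ centralizer {(x7 1 : U σ)} := fun b =>
    mem_centralizer_singleton_iff.2 (comm_x7.2 ⟨rfl, rfl, rfl, rfl⟩)
  have h8 : (y8 1 0 : U σ) ∈ centralizer {(x7 1 : U σ)} :=
    mem_centralizer_singleton_iff.2 (comm_x7.2 ⟨rfl, rfl, rfl, rfl⟩)
  have h4 : ∀ d, (y4 0 d : U σ) ∈ Sq (centralizer {(x7 1 : U σ)}) := fun d => by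
    convert comm_mem_Sq (h3 d) (h6 1) using 1
    usimp
    grind
  refine mem_of_456 h4 (fun d => ?_) (y6_mem_Sq h6) e
  have h9 := comm_mem_Sq (h3 d) h8
  set w : U σ := x3 d * y8 1 0 * (x3 d)⁻¹ * (y8 1 0)⁻¹ with hw
  have : (x5 d : U σ) = w * y4 0 w.c4 * y6 0 w.c6 := by
    rw [hw]
    usimp
    grind
  rw [this]
  exact mul_mem (mul_mem h9 (h4 _)) (y6_mem_Sq h6 _)

theorem x7_iv {a : U σ} (h : a * x7 1 = x7 1 * a) :
    y2 0 1 * a * (y2 0 1)⁻¹ * a⁻¹ ∈ Iv (centralizer {(x7 1 : U σ)}) := by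
  have := T.char
  obtain ⟨h1, h2, h3, h5⟩ := comm_x7.1 h
  refine mem_of_3456 (fun d => inv_mem_Iv (mem_centralizer_singleton_iff.2 (comm_x7.2 ⟨rfl, rfl, rfl, rfl⟩)) ?_)
    (fun d => Sq_le_Iv _ (x7_456 rfl)) (fun d => Sq_le_Iv _ (x7_456 rfl)) (fun d => Sq_le_Iv _ (x7_456 rfl)) ?_
  · usimp
    grind
  · usimp
    simp only [h1, h2, h3, h5, map_zero]
    grind

theorem x7_sq {a : U σ} (h : a * x7 1 = x7 1 * a) (h8 : a.b8 = 0) :
    y2 0 1 * a * (y2 0 1)⁻¹ * a⁻¹ ∈ Sq (centralizer {(x7 1 : U σ)}) := by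
  have := T.char
  obtain ⟨h1, h2, h3, h5⟩ := comm_x7.1 h
  refine x7_456 ?_
  usimp
  simp only [h1, h2, h3, h5, h8, map_zero]
  grind

theorem x7_norm {a : U σ} (h : a * x7 1 = x7 1 * a) :
    y2 0 1 * a * (y2 0 1)⁻¹ * x7 1 = x7 1 * (y2 0 1 * a * (y2 0 1)⁻¹) := by
  have := T.char
  obtain ⟨h1, h2, h3, h5⟩ := comm_x7.1 h
  rw [comm_x7]
  usimp
  simp only [h1, h2, h3, h5, map_zero]
  grind

/-! ### the class of `x5 1` -/

theorem mem_A5 {a : U σ} : a ∈ centralizer {(x5 1 : U σ)} ↔ a.b2 = 0 ∧ a.b8 = 0 := by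
  have := T.char
  rw [mem_centralizer_singleton_iff]
  constructor
  · intro h
    usimp at h
    grind
  · rintro ⟨h1, h2⟩
    usimp
    simp only [h1, h2, map_zero]
    grind

/-- a fourth power in `C(x5 1)` that lies in `V₄` is trivial -/
theorem pow_four {g : U σ} (h2 : g.b2 = 0) (h8 : g.b8 = 0) (h : (g * g * (g * g)).a5 = 0) : g * g * (g * g) = 1 := by
  have := T.char
  have e1 : (g * g).a1 = 0 := by usimp; grind
  have e2 : (g * g).b2 = 0 := by usimp; grind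
  have e3 : (g * g).b8 = 0 := by usimp; grind
  have e4 : (g * g).c8 = 0 := by usimp; grind
  have e5 : (g * g).b4 = σ g.a1 * g.c8 := by usimp; grind
  have e6 : (g * g).b6 = g.a1 * g.c8 := by usimp; simp only [h2, h8, map_zero]; grind
  have e7 : (g * g).a7 = g.a1 * σ g.c8 := by usimp; grind
  generalize g * g = w at *
  rw [mul_a5] at h
  simp only [e1, e2, e3, e4, e5, e6, map_zero] at h
  have h0 : g.a1 = 0 ∨ g.c8 = 0 := by
    by_contra hc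
    have := (map_ne_zero σ).2 (not_or.1 hc).1
    grind
  have e8 : w.b4 = 0 ∧ w.b6 = 0 ∧ w.a7 = 0 := by rcases h0 with h0 | h0 <;> simp [e5, e6, e7, h0]
  usimp
  simp only [e1, e2, e3, e4, e8, map_zero]
  grind

theorem x5_eq : ∃ g : U σ, g.b2 = 0 ∧ g.b8 = 0 ∧ g * g * (g * g) = x5 1 := by
  have := T.char
  refine ⟨⟨1, 0, 0, 0, 0, 0, 0, 0, 0, 1, 0, 1⟩, rfl, rfl, ?_⟩
  usimp
  grind

end Fu

end CL.RF
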