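/-
INV library (large Ree groups): the fusion analysis.
-/
import Cfsg.Agent.INV.RF.FusB

set_option autoImplicit false
set_option linter.unusedSimpArgs false
set_option linter.unusedSectionVars false

namespace CL.RF

open U Subgroup CL.MSS

variable {K : Type*} [Field K] {σ : K →+* K} [T : Tits σ] {r : R8 K} {G : Type*} [Group G]

namespace Fu

theorem vv_mul (c a c' a' : K) : (vv c a * vv c' a' : U σ) = vv (c + c') (a + a') := by vsimp

theorem vv_inj {c a c' a' : K} (h : (vv c a : U σ) = vv c' a') : c = c' ∧ a = a' :=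
  ⟨congrArg U.c4 h, congrArg U.c6 h⟩

theorem cent_v6 : centralizer {(y6 0 1 : U σ)} = Q' := by
  ext g
  rw [mem_centralizer_singleton_iff, ← mul_inv_eq_iff_eq_mul, ← zero_vv, conj_vv, mem_Q']
  exact ⟨fun h => by simpa using (vv_inj h).1, fun h => by simp [h]⟩

variable {P : PC σ r G}

theorem x1_vv (t c a : K) : P.u (x1 t) * P.u (vv c a) * (P.u (x1 t))⁻¹ = P.u (vv (c + t * a) a) := by
  rw [← map_inv, ← map_mul, ← map_mul, conj_vv, x1_a1]

theorem h1_vv (n : Kˣ) (c a : K) : P.h1 n * P.u (vv c a) * (P.h1 n)⁻¹ = P.u (vv c (n * σ n * a)) := by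
  rw [P.h1u, tor_apply]
  congr 1
  vsimp
  simp

theorem x1_sq (t : K) : P.u (x1 t) ^ 2 ^ 1 = 1 := by
  have := T.char
  rw [pow_one, pow_two, ← map_mul, ← map_one P.u]
  congr 1
  usimp
  grind

theorem exists_norm {a : K} (ha : a ≠ 0) : ∃ n : Kˣ, n * σ n = a := by
  obtain ⟨b, rfl⟩ := Tits.norm_surj σ a
  exact ⟨Units.mk0 b (left_ne_zero_of_mul ha), rfl⟩

theorem isConj_v6 {c a : K} (ha : a ≠ 0) : IsConj (P.u (vv 0 1)) (P.u (vv c a)) := by
  obtain ⟨n, hn⟩ := exists_norm (σ := σ) ha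
  refine (isConj_iff.2 ⟨_, h1_vv n 0 1⟩).trans (isConj_iff.2 ⟨_, (x1_vv (c / a) _ _).trans ?_⟩)
  rw [hn, mul_one, zero_add, div_mul_cancel₀ _ ha]

variable [Finite K] [Finite G] (h : P.Hyp)
include h

theorem B1_le : P.B1 ≤ normalizer (P.Q' : Set G) := P.B1_le_normalizer.trans h.normalizer_S_le_Q'

/-- the case `s = v6 1` -/
theorem out_v6 (hA : Ext P P.Q' P.τ (P.u (vv 0 1))) : P.Out := by
  have := T.char
  obtain ⟨n, hn, e⟩ := hA.exists_swap h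
  set g := n⁻¹ with hg
  have hgn : g ∈ normalizer (P.Q' : Set G) := inv_mem hn
  have one : P.u (vv 0 1) ∈ g •ᶜ P.Z := by
    have := (comm_Cp h (y := 1) (w := n * P.u (vv 0 1) * n⁻¹) (.refl _) (by rw [cj_one]; exact τ_mem_Z)).1
      fun x hx => comm_of_mem_Cp (e ▸ hx)
    rwa [cj_one, ← conj_mem_cj_iff (g := g), show g * (n * P.u (vv 0 1) * n⁻¹) * g⁻¹ = P.u (vv 0 1) by
      rw [hg]; group] at this
  have add : ∀ {c a c' a' : K}, P.u (vv c a) ∈ g •ᶜ P.Z → P.u (vv c' a') ∈ g •ᶜ P.Z →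
      P.u (vv (c + c') (a + a')) ∈ g •ᶜ P.Z := fun h1 h2 => by
    rw [← vv_mul, map_mul]
    exact mul_mem h1 h2
  have zero : ∀ {c : K}, P.u (vv c 0) ∈ g •ᶜ P.Z → c = 0 := fun {c} hc => by
    have h1 := add hc one
    rw [add_zero, zero_add] at h1
    have h2 := x1_vv (P := P) c 0 1
    rw [mul_one, zero_add] at h2
    have h3 := comm_of_two h hA.c2 (x := P.u (x1 c)) (by
      rw [h2, Cp_of_mem h (hA.c2.trans (isConj_v6 one_ne_zero)) h1, Cp_of_mem h hA.c2 one]) (x1_sq c)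
    rw [h3, mul_inv_cancel_right] at h2
    exact (vv_inj (P.inj h2)).1.symm
  have mul : ∀ {c k d b : K}, P.u (vv c k) ∈ g •ᶜ P.Z → k ≠ 0 → P.u (vv d b) ∈ g •ᶜ P.Z →
      P.u (vv (d + b * c) (k * b)) ∈ g •ᶜ P.Z := fun {c k d b} h1 hk h2 => by
    obtain ⟨m, hm⟩ := exists_norm (σ := σ) hk
    have e1 : P.u (vv 0 k) ∈ (P.h1 m * g) •ᶜ P.Z := by
      have := conj_mem_cj (g := P.h1 m) one
      rwa [h1_vv, hm, mul_one, ← cj_mul] at this
    have e2 : P.u (vv 0 k) ∈ (P.u (x1 (c / k)) * g) •ᶜ P.Z := by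
      have := conj_mem_cj (g := P.u (x1 (c / k))) h1
      rwa [x1_vv, div_mul_cancel₀ _ hk, CharTwo.add_self_eq_zero, ← cj_mul] at this
    have e3 := conj_mem_cj (g := P.h1 m) h2
    rw [h1_vv, hm, ← cj_mul, cj_Z_eq h (hA.c2.trans (isConj_v6 hk)) e1 e2, cj_mul] at e3
    rw [← conj_mem_cj_iff (g := P.u (x1 (c / k))), x1_vv]
    convert e3 using 3
    rw [← mul_assoc, div_mul_cancel₀ _ hk]
    grind
  have key : ∀ {c b : K}, P.u (vv c b) ∈ g •ᶜ P.Z → c = 0 := fun {c b} hc => by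
    by_cases h0 : b = 0
    · exact zero (h0 ▸ hc)
    by_cases h1 : 1 + b = 0
    · have := add one hc
      rw [h1, zero_add] at this
      exact zero this
    have h2 := add (add (mul hc h0 hc) (mul (add one hc) h1 hc)) hc
    refine zero (?_ : P.u (vv c 0) ∈ _)
    convert h2 using 3 <;> grind
  have hZ : ∀ c, ∃ a, g * P.u (y4 0 c) * g⁻¹ = P.u (vv 0 a) := fun c => by
    obtain ⟨d, a, e⟩ := PC.mem_V.1 (conj_mem_of_normalizes h.normalizer_Q'_le_V hgn (PC.mem_V.2 ⟨c, 0, rfl⟩))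
    obtain rfl : d = 0 := key (e ▸ conj_mem_cj (PC.mem_Z.2 ⟨c, rfl⟩))
    exact ⟨a, e⟩
  obtain ⟨a, ha⟩ := hZ 1
  have ha0 : a ≠ 0 := by
    rintro rfl
    exact τ_ne (P := P) (conj_eq_one_iff.1 (ha.trans (map_one P.u)))
  obtain ⟨m, hm⟩ := exists_norm (σ := σ) (inv_ne_zero ha0)
  have hc : ∀ x, P.h1 m * g * x * (P.h1 m * g)⁻¹ = P.h1 m * (g * x * g⁻¹) * (P.h1 m)⁻¹ := fun x => by group
  refine ⟨P.h1 m * g, mul_mem (B1_le h (P.h1_mem_B1 m)) hgn, ?_, fun c => ?_⟩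
  · rw [hc, PC.τ, ha, h1_vv, hm, inv_mul_cancel₀ ha0, zero_vv]
  · obtain ⟨b, hb⟩ := hZ c
    exact ⟨_, by rw [hc, hb, h1_vv, zero_vv]⟩

/-- the case `s = x5 1` -/
theorem not_x5 (hA : Ext P ((centralizer {x5 1}).map P.u) P.τ (P.u (x5 1))) : False := by
  obtain ⟨n, hn, e⟩ := hA.exists_swap h
  have h1 := (comm_Cp h (y := 1) (w := n * P.u (x5 1) * n⁻¹) (.refl _) (by rw [cj_one]; exact τ_mem_Z)).1
    fun x hx => comm_of_mem_Cp (e ▸ hx)
  rw [cj_one] at h1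
  obtain ⟨c, hc⟩ := PC.mem_Z.1 h1
  obtain ⟨g, h2, h8, hg⟩ := x5_eq (σ := σ)
  obtain ⟨k, hk, e'⟩ := conj_mem_of_normalizes le_rfl hn (mem_map_of_mem P.u (mem_A5.2 ⟨h2, h8⟩))
  have h3 : P.u (k * k * (k * k)) = n * P.u (x5 1) * n⁻¹ := by
    rw [← hg]
    simp only [map_mul, e', conj_mul]
  rw [pow_four (mem_A5.1 hk).1 (mem_A5.1 hk).2 (by rw [P.inj (h3.trans hc)]; rfl), map_one, eq_comm, conj_eq_one_iff,
    ← map_one P.u] at h3
  exact one_ne_zero (congrArg U.a5 (P.inj h3))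

end Fu

open Fu

/-- If `Z` is not weakly closed, an element of `N(Q')` maps `V₄` to `V₆`. Take two commuting conjugates `t₁, t₂` of `τ` with
`Cp t₁ ≠ Cp t₂` and a 2-subgroup `T ≤ C(t₁) ∩ C(t₂)` of largest order; wlog `t₁ = τ`, `t₂ = u s`, `T = C_S(t₂)`. A Sylow subgroup of
`N(T)` centralises `t₂`, and an element of `N(T)` maps `t₂` into `Z`; this excludes all classes but `s = v6 1`. -/
theorem PC.Hyp.out [Finite K] [Finite G] {P : PC σ r G} (h : P.Hyp) (hp : P.Pair) : P.Out := by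
  have := T.char
  obtain ⟨s, rfl | rfl | rfl | ⟨c, rfl⟩, hA⟩ := exists_ext h hp
  · exact out_v6 h (by rwa [cent_v6] at hA)
  · exact (not_x5 h hA).elim
  · have := comm_x7.1 (hA.comm_of h (x := y2 0 1) (fun _ => x7_norm) (fun _ => x7_iv) fun _ => x7_sq)
    exact (one_ne_zero this.2.2.1).elim
  · have := comm_y8.1 (hA.comm_of h (x := x3 1) (fun _ => y8_norm c) (fun _ e => Sq_le_Iv _ (y8_sq c e))
      fun _ e _ => y8_sq c e)
    exact (one_ne_zero this.2.2.2).elim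

namespace Fu

variable [Finite K] {P : PC σ r G} {g : G}

theorem exists_pre (hg : ∀ c, ∃ a, g * P.u (y4 0 c) * g⁻¹ = P.u (y6 0 a)) (a : K) :
    ∃ c, g * P.u (y4 0 c) * g⁻¹ = P.u (y6 0 a) := by
  choose f hf using hg
  obtain ⟨c, rfl⟩ := Finite.surjective_of_injective (f := f) (fun c d e => by
    have := hf c
    rw [e, ← hf d, mul_left_inj, mul_right_inj] at this
    exact congrArg U.c4 (P.inj this)) a
  exact ⟨c, hf c⟩

theorem mem_cj_Z (hg : ∀ c, ∃ a, g * P.u (y4 0 c) * g⁻¹ = P.u (y6 0 a)) {c a : K} :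
    P.u (vv c a) ∈ g •ᶜ P.Z ↔ c = 0 := by
  constructor
  · rintro ⟨z, hz, e⟩
    obtain ⟨d, rfl⟩ := PC.mem_Z.1 hz
    obtain ⟨b, hb⟩ := hg d
    exact (congrArg U.c4 (P.inj (hb.symm.trans e))).symm
  · rintro rfl
    obtain ⟨c, hc⟩ := exists_pre hg a
    exact ⟨_, PC.mem_Z.2 ⟨c, rfl⟩, hc⟩

end Fu

namespace PC.Hyp

variable [Finite K] [Finite G] {P : PC σ r G} (h : P.Hyp) (ho : P.Out)
include h ho

/-- all involutions of `V` are conjugate to `τ` (`V \ Z` under `B1`, `Z` by the element of `Out`) -/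
theorem isConj_vv {c a : K} (h0 : c ≠ 0 ∨ a ≠ 0) : IsConj P.τ (P.u (vv c a)) := by
  obtain ⟨g, -, h1, h2⟩ := ho
  have h3 : IsConj P.τ (P.u (vv 0 1)) := isConj_iff.2 ⟨g, h1⟩
  by_cases ha : a = 0
  · subst ha
    obtain ⟨b, hb⟩ := h2 c
    refine (h3.trans (isConj_v6 (c := 0) (a := b) ?_)).trans (isConj_iff.2 ⟨g, hb⟩).symm
    rintro rfl
    rw [show P.u (y6 0 0) = 1 from map_one P.u, conj_eq_one_iff, ← map_one P.u] at hb
    exact h0.elim (fun e => e (congrArg U.c4 (P.inj hb))) fun e => e rfl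
  · exact h3.trans (isConj_v6 ha)

/-- `Cp` of an involution of `V` centralises exactly the `K`-line through it (`Z`, `V₆` and the `x1 t`-conjugates of `V₆`) -/
theorem comm_Cp_iff {c a c' a' : K} (h0 : c ≠ 0 ∨ a ≠ 0) :
    (∀ x ∈ Cp (P.u (vv c a)), x * P.u (vv c' a') = P.u (vv c' a') * x) ↔ c * a' = c' * a := by
  have := T.char
  have h1 := h.isConj_vv ho h0
  obtain ⟨g, -, -, h2⟩ := ho
  by_cases ha : a = 0
  · subst ha
    rw [comm_Cp h (y := 1) h1 (by rw [cj_one]; exact PC.mem_Z.2 ⟨c, rfl⟩), cj_one, mul_zero, mul_eq_zero,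
      or_iff_right (h0.resolve_right (not_not.2 rfl)), PC.mem_Z]
    exact ⟨fun ⟨d, e⟩ => congrArg U.c6 (P.inj e), fun e => ⟨c', by rw [e, vv_zero]⟩⟩
  · have h3 : ∀ d b, P.u (vv d b) ∈ ((P.u (x1 (c / a)))⁻¹ * g) •ᶜ P.Z ↔ d + c / a * b = 0 := fun d b => by
      rw [cj_mul, ← conj_mem_cj_iff (g := P.u (x1 (c / a))), cj_inv_cj, x1_vv, mem_cj_Z h2]
    rw [comm_Cp h h1 ((h3 c a).2 (by rw [div_mul_cancel₀ _ ha, CharTwo.add_self_eq_zero])), h3]
    constructor <;> intro e <;> grind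

/-- `N(V)` permutes the `K`-lines of `V` -/
theorem line {x : G} {c a c' a' d b d' b' : K} (e : x * P.u (vv c a) * x⁻¹ = P.u (vv d b))
    (e' : x * P.u (vv c' a') * x⁻¹ = P.u (vv d' b')) (h0 : c * a' = c' * a) : d * b' = d' * b := by
  by_cases h1 : d ≠ 0 ∨ b ≠ 0
  swap
  · rw [not_or, not_not, not_not] at h1
    simp [h1]
  have h2 : c ≠ 0 ∨ a ≠ 0 := by
    by_contra h2
    rw [not_or, not_not, not_not] at h2
    rw [h2.1, h2.2, show P.u (vv 0 0) = 1 from map_one P.u, mul_one, mul_inv_cancel, ← map_one P.u] at e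
    have := vv_inj (c := 0) (a := 0) (P.inj e)
    exact h1.elim (fun e => e this.1.symm) fun e => e this.2.symm
  refine (h.comm_Cp_iff ho h1).1 fun y hy => ?_
  have := (h.comm_Cp_iff ho h2).2 h0 _ (mem_Cp_conj.1 (e ▸ hy))
  calc y * P.u (vv d' b') = x * (x⁻¹ * y * x * P.u (vv c' a')) * x⁻¹ := by rw [← e']; group
    _ = P.u (vv d' b') * y := by rw [this, ← e']; group

/-- the second Sylow subgroup `S₂ = g S g⁻¹` (`g` from `Out`) normalises `Q'`, centralises `V₆`, and acts on `V` by all lower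
transvections -/
theorem exists_lower (t : K) : ∃ x ∈ Subgroup.normalizer (P.Q' : Set G), (∃ k, x ^ 2 ^ k = 1) ∧
    ∀ c a, x * P.u (vv c a) * x⁻¹ = P.u (vv c (a + t * c)) := by
  obtain ⟨g, hg, -, h2⟩ := id ho
  have hV : ∀ c, ∃ d b, g * P.u (vv d b) * g⁻¹ = P.u (vv c 0) := fun c => by
    obtain ⟨d, b, e⟩ := PC.mem_V.1 (conj_mem_of_normalizes h.normalizer_Q'_le_V (inv_mem hg) (PC.mem_V.2 ⟨c, 0, rfl⟩))
    exact ⟨d, b, by rw [← e]; group⟩
  have key : ∀ s c d b e, g * P.u (vv d b) * g⁻¹ = P.u (vv c 0) → g * P.u (y4 0 (s * b)) * g⁻¹ = P.u (y6 0 e) →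
      g * P.u (x1 s) * g⁻¹ * P.u (vv c 0) * (g * P.u (x1 s) * g⁻¹)⁻¹ = P.u (vv c e) := fun s c d b e e1 e2 =>
    calc _ = g * (P.u (x1 s) * P.u (vv d b) * (P.u (x1 s))⁻¹) * g⁻¹ := by rw [← e1]; group
      _ = g * P.u (vv d b) * g⁻¹ * (g * P.u (y4 0 (s * b)) * g⁻¹) := by
        rw [x1_vv, conj_mul, ← map_mul, ← vv_zero, vv_mul, add_zero]
      _ = _ := by rw [e1, e2, ← map_mul, ← zero_vv, vv_mul, add_zero, zero_add]
  obtain ⟨d, b, e1⟩ := hV 1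
  have hb : b ≠ 0 := by
    rintro rfl
    exact one_ne_zero ((mem_cj_Z h2).1 (e1 ▸ conj_mem_cj (PC.mem_Z.2 ⟨d, rfl⟩)))
  obtain ⟨s, hs⟩ := exists_pre h2 t
  have e2 := key (s / b) 1 d b t e1 (by rwa [div_mul_cancel₀ _ hb])
  refine ⟨g * P.u (x1 (s / b)) * g⁻¹, mul_mem (mul_mem hg (B1_le h (P.S_le_B1 (P.u_mem_S _)))) (inv_mem hg),
    ⟨1, by rw [conj_pow, x1_sq]; simp⟩, fun c a => ?_⟩
  obtain ⟨d', b', e3⟩ := hV c
  obtain ⟨e, he⟩ := h2 (s / b * b')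
  have e4 := key _ c d' b' e e3 he
  have e5 := h.line ho e2 e4 (by simp)
  obtain ⟨f, hf⟩ := exists_pre h2 a
  have e6 : g * P.u (x1 (s / b)) * g⁻¹ * P.u (vv 0 a) * (g * P.u (x1 (s / b)) * g⁻¹)⁻¹ = P.u (vv 0 a) := by
    rw [zero_vv, ← hf, conj_mul, PC.comm_Z (P.u_mem_C _), ← conj_mul, mul_inv_cancel_right]
  calc _ = g * P.u (x1 (s / b)) * g⁻¹ * (P.u (vv c 0) * P.u (vv 0 a)) * (g * P.u (x1 (s / b)) * g⁻¹)⁻¹ := by
        rw [← map_mul, vv_mul, add_zero, zero_add]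
    _ = _ := by rw [← conj_mul, e4, e6, ← map_mul, vv_mul, add_zero, add_comm, mul_comm t, ← e5, one_mul]

end PC.Hyp

end CL.RF
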