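/-
INV library (large Ree groups): a verified collector for words in root elements in characteristic two whose parameters are
polynomials in variables `xᵢ`, `σ xᵢ`.
-/
import Cfsg.Agent.INV.RF.Defs
import Cfsg.Agent.CHEV.Collect
import Cfsg.Agent.CHEV.CentChk

set_option autoImplicit false

namespace CL.RF.Md

open CL.Chev Cfsg.Lie

/-- expressions -/
inductive SE
  | v (i : ℕ)
  | z
  | add (a b : SE)
  | mul (a b : SE)
  | pow (a : SE) (k : ℕ)
  | sg (a : SE)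

instance : Add SE := ⟨SE.add⟩
instance : Mul SE := ⟨SE.mul⟩
instance : Pow SE ℕ := ⟨SE.pow⟩

/-- sum of polynomials (sorted lists of monomials) -/
def padd (p : List ℕ) : List ℕ → List ℕ :=
  List.rec (fun q => q) (fun a p ih q => List.rec (a :: p) (fun b q ih' =>
    bif Nat.beq a b then ih q else bif Nat.ble a b then a :: ih (b :: q) else b :: ih') q) p

/-- product of polynomials -/
def pmul (p q : List ℕ) : List ℕ := List.rec [] (fun a _ ih => padd (q.map (Nat.mul a)) ih) p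

/-- power of a polynomial -/
def ppow (p : List ℕ) (k : ℕ) : List ℕ := Nat.rec [1] (fun _ ih => pmul p ih) k

/-- the primes coding the variables -/
def PR : List ℕ := [2, 3, 5, 7, 11, 13, 17, 19, 23, 29, 31, 37, 41, 43, 47, 53, 59, 61, 67, 71, 73, 79, 83, 89, 97, 101, 103,
  107, 109, 113, 127, 131, 137, 139, 149, 151, 157, 163, 167, 173, 179, 181, 191, 193, 197, 199, 211, 223]

/-- the polynomials of `e` and `σ e` -/
def nf : SE → List ℕ × List ℕ
  | .v i => ([PR.getD (2 * i) 0], [PR.getD (2 * i + 1) 0])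
  | .z => ([], [])
  | .add a b => (padd (nf a).1 (nf b).1, padd (nf a).2 (nf b).2)
  | .mul a b => (pmul (nf a).1 (nf b).1, pmul (nf a).2 (nf b).2)
  | .pow a k => (ppow (nf a).1 k, ppow (nf a).2 k)
  | .sg a => ((nf a).2, (nf a).1.map fun m => Nat.mul m m)

/-- letters -/
abbrev Lt := ℕ × List ℕ

/-- a term of the commutator of `a` and `b` -/
def cmT (a b : Lt) (c : Tm) : Lt :=
  (c.1, bif Nat.beq (c.2.1.natAbs % 2) 0 then [] else pmul (ppow b.2 c.2.2.1) (ppow a.2 c.2.2.2))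

section Col

variable (C : Cert) (n : ℕ) (key : ℕ → ℕ)

/-- one step of the insertion -/
def insStep (rec : Lt → List Lt → List Lt) (a : Lt) (l : List Lt) : List Lt :=
  bif a.2.isEmpty then l else
    List.casesOn l [a] fun b l =>
      bif Nat.blt (key a.1) (key b.1) then a :: b :: l else
      bif Nat.beq a.1 b.1 then rec (a.1, padd a.2 b.2) l else
      bif Nat.blt a.1 n && Nat.blt b.1 n && !(Nat.beq (a.1 + b.1 + 1) n) then
        b :: rec a ((C.fct n b.1 a.1).foldr (fun c l => rec (cmT a b c) l) l)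
      else a :: b :: l

/-- insertion of a letter into a collected word -/
def ins (f : ℕ) : Lt → List Lt → List Lt := Nat.rec List.cons (fun _ ih => insStep C n key ih) f

/-- the collected word -/
def col (w : List (ℕ × SE)) : List Lt := w.foldr (fun a => ins C n key 200 (a.1, (nf a.2).1)) []

/-- two words have the same collected form -/
def colEq (w w' : List (ℕ × SE)) : Bool := col C n key w == col C n key w'

end Col

/-- symbolic elements of `U σ` -/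
structure UE where
  (a1 b2 c2 a3 b4 c4 a5 b6 c6 a7 b8 c8 : SE)

section Spec

variable {K : Type*} [Field K] {σ : K →+* K}

/-- the value of an expression -/
def SE.ev (σ : K →+* K) (xs : List K) : SE → K
  | .v i => xs.getD i 0
  | .z => 0
  | .add a b => a.ev σ xs + b.ev σ xs
  | .mul a b => a.ev σ xs * b.ev σ xs
  | .pow a k => a.ev σ xs ^ k
  | .sg a => σ (a.ev σ xs)

/-- the value of a monomial -/
noncomputable def chi (f : ℕ → K) : ℕ →* K where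
  toFun k := if k = 0 then 0 else k.factorization.prod fun p e => f p ^ e
  map_one' := by simp
  map_mul' a b := by
    rcases eq_or_ne a 0 with rfl | ha
    · simp
    rcases eq_or_ne b 0 with rfl | hb
    · simp
    simp only [ha, hb, mul_ne_zero ha hb, if_false, Nat.factorization_mul ha hb]
    exact Finsupp.prod_add_index' (fun _ => pow_zero _) fun _ _ _ => pow_add _ _ _

/-- the values of the variables -/
def vl (σ : K →+* K) (xs : List K) (j : ℕ) : K := if j % 2 = 0 then xs.getD (j / 2) 0 else σ (xs.getD (j / 2) 0)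

theorem chi_PR {xs : List K} (hx : xs.length ≤ 24) (j : ℕ) :
    chi (fun p => vl σ xs (PR.idxOf p)) (PR.getD j 0) = vl σ xs j := by
  change (if _ then _ else _) = _
  by_cases hj : j < 48
  · obtain ⟨hp, e⟩ := (by decide +kernel : ∀ j < 48, (PR.getD j 0).Prime ∧ PR.idxOf (PR.getD j 0) = j) j hj
    rw [if_neg hp.ne_zero, hp.factorization, Finsupp.prod_single_index (by simp), pow_one]
    exact congrArg _ e
  · rw [if_pos (List.getD_eq_default _ _ (not_lt.1 hj)), vl, List.getD_eq_default _ _ (by omega), map_zero, ite_self]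

variable (χ : ℕ →* K)

/-- the value of a polynomial -/
def evP (p : List ℕ) : K := (p.map χ).sum

theorem evP_cons (a : ℕ) (p : List ℕ) : evP χ (a :: p) = χ a + evP χ p := rfl

theorem evP_padd [CharP K 2] (p q : List ℕ) : evP χ (padd p q) = evP χ p + evP χ q := by
  induction p generalizing q with
  | nil => exact (zero_add _).symm
  | cons a p ih =>
    induction q with
    | nil => exact (add_zero _).symm
    | cons b q ih' =>
      change evP χ (bif Nat.beq a b then padd p q else bif Nat.ble a b then a :: padd p (b :: q) else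
        b :: padd (a :: p) q) = _
      cases h : Nat.beq a b
      · cases Nat.ble a b
        · rw [cond_false, cond_false, evP_cons, ih', evP_cons χ b]; ring
        · rw [cond_false, cond_true, evP_cons, ih, evP_cons χ a]; ring
      · rw [cond_true, ih, evP_cons, evP_cons, Nat.eq_of_beq_eq_true h]
        linear_combination -CharTwo.add_self_eq_zero (χ b)

theorem evP_pmul [CharP K 2] (p q : List ℕ) : evP χ (pmul p q) = evP χ p * evP χ q := by
  induction p with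
  | nil => exact (zero_mul _).symm
  | cons a p ih =>
    change evP χ (padd (q.map (Nat.mul a)) (pmul p q)) = _
    rw [evP_padd, ih, evP_cons, add_mul, add_left_inj, evP, evP, List.map_map, ← List.sum_map_mul_left]
    exact congrArg List.sum (List.map_congr_left fun b _ => map_mul χ a b)

theorem evP_ppow [CharP K 2] (p : List ℕ) (k : ℕ) : evP χ (ppow p k) = evP χ p ^ k := by
  induction k with
  | zero => simp [ppow, evP]
  | succ k ih => exact (evP_pmul χ p _).trans (by rw [pow_succ']; exact congrArg _ ih)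

theorem evP_sq [CharP K 2] (p : List ℕ) : evP χ (p.map fun m => Nat.mul m m) = evP χ p ^ 2 := by
  induction p with
  | nil => simp [evP]
  | cons a p ih => rw [List.map_cons, evP_cons, ih, evP_cons, CharTwo.add_sq, pow_two (χ a), ← map_mul]; rfl

theorem nf_spec [T : Tits σ] {xs : List K} (hχ : ∀ j, χ (PR.getD j 0) = vl σ xs j) (e : SE) :
    evP χ (nf e).1 = e.ev σ xs ∧ evP χ (nf e).2 = σ (e.ev σ xs) := by
  have := T.char
  induction e with
  | v i =>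
    refine ⟨(add_zero _).trans ((hχ _).trans ?_), (add_zero _).trans ((hχ _).trans ?_)⟩
    · rw [vl, if_pos (by omega), show 2 * i / 2 = i by omega]; rfl
    · rw [vl, if_neg (by omega), show (2 * i + 1) / 2 = i by omega]; rfl
  | z => exact ⟨rfl, (map_zero σ).symm⟩
  | add a b ha hb =>
    exact ⟨(evP_padd χ _ _).trans (by rw [ha.1, hb.1]; rfl), (evP_padd χ _ _).trans (by rw [ha.2, hb.2, ← map_add]; rfl)⟩
  | mul a b ha hb =>
    exact ⟨(evP_pmul χ _ _).trans (by rw [ha.1, hb.1]; rfl), (evP_pmul χ _ _).trans (by rw [ha.2, hb.2, ← map_mul]; rfl)⟩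
  | pow a k ha =>
    exact ⟨(evP_ppow χ _ _).trans (by rw [ha.1]; rfl), (evP_ppow χ _ _).trans (by rw [ha.2, ← map_pow]; rfl)⟩
  | sg a ha => exact ⟨ha.2, (evP_sq χ _).trans (by rw [ha.1, ← T.sq]; rfl)⟩

variable {D : ChevalleyDatum} [Good D]

/-- the value of a word -/
noncomputable def evL (D : ChevalleyDatum) [Good D] (l : List Lt) : D.group K := evG D (l.map fun a => (a.1, evP χ a.2))

theorem evL_cons (a : Lt) (l : List Lt) : evL χ D (a :: l) = xN (stG D K).x a.1 (evP χ a.2) * evL χ D l := rfl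

theorem evL_ins [CharP K 2] (key : ℕ → ℕ) (f : ℕ) (a : Lt) (l : List Lt) :
    evL χ D (ins (Good.C D) D.nroots key f a l) = evL χ D (a :: l) := by
  induction f generalizing a l with
  | zero => rfl
  | succ f ih =>
    have h0 : ∀ (L : List Tm) (g : Tm → Lt) (l : List Lt),
        evL χ D (L.foldr (fun c l => ins (Good.C D) D.nroots key f (g c) l) l) =
          (L.map fun c => xN (stG D K).x (g c).1 (evP χ (g c).2)).prod * evL χ D l := fun L g l => by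
      induction L with
      | nil => simp
      | cons c L ih' => rw [List.foldr_cons, ih, evL_cons, ih', List.map_cons, List.prod_cons, mul_assoc]
    change evL χ D (insStep (Good.C D) D.nroots key (ins (Good.C D) D.nroots key f) a l) = _
    unfold insStep
    cases h1 : a.2.isEmpty
    swap
    · rw [cond_true, evL_cons, List.isEmpty_iff.1 h1, show evP χ [] = 0 from rfl, xN_zero, one_mul]
    cases l with
    | nil => rfl
    | cons b l =>
      simp only [cond_false]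
      cases Nat.blt (key a.1) (key b.1)
      swap
      · rfl
      cases h2 : Nat.beq a.1 b.1
      swap
      · simp only [cond_false, cond_true, ih, evL_cons, ← Nat.eq_of_beq_eq_true h2, evP_padd,
          xN_add (stG D K).x_add, mul_assoc]
      cases h3 : Nat.blt a.1 D.nroots && Nat.blt b.1 D.nroots && !(Nat.beq (a.1 + b.1 + 1) D.nroots)
      · rfl
      simp only [Bool.and_eq_true, Nat.blt_eq, Bool.not_eq_true', ← Bool.not_eq_true, Nat.beq_eq] at h3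
      simp only [cond_false, cond_true, evL_cons, ih, h0, ← mul_assoc]
      congr 1
      rw [stG_exact.xN_comm ⟨h3.1.2, h3.1.1, Nat.ne_of_beq_eq_false h2, h3.2, rfl⟩]
      congr 2
      refine List.map_congr_left fun c _ => congrArg (xN (stG D K).x c.1) ?_
      rw [CharTwo.neg_eq, CharP.intCast_eq_intCast_mod K 2, cmT]
      cases h4 : Nat.beq (c.2.1.natAbs % 2) 0
      · rw [cond_false, evP_pmul, evP_ppow, evP_ppow, show c.2.1 % (2 : ℕ) = 1 by
          have := Nat.ne_of_beq_eq_false h4; omega, Int.cast_one, one_mul]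
      · rw [cond_true, show c.2.1 % (2 : ℕ) = 0 by have := Nat.eq_of_beq_eq_true h4; omega, Int.cast_zero, zero_mul,
          zero_mul]; rfl

theorem evG_eq_of_colEq [T : Tits σ] (xs : List K) (hx : xs.length ≤ 24) {key : ℕ → ℕ} {w w' : List (ℕ × SE)}
    (h : colEq (Good.C D) D.nroots key w w' = true) :
    evG D (w.map fun a => (a.1, a.2.ev σ xs)) = evG D (w'.map fun a => (a.1, a.2.ev σ xs)) := by
  have := T.char
  have k : ∀ w : List (ℕ × SE), evL (chi fun p => vl σ xs (PR.idxOf p)) D (col (Good.C D) D.nroots key w) =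
      evG D (w.map fun a => (a.1, a.2.ev σ xs)) := fun w => by
    induction w with
    | nil => rfl
    | cons a w ih =>
      rw [col, List.foldr_cons, evL_ins, evL_cons, (nf_spec _ (chi_PR hx) _).1, List.map_cons, evG_cons, ← ih]; rfl
  rw [← k, ← k, eq_of_beq h]

end Spec

open SE

/-- the product -/
def mulE (g h : UE) : UE where
  a1 := g.a1 + h.a1
  b2 := g.b2 + h.b2 + h.a1 * g.b8
  c2 := g.c2 + h.c2 + h.a1 * g.b4 + sg h.a1 * g.b6 + sg h.b2 * g.b2 + h.a1 * sg h.a1 * g.c8 + h.a1 * sg h.b2 * g.b8 +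
    sg h.a1 * g.b2 * sg g.b8
  a3 := g.a3 + h.a3 + h.b2 * g.b4 + h.c2 * g.b8 + h.a1 * sg g.b6 + sg h.a1 * g.a7 + h.a1 * g.b4 * g.b8 +
    h.b2 * sg h.b2 * g.b8 + sg h.a1 * h.b2 * g.c8 + h.a1 * sg h.a1 * sg g.c8 + h.a1 * sg h.a1 * g.b8 * g.c8 +
    h.a1 * sg h.a1 * g.b8 ^ 2 * sg g.b8
  b4 := g.b4 + h.b4 + sg h.a1 * g.c8 + sg h.b2 * g.b8
  c4 := g.c4 + h.c4 + h.a1 * g.c6 + h.a3 * g.b6 + h.b2 * g.a5 + h.c2 * g.a7 + sg h.a3 * g.b8 + sg h.b4 * g.b4 +
    sg h.c2 * g.c8 + h.a1 * g.a5 * g.b8 + h.a1 * h.a3 * g.c8 + h.b2 * h.c2 * g.c8 + h.c2 * g.b6 * g.b8 +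
    h.a1 * h.b2 * sg g.a7 + h.a1 * h.c2 * sg g.c8 + h.a3 * h.b2 * sg g.b8 + h.b2 * sg h.b2 * g.a7 + sg h.a1 * g.a7 * g.b6 +
    sg h.a1 * sg h.b4 * g.c8 + sg h.b2 * sg h.b4 * g.b8 + h.a1 ^ 2 * g.b4 * sg g.c8 + h.a1 ^ 2 * sg g.a7 * g.b8 +
    h.b2 ^ 2 * g.b4 * sg g.b8 + h.b2 ^ 2 * sg h.b2 * g.c8 + h.a1 * h.a3 * g.b8 * sg g.b8 + h.a1 * sg h.a1 * g.a7 * g.c8 +
    h.b2 * h.c2 * g.b8 * sg g.b8 + h.b2 * sg h.b2 * g.b6 * g.b8 + sg h.a1 * h.b2 * g.b6 * g.c8 +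
    h.a1 * h.b2 * sg h.b2 * sg g.c8 + h.a1 * sg h.a1 * g.b6 * sg g.c8 + sg h.a1 * h.b2 * g.a7 * sg g.b8 +
    h.a1 * sg h.a1 * h.b2 * g.c8 ^ 2 + h.a1 ^ 2 * sg h.a1 * g.c8 * sg g.c8 + h.b2 ^ 2 * sg h.b2 * g.b8 * sg g.b8 +
    sg h.a1 * h.b2 ^ 2 * sg g.b8 * g.c8 + h.a1 * sg h.a1 * g.b6 * g.b8 * g.c8 + h.a1 ^ 2 * sg h.a1 * g.b8 * g.c8 ^ 2 +
    h.a1 * sg h.a1 * g.a7 * g.b8 * sg g.b8 + h.a1 * sg h.a1 * h.b2 * sg g.b8 * sg g.c8 +
    h.a1 * sg h.a1 * g.b6 * g.b8 ^ 2 * sg g.b8 + h.a1 ^ 2 * sg h.a1 * g.b8 ^ 3 * sg g.b8 ^ 2 +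
    h.a1 ^ 2 * sg h.a1 * g.b8 * sg g.b8 * sg g.c8 + h.a1 * sg h.a1 * h.b2 * g.b8 ^ 2 * sg g.b8 ^ 2
  a5 := g.a5 + h.a5 + h.b4 * g.b6 + h.c2 * g.c8 + h.a1 * sg g.a7 + h.a3 * sg g.b8 + sg h.b2 * g.a7 + h.a1 * h.b4 * g.c8 +
    h.b2 * h.b4 * sg g.b8 + h.c2 * g.b8 * sg g.b8 + sg h.a1 * g.b6 * g.c8 + sg h.b2 * g.b6 * g.b8 +
    h.a1 * sg h.b2 * sg g.c8 + sg h.a1 * g.a7 * sg g.b8 + h.a1 * sg h.a1 * g.c8 ^ 2 + h.a1 * h.b4 * g.b8 * sg g.b8 +
    h.a1 * sg h.a1 * sg g.b8 * sg g.c8 + h.a1 * sg h.a1 * g.b8 ^ 2 * sg g.b8 ^ 2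
  b6 := g.b6 + h.b6 + h.a1 * g.c8 + h.b2 * sg g.b8 + h.a1 * g.b8 * sg g.b8
  c6 := g.c6 + h.c6 + h.a3 * g.c8 + h.a5 * g.b8 + h.b4 * g.a7 + h.b2 * sg g.a7 + h.c2 * sg g.c8 + sg h.b6 * g.b6 +
    h.b2 * h.b4 * g.c8 + h.c2 * g.b8 * g.c8 + h.a1 * h.b4 * sg g.c8 + h.a1 * sg g.a7 * g.b8 + h.a1 * sg h.b6 * g.c8 +
    sg h.a1 * g.a7 * g.c8 + sg h.b2 * g.a7 * g.b8 + h.b2 * sg h.b2 * sg g.c8 + h.b2 * sg h.b6 * sg g.b8 +
    sg h.a1 * g.b6 * sg g.c8 + h.c2 * g.b8 ^ 2 * sg g.b8 + sg h.a1 * h.b2 * g.c8 ^ 2 + sg h.b2 * g.b6 * g.b8 ^ 2 +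
    h.a1 * h.b4 * g.b8 * g.c8 + h.a1 * sg h.b2 * g.b8 * sg g.c8 + h.a1 * sg h.b6 * g.b8 * sg g.b8 +
    h.a1 * h.b4 * g.b8 ^ 2 * sg g.b8 + h.a1 * sg h.a1 * g.b8 * g.c8 ^ 2 + sg h.a1 * h.b2 * sg g.b8 * sg g.c8 +
    sg h.a1 * g.b6 * g.b8 ^ 2 * sg g.b8 + h.a1 * sg h.a1 * g.b8 ^ 3 * sg g.b8 ^ 2 +
    sg h.a1 * h.b2 * g.b8 ^ 2 * sg g.b8 ^ 2 + h.a1 * sg h.a1 * g.b8 * sg g.b8 * sg g.c8
  a7 := g.a7 + h.a7 + h.b2 * g.c8 + h.b6 * g.b8 + h.a1 * sg g.c8 + h.a1 * g.b8 * g.c8 + h.a1 * g.b8 ^ 2 * sg g.b8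
  b8 := g.b8 + h.b8
  c8 := g.c8 + h.c8 + sg h.b8 * g.b8

/-- the action of `n₁` -/
def w1E (g : UE) : UE where
  a1 := .z
  b2 := g.b8
  c2 := g.c8
  a3 := g.a7 + g.b2 * g.c8 + g.b6 * g.b8 + g.b2 * g.b8 * sg g.b8
  b4 := g.b6 + g.b2 * sg g.b8
  c4 := g.c6 + g.a3 * g.c8 + g.a5 * g.b8 + g.a7 * g.b4 + g.c2 * sg g.c8 + sg g.a7 * g.b2 + g.b4 * g.b6 * g.b8 +
    g.b8 * g.c2 * g.c8 + g.a3 * g.b8 * sg g.b8 + g.a7 * sg g.b2 * g.b8 + g.b8 ^ 2 * sg g.b8 * g.c2 +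
    sg g.b2 * g.b6 * g.b8 ^ 2 + g.b2 * sg g.b2 * g.b8 * g.c8 + g.b2 * sg g.b2 * g.b8 ^ 2 * sg g.b8
  a5 := g.a5 + g.b4 * g.b6 + g.c2 * g.c8 + g.a3 * sg g.b8 + g.a7 * sg g.b2 + g.b2 * sg g.b2 * g.c8
  b6 := g.b4 + sg g.b2 * g.b8
  c6 := g.c4 + g.a3 * g.b6 + g.a5 * g.b2 + g.a7 * g.c2 + sg g.a3 * g.b8 + sg g.c2 * g.c8 + g.b2 * g.b4 * g.b6 +
    g.b2 * g.c2 * g.c8 + g.a3 * g.b2 * sg g.b8 + g.b8 * sg g.b8 * sg g.c2 + sg g.b2 * sg g.b4 * g.b8 +
    g.b2 ^ 2 * sg g.b2 * g.c8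
  a7 := g.a3 + g.b2 * g.b4 + g.b8 * g.c2
  b8 := g.b2
  c8 := g.c2

/-- the action of `n₈` -/
def w8E (g : UE) : UE where
  a1 := g.a7
  b2 := g.b6
  c2 := g.c6 + g.a7 * g.b4 + sg g.a7 * g.b2
  a3 := g.a5 + g.b4 * g.b6 + g.a1 * sg g.a7 + g.a7 * sg g.b2
  b4 := g.b4
  c4 := g.c4 + g.a1 * g.c6 + g.a3 * g.b6 + g.a5 * g.b2 + g.a7 * g.c2 + g.a1 * g.a7 * g.b4 + g.b2 * g.b4 * g.b6 +
    g.a1 * g.b6 * sg g.b6 + g.a1 * sg g.a7 * g.b2 + sg g.a1 * g.a7 * g.b6
  a5 := g.a3 + g.b2 * g.b4 + g.a1 * sg g.b6 + sg g.a1 * g.a7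
  b6 := g.b2
  c6 := g.c2 + g.a1 * g.b4 + sg g.a1 * g.b6
  a7 := g.a1
  b8 := .z
  c8 := .z

/-- the word of an element -/
def wdE (g : UE) : List (ℕ × SE) :=
  [(33, g.a1), (24, sg g.a1), (34, g.b2), (26, sg g.b2), (36, g.b2 * sg g.b2 + g.c2), (42, sg g.c2), (38, g.a3), (43, sg g.a3),
    (29, g.b4), (41, sg g.b4), (44, g.b4 * sg g.b4 + g.c4), (47, sg g.c4), (39, g.a5), (45, sg g.a5), (35, g.b6), (31, sg g.b6),
    (40, g.b6 * sg g.b6 + g.c6), (46, sg g.c6), (37, g.a7), (32, sg g.a7), (27, g.b8), (25, sg g.b8), (28, g.b8 * sg g.b8 + g.c8),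
    (30, sg g.c8)]

/-- the position of a root -/
def ky (r : ℕ) : ℕ := [33, 24, 34, 26, 36, 42, 38, 43, 29, 41, 44, 47, 39, 45, 35, 31, 40, 46, 37, 32, 27, 25, 28, 30].idxOf r

/-- a generic element -/
def gn (k : ℕ) : UE := ⟨v k, v (k + 1), v (k + 2), v (k + 3), v (k + 4), v (k + 5), v (k + 6), v (k + 7), v (k + 8), v (k + 9),
  v (k + 10), v (k + 11)⟩


theorem chk_mul : colEq certF4 48 ky (wdE (gn 0) ++ wdE (gn 12)) (wdE (mulE (gn 0) (gn 12))) = true := by decide +kernel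

/-- the action of `n₁` on the roots -/
def p1 (r : ℕ) : ℕ := [1, 0, 2, 7, 15, 17, 16, 3, 8, 10, 9, 19, 18, 20, 33, 4, 6, 5, 12, 11, 13, 22, 21, 24, 23, 26, 25, 34, 36,
  35, 42, 41, 43, 14, 27, 29, 28, 38, 37, 39, 44, 31, 30, 32, 40, 45, 47, 46].getD r 0

/-- the action of `n₈` on the roots -/
def p8 (r : ℕ) : ℕ := [0, 5, 4, 3, 2, 1, 6, 11, 9, 8, 14, 7, 13, 12, 10, 23, 21, 30, 18, 28, 27, 16, 25, 15, 32, 22, 31, 20, 19,
  29, 17, 26, 24, 37, 35, 34, 40, 33, 39, 38, 36, 41, 46, 45, 44, 43, 42, 47].getD r 0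

theorem chk_w1 : colEq certF4 48 ky ((wdE { gn 0 with a1 := z }).map fun a => (p1 a.1, a.2))
    (wdE (w1E { gn 0 with a1 := z })) = true := by decide +kernel

theorem chk_w8 : colEq certF4 48 ky ((wdE { gn 0 with b8 := z, c8 := z }).map fun a => (p8 a.1, a.2))
    (wdE (w8E { gn 0 with b8 := z, c8 := z })) = true := by decide +kernel

end CL.RF.Md
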