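/-
INV library (large Ree groups): the relations of the octagon in the Chevalley group `F₄(K)`.
-/
import Cfsg.Agent.INV.RF.ModA
import Cfsg.Agent.CHEV.TwInvF4
import Cfsg.Agent.CHEV.TwSyl

set_option autoImplicit false
set_option linter.unusedSimpArgs false
set_option linter.unusedSectionVars false
set_option backward.isDefEq.respectTransparency false

namespace CL.RF.Md

open CL.Chev Cfsg.Lie U

variable {K : Type*} [Field K] {σ : K →+* K}

/-- the Chevalley group -/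
abbrev Γ (K : Type*) [Field K] := chevF4.group K

/-- root elements -/
noncomputable abbrev X (r : ℕ) (t : K) : Γ K := xN (stG chevF4 K).x r t

/-- `m` acts on the root elements through `π` and `χ` -/
def Ac (m : Γ K) (π : ℕ → ℕ) (χ : ℕ → K) : Prop := ∀ r < 48, π r < 48 ∧ ∀ u, m * X r u * m⁻¹ = X (π r) (χ r * u)

namespace Ac

variable {m m' : Γ K} {π π' : ℕ → ℕ} {χ χ' : ℕ → K}

theorem one : Ac (1 : Γ K) id fun _ => 1 := fun r hr => ⟨hr, fun u => by simp⟩

theorem mul (h : Ac m π χ) (h' : Ac m' π' χ') : Ac (m * m') (fun r => π (π' r)) fun r => χ (π' r) * χ' r := fun r hr =>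
  ⟨(h _ (h' r hr).1).1, fun u => by rw [mul_assoc (χ _), ← (h _ (h' r hr).1).2, ← (h' r hr).2]; group⟩

theorem congr (h : Ac m π χ) (e : ∀ r < 48, π r = π' r) (e' : ∀ r < 48, χ r = χ' r) : Ac m π' χ' := fun r hr =>
  e r hr ▸ e' r hr ▸ h r hr

theorem eq (h : Ac m π χ) (h' : Ac m' π' χ') (e : ∀ r < 48, π r = π' r) (e' : ∀ r < 48, χ r = χ' r) : m = m' :=
  (inv_mul_eq_one.1 (stG_good.eq_one_of_comm stG_adjoint (stG_top.ge trivial) fun r t => by
    have := ((h.congr e e' r r.2).2 t).trans ((h' r r.2).2 t).symm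
    rw [X, xN_val] at this
    calc _ = m'⁻¹ * (m * (stG chevF4 K).x r t * m⁻¹) * m := by group
      _ = _ := by rw [this]; group)).symm

theorem evG (h : Ac m π fun _ => 1) (w : List (ℕ × K)) (hw : ∀ a ∈ w, a.1 < 48) :
    m * evG chevF4 w * m⁻¹ = evG chevF4 (w.map fun a => (π a.1, a.2)) :=
  map_evG (σ := (MulAut.conj m).toMonoidHom) (e := fun _ t => t) w fun a ha => ((h _ (hw a ha)).2 _).trans (by rw [one_mul])

end Ac

theorem ac_n [CharP K 2] (i : Fin 4) :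
    Ac ((stG chevF4 K).n ((rootSys chevF4).simple i) 1) (certF4.rfs i) fun _ => 1 := fun r hr => by
  have e : certF4.rfs i r = ((rootSys chevF4).σ i ⟨r, hr⟩).val := (rf_sm_val' (D := chevF4) i ⟨r, hr⟩).symm
  refine ⟨e ▸ Fin.is_lt _, fun u => ?_⟩
  rw [e, X, X, xN_val, xN_val _ (⟨r, hr⟩ : Rt chevF4), StData.n_conj_simple _ _ _ one_ne_zero, one_zpow]
  rcases (rootSys chevF4).η_pm i ⟨r, hr⟩ with f | f <;> simp [f, CharTwo.neg_eq]

/-- the first reflection -/
noncomputable def N1 (K : Type*) [Field K] : Γ K := (stG chevF4 K).nw ([0, 3] : List (Fin 4))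
/-- the second reflection -/
noncomputable def N8 (K : Type*) [Field K] : Γ K := (stG chevF4 K).nw ([1, 2, 1, 2] : List (Fin 4))

section W

variable [CharP K 2]

theorem ac1 : Ac (N1 K) p1 fun _ => 1 :=
  ((ac_n 0).mul ((ac_n 3).mul Ac.one)).congr (by decide +kernel) (by simp)

theorem ac8 : Ac (N8 K) p8 fun _ => 1 :=
  ((ac_n 1).mul ((ac_n 2).mul ((ac_n 1).mul ((ac_n 2).mul Ac.one)))).congr (by decide +kernel) (by simp)

theorem N1_eq : (stG chevF4 K).nw ([3, 0] : List (Fin 4)) = N1 K :=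
  ((ac_n 3).mul ((ac_n 0).mul Ac.one)).eq ac1 (by decide +kernel) (by simp)

theorem N8_eq : (stG chevF4 K).nw ([2, 1, 2, 1] : List (Fin 4)) = N8 K :=
  ((ac_n 2).mul ((ac_n 1).mul ((ac_n 2).mul ((ac_n 1).mul Ac.one)))).eq ac8 (by decide +kernel) (by simp)

theorem N1_sq : N1 K * N1 K = 1 := (ac1.mul ac1).eq Ac.one (by decide +kernel) (by simp)

theorem N8_sq : N8 K * N8 K = 1 := (ac8.mul ac8).eq Ac.one (by decide +kernel) (by simp)

theorem N1_inv : (N1 K)⁻¹ = N1 K := inv_eq_of_mul_eq_one_right N1_sq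

theorem N8_inv : (N8 K)⁻¹ = N8 K := inv_eq_of_mul_eq_one_right N8_sq

theorem braid : (N1 K * N8 K) ^ 8 = 1 := by
  have a1 := ac1.mul (ac8 (K := K))
  have a2 := a1.mul a1
  have a4 := a2.mul a2
  rw [show 8 = 2 * (2 * 2) from rfl, pow_mul, pow_mul, pow_two, pow_two, pow_two]
  exact (a4.mul a4).eq Ac.one (by decide +kernel) (by simp)

end W

/-- the word of an element -/
def wd (g : U σ) : List (ℕ × K) :=
  [(33, g.a1), (24, σ g.a1), (34, g.b2), (26, σ g.b2), (36, g.b2 * σ g.b2 + g.c2), (42, σ g.c2), (38, g.a3), (43, σ g.a3),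
    (29, g.b4), (41, σ g.b4), (44, g.b4 * σ g.b4 + g.c4), (47, σ g.c4), (39, g.a5), (45, σ g.a5), (35, g.b6), (31, σ g.b6),
    (40, g.b6 * σ g.b6 + g.c6), (46, σ g.c6), (37, g.a7), (32, σ g.a7), (27, g.b8), (25, σ g.b8), (28, g.b8 * σ g.b8 + g.c8),
    (30, σ g.c8)]

/-- the coordinates -/
def co (g : U σ) : List K := [g.a1, g.b2, g.c2, g.a3, g.b4, g.c4, g.a5, g.b6, g.c6, g.a7, g.b8, g.c8]

theorem wd_lt (g : U σ) : ∀ a ∈ wd g, a.1 < 48 := by simp [wd]

variable [T : Tits σ]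

/-- the unipotent subgroup -/
noncomputable def uu : U σ →* Γ K := MonoidHom.mk' (fun g => evG chevF4 (wd g)) fun g h =>
  (evG_eq_of_colEq (σ := σ) (D := chevF4) (co g ++ co h) le_rfl chk_mul).symm.trans (evG_append (wd g) (wd h))

theorem uu_inj : Function.Injective (uu (σ := σ)) := fun g h e => by
  have := coords_inj (D := chevF4) stG_good (L := (wd g).map Prod.fst) (by simp only [wd, List.map]; decide +kernel)
    (by simp only [wd, List.map]; decide +kernel) (by simp only [wd, List.map]; decide +kernel) rfl (w' := wd h) rfl e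
  simp only [wd, List.cons.injEq, Prod.mk.injEq, true_and, σ.injective.eq_iff] at this
  ext <;> simp only [this]

theorem uu_x1 (t : K) : uu (x1 t : U σ) = evG chevF4 [(33, t), (24, σ t)] := by
  simp [uu, wd, evG_cons, xN_zero]

theorem uu_y8 (b c : K) : uu (y8 b c : U σ) = evG chevF4 [(27, b), (25, σ b), (28, b * σ b + c), (30, σ c)] := by
  simp [uu, wd, evG_cons, xN_zero]

theorem N1_uu (g : U σ) (h : g.a1 = 0) : N1 K * uu g * N1 K = uu (w1 g) := by
  have := T.char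
  obtain ⟨a1, b2, c2, a3, b4, c4, a5, b6, c6, a7, b8, c8⟩ := g
  obtain rfl : a1 = 0 := h
  nth_rewrite 2 [← N1_inv]
  exact (ac1.evG _ (wd_lt _)).trans (evG_eq_of_colEq (σ := σ) (D := chevF4)
    [0, b2, c2, a3, b4, c4, a5, b6, c6, a7, b8, c8] (by simp) chk_w1)

theorem N8_uu (g : U σ) (h : g.b8 = 0) (h' : g.c8 = 0) : N8 K * uu g * N8 K = uu (w8 g) := by
  have := T.char
  obtain ⟨a1, b2, c2, a3, b4, c4, a5, b6, c6, a7, b8, c8⟩ := g
  obtain rfl : b8 = 0 := h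
  obtain rfl : c8 = 0 := h'
  nth_rewrite 2 [← N8_inv]
  exact (ac8.evG _ (wd_lt _)).trans (evG_eq_of_colEq (σ := σ) (D := chevF4)
    [a1, b2, c2, a3, b4, c4, a5, b6, c6, a7] (by simp) chk_w8)

theorem N1_x1 (t : K) : N1 K * uu (x1 t : U σ) * N1 K = evG chevF4 [(14, t), (23, σ t)] := by
  have := T.char
  nth_rewrite 2 [← N1_inv]
  rw [uu_x1, ac1.evG _ (by simp)]; rfl

theorem N8_y8 (b c : K) :
    N8 K * uu (y8 b c : U σ) * N8 K = evG chevF4 [(20, b), (22, σ b), (19, b * σ b + c), (17, σ c)] := by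
  have := T.char
  nth_rewrite 2 [← N8_inv]
  rw [uu_y8, ac8.evG _ (by simp)]; rfl

/-- the torus -/
noncomputable def tau (K : Type*) [Field K] : (Fin 4 → Kˣ) →* Γ K :=
  (stG_good (D := chevF4)).tau stG_adjoint

/-- the character of a root -/
def ch (t : Fin 4 → Kˣ) (r : ℕ) : Kˣ :=
  t 0 ^ certF4.wt 0 r * t 1 ^ certF4.wt 1 r * t 2 ^ certF4.wt 2 r * t 3 ^ certF4.wt 3 r

omit T in
theorem ac_tau (t : Fin 4 → Kˣ) : Ac (tau K t) id fun r => ch t r := fun r hr => ⟨hr, fun u => by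
  have := tau_conj_evG (D := chevF4) t [(r, u)] (by simpa using! hr)
  rw [List.map_cons, List.map_nil, prod_wt_F4 t r rfl, evG_cons, evG_cons, evG_nil, mul_one, mul_one] at this
  simpa only [ch, Units.val_mul, Units.val_zpow_eq_zpow_val] using! this⟩

omit T in
theorem N1_tau [CharP K 2] (t : Fin 4 → Kˣ) : N1 K * tau K t * N1 K = tau K ![t 1 / t 0, t 1, t 2, t 2 / t 3] :=
  ((ac1.mul (ac_tau t)).mul ac1).eq (ac_tau _) (by decide +kernel) fun r hr => by
    obtain ⟨a, b, c, d⟩ := (by decide +kernel : ∀ r < 48, certF4.wt 0 (p1 r) = -certF4.wt 0 r ∧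
      certF4.wt 1 (p1 r) = certF4.wt 0 r + certF4.wt 1 r ∧ certF4.wt 2 (p1 r) = certF4.wt 2 r + certF4.wt 3 r ∧
      certF4.wt 3 (p1 r) = -certF4.wt 3 r) r hr
    simp only [one_mul, mul_one, Units.val_inj, ch, a, b, c, d, Matrix.cons_val, zpow_add, zpow_neg, div_zpow,
      div_eq_mul_inv, mul_zpow, inv_zpow]
    simp only [mul_assoc, mul_comm, mul_left_comm]

omit T in
theorem N8_tau [CharP K 2] (t : Fin 4 → Kˣ) :
    N8 K * tau K t * N8 K = tau K ![t 0, t 0 * t 0 * t 3 / t 1, t 0 * t 0 * (t 3 * t 3) / t 2, t 3] :=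
  ((ac8.mul (ac_tau t)).mul ac8).eq (ac_tau _) (by decide +kernel) fun r hr => by
    obtain ⟨a, b, c, d⟩ := (by decide +kernel : ∀ r < 48,
      certF4.wt 0 (p8 r) = certF4.wt 0 r + (certF4.wt 1 r + certF4.wt 1 r) + (certF4.wt 2 r + certF4.wt 2 r) ∧
      certF4.wt 1 (p8 r) = -certF4.wt 1 r ∧ certF4.wt 2 (p8 r) = -certF4.wt 2 r ∧
      certF4.wt 3 (p8 r) = certF4.wt 1 r + (certF4.wt 2 r + certF4.wt 2 r) + certF4.wt 3 r) r hr
    simp only [one_mul, mul_one, Units.val_inj, ch, a, b, c, d, Matrix.cons_val, zpow_add, zpow_neg, div_zpow,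
      div_eq_mul_inv, mul_zpow, inv_zpow]
    simp only [mul_assoc, mul_comm, mul_left_comm]

/-- the parameters of the twisted torus -/
def tt (σ : K →+* K) : Kˣ × Kˣ →* (Fin 4 → Kˣ) := MonoidHom.mk'
  (fun p => ![p.2, p.1 * σu σ p.1, p.1 * p.1 * σu σ p.1, σu σ p.2]) fun p q => by
    funext i
    fin_cases i <;> simp [mul_mul_mul_comm, mul_assoc, mul_left_comm]

/-- the twisted torus -/
noncomputable def hh (σ : K →+* K) : Kˣ × Kˣ →* Γ K := (tau K).comp (tt σ)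

theorem σu_σu (s : Kˣ) : σu σ (σu σ s) = s * s := Units.ext ((T.sq _).trans (pow_two _))

theorem N1_hh (n s : Kˣ) : N1 K * hh σ (n, s) * N1 K = hh σ (n, n * σu σ n / s) := by
  have := T.char
  refine (N1_tau _).trans (congrArg (tau K) (funext fun i => ?_))
  fin_cases i <;> simp [tt, σu_σu, mul_comm]

theorem N8_hh (n s : Kˣ) : N8 K * hh σ (n, s) * N8 K = hh σ (σu σ s / n, s) := by
  have := T.char
  refine (N8_tau _).trans (congrArg (tau K) (funext fun i => ?_))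
  fin_cases i <;> simp [tt, σu_σu, div_eq_mul_inv] <;> simp only [mul_assoc, mul_comm, mul_left_comm]

theorem hh_uu (t : Kˣ × Kˣ) (g : U σ) : hh σ t * uu g * (hh σ t)⁻¹ = uu (tor t g) := by
  refine (map_evG (σ := (MulAut.conj (hh σ t)).toMonoidHom) (ρ := id) (e := fun r u => ch (tt σ t) r * u) (wd g)
    fun a ha => (ac_tau _ _ (wd_lt g a ha)).2 _).trans (congrArg (evG chevF4) ?_)
  have w : ([33, 24, 34, 26, 36, 42, 38, 43, 29, 41, 44, 47, 39, 45, 35, 31, 40, 46, 37, 32, 27, 25, 28, 30].map fun r =>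
      (certF4.wt 0 r, certF4.wt 1 r, certF4.wt 2 r, certF4.wt 3 r)) = [(2, -1, 0, 0), (0, 0, -1, 2), (1, 1, -1, 0),
      (0, -2, 1, 1), (1, -1, 0, 1), (2, 0, -1, 1), (0, 1, -1, 1), (2, -2, 1, 0), (-1, 0, 0, 1), (2, 0, 0, -1), (1, 0, 0, 0),
      (0, 0, 0, 1), (0, -1, 1, 0), (0, 2, -1, 0), (1, -1, 1, -1), (-2, 2, -1, 1), (-1, 1, 0, 0), (0, 0, 1, -1), (0, 1, 0, -1),
      (-2, 0, 1, 0), (-1, 2, -1, 0), (0, -2, 2, -1), (-1, 0, 1, -1), (-2, 2, 0, -1)] := by decide +kernel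
  simp only [List.map_cons, List.map_nil, List.cons.injEq, Prod.mk.injEq] at w
  obtain ⟨n, s⟩ := t
  have h1 := n.ne_zero
  have h2 := s.ne_zero
  have h3 := (map_ne_zero σ).2 h1
  have h4 := (map_ne_zero σ).2 h2
  simp only [wd, List.map_cons, List.map_nil, ch, w, tt, MonoidHom.mk'_apply, Matrix.cons_val, tor_apply, id,
    List.cons.injEq, Prod.mk.injEq, true_and, and_true, Units.val_mul, Units.val_zpow_eq_zpow_val, σu_val, zpow_neg,
    zpow_ofNat, pow_zero, pow_one]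
  usimp
  clear w
  repeat' apply And.intro
  all_goals field_simp

theorem hh_snd (s : Kˣ) : hh σ (1, s) = (stG chevF4 K).h (rF4 33) s * (stG chevF4 K).h (rF4 24) (σ s) := by
  have a := stG_good.tau_mulSingle (S := stG chevF4 K) stG_adjoint (0 : Fin 4) s
  have b := stG_good.tau_mulSingle (S := stG chevF4 K) stG_adjoint (3 : Fin 4) (σu σ s)
  rw [(simple_F4 0).1] at a
  rw [(simple_F4 3).1] at b
  refine Eq.trans ?_ (congrArg₂ (· * ·) a b)
  refine (congrArg (tau K) (funext fun i => ?_)).trans (map_mul (tau K) _ _)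
  fin_cases i <;> simp [tt]

theorem rel1 (t : Kˣ) : N1 K * uu (x1 t : U σ) * N1 K =
    uu (x1 (t⁻¹ : Kˣ) : U σ) * hh σ (1, t⁻¹) * N1 K * uu (x1 (t⁻¹ : Kˣ) : U σ) := by
  have := T.char
  have k : ∀ (r : Rt chevF4) (s : K), (stG chevF4 K).x ((rootSys chevF4).neg r) s = (stG chevF4 K).x r s⁻¹ *
      (stG chevF4 K).h r s⁻¹ * (stG chevF4 K).n r 1 * (stG chevF4 K).x r s⁻¹ := fun r s => by
    have e : (stG chevF4 K).x r s⁻¹ * (stG chevF4 K).x r s⁻¹ = 1 := by
      rw [← StData.x_add, CharTwo.add_self_eq_zero, StData.x_zero]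
    rw [StData.h, StData.n_neg, mul_assoc _ _ (StData.n _ _ 1), inv_mul_cancel_right, StData.n, inv_inv, CharTwo.neg_eq,
      ← mul_assoc, ← mul_assoc, e, one_mul, mul_assoc, e, mul_one]
  have m : ∀ i : Fin 4, (rootSys chevF4).simple i ∈ (rootSys chevF4).sub {i} ∧
      (rootSys chevF4).neg ((rootSys chevF4).simple i) ∈ (rootSys chevF4).sub {i} := fun i =>
    ⟨RootSys.simple_mem_sub_self _ _, RootSys.neg_mem_sub_self _ _⟩
  have c : ∀ {a b}, a ∈ (stG chevF4 K).XS ((rootSys chevF4).sub {(0 : Fin 4)}) →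
      b ∈ (stG chevF4 K).XS ((rootSys chevF4).sub {(3 : Fin 4)}) → ∀ y, b * (a * y) = a * (b * y) := fun ha hb y => by
    rw [← mul_assoc, ← (StData.commute_orth (by decide) (by rw [rootSys_A_F4]; decide) ha hb).eq, mul_assoc]
  have x0 := (stG chevF4 K).x_mem_XS (m 0).1
  have x3 := (stG chevF4 K).x_mem_XS (m 3).1
  have h0 := (stG chevF4 K).h_mem_XS (m 0).1 (m 0).2
  have h3 := (stG chevF4 K).h_mem_XS (m 3).1 (m 3).2
  have n0 := (stG chevF4 K).n_mem_XS (m 0).1 (m 0).2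
  have n3 := (stG chevF4 K).n_mem_XS (m 3).1 (m 3).2
  have k0 := k ((rootSys chevF4).simple (0 : Fin 4)) t
  have k3 := k ((rootSys chevF4).simple (3 : Fin 4)) (σ t)
  rw [(simple_F4 _).2.1] at k0 k3
  have e14 : ∀ u : K, xN _ 14 u = _ := xN_rF4 14
  have e23 : ∀ u : K, xN _ 23 u = _ := xN_rF4 23
  have e33 : ∀ u : K, xN _ 33 u = _ := xN_rF4 33
  have e24 : ∀ u : K, xN _ 24 u = _ := xN_rF4 24
  rw [N1_x1, uu_x1, hh_snd, N1]
  simp only [StData.nw, List.map, List.prod_cons, List.prod_nil, (simple_F4 _).1, Matrix.cons_val] at *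
  simp only [evG_cons, evG_nil, e14, e23, e33, e24, mul_one, k0, k3, mul_assoc, Units.val_inv_eq_inv_val,
    map_inv₀, c (x0 _) (x3 _), c (x0 _) (h3 _), c (x0 _) (n3 _), c (h0 _) (x3 _), c (n0 _) (x3 _), c (n0 _) (h3 _)]

end CL.RF.Md
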