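/-
INV library (large Ree groups): the model.
-/
import Cfsg.Agent.INV.RF.ModB

set_option autoImplicit false
set_option linter.unusedSimpArgs false
set_option linter.unusedSectionVars false
set_option backward.isDefEq.respectTransparency false
set_option maxHeartbeats 200000

namespace CL.RF

open U CL.Chev Cfsg.Lie

section Aux

variable {K : Type*} [Field K] {σ : K →+* K} [T : Tits σ] {r : R8 K} {G : Type*} [Group G]

theorem P81.u_mem (A : P81 σ r G) {M : Subgroup G} (h1 : A.n1 ∈ M) (h8 : A.n8 ∈ M) (hx : ∀ t, A.u (x1 t) ∈ M)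
    (hy : ∀ b c, A.u (y8 b c) ∈ M) (g : U σ) : A.u g ∈ M := by
  have k1 : ∀ {g g'}, A.u g ∈ M → g.a1 = 0 → w1 g = g' → A.u g' ∈ M := fun h e e' =>
    e' ▸ A.n1u _ e ▸ mul_mem (mul_mem h1 h) h1
  have k8 : ∀ {g g'}, A.u g ∈ M → g.b8 = 0 → g.c8 = 0 → w8 g = g' → A.u g' ∈ M := fun h e e0 e' =>
    e' ▸ A.n8u _ e e0 ▸ mul_mem (mul_mem h8 h) h8
  have a2 : ∀ b c, A.u (y2 b c) ∈ M := fun b c => k1 (hy b c) rfl (by usimp)
  have a7 : ∀ t, A.u (x7 t) ∈ M := fun t => k8 (hx t) rfl rfl (by usimp)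
  have a6 : ∀ b c, A.u (y6 b c) ∈ M := fun b c => k8 (a2 b c) rfl rfl (by usimp)
  have a3 : ∀ t, A.u (x3 t) ∈ M := fun t => k1 (a7 t) rfl (by usimp)
  have a4 : ∀ b c, A.u (y4 b c) ∈ M := fun b c => k1 (a6 b c) rfl (by usimp)
  have a5 : ∀ t, A.u (x5 t) ∈ M := fun t => k8 (a3 t) rfl rfl (by usimp)
  rw [eq_prod g]
  simp only [map_mul]
  exact mul_mem (mul_mem (mul_mem (mul_mem (mul_mem (mul_mem (mul_mem (hx _) (a2 _ _)) (a3 _)) (a4 _ _)) (a5 _)) (a6 _ _))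
    (a7 _)) (hy _ _)

theorem OS.exists_lift (A : OS σ r G) {G' : Type*} [Group G'] {j : G' →* G} (hj : Function.Injective j)
    (h : A.grp = j.range) : ∃ B : OS σ r G', B.grp = ⊤ := by
  have mC : A.C ≤ j.range := h ▸ le_sup_of_le_left le_sup_left
  have m2 : ∀ s, A.h2 s ∈ j.range := fun s => h ▸ Subgroup.mem_sup_left (Subgroup.mem_sup_right ⟨s, rfl⟩)
  obtain ⟨n1, e1⟩ : A.n1 ∈ j.range := h ▸ Subgroup.mem_sup_right (Subgroup.mem_zpowers _)
  obtain ⟨n8, e8⟩ := mC A.n8_mem_C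
  have k : ∀ {H : Type _} [Group H] (f : H →* G), (∀ x, f x ∈ j.range) → ∃ f' : H →* G', ∀ x, j (f' x) = f x :=
    fun f hf => ⟨(MonoidHom.ofInjective hj).symm.toMonoidHom.comp (f.codRestrict _ hf), fun x =>
      MonoidHom.apply_ofInjective_symm hj _⟩
  obtain ⟨u, eu⟩ := k A.u fun g => mC (A.u_mem_C g)
  obtain ⟨h1, eh1⟩ := k A.h1 fun g => mC (A.h1_mem_C g)
  obtain ⟨h2, eh2⟩ := k A.h2 m2
  let B : OS σ r G' :=
    { u := u, h1 := h1, n8 := n8, h2 := h2, n1 := n1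
      inj := fun a b e => A.inj (by rw [← eu, e, eu])
      h1u := fun n g => hj (by simpa only [map_mul, map_inv, eu, eh1] using A.h1u n g)
      n8n8 := hj (by simpa only [map_mul, map_one, e8] using A.n8n8)
      n8u := fun g a b => hj (by simpa only [map_mul, eu, e8] using A.n8u g a b)
      n8h1 := fun n => hj (by simpa only [map_mul, eh1, e8] using A.n8h1 n)
      r8 := fun p a => hj (by simpa only [map_mul, eu, eh1, e8] using A.r8 p a)
      h12 := fun n s => hj (by simpa only [map_mul, eh1, eh2] using A.h12 n s)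
      h2u := fun n g => hj (by simpa only [map_mul, map_inv, eu, eh2] using A.h2u n g)
      n8h2 := fun s => hj (by simpa only [map_mul, eh1, eh2, e8] using A.n8h2 s)
      n1n1 := hj (by simpa only [map_mul, map_one, e1] using A.n1n1)
      n1u := fun g a => hj (by simpa only [map_mul, eu, e1] using A.n1u g a)
      n1h1 := fun n => hj (by simpa only [map_mul j, eh1, eh2, e1] using A.n1h1 n)
      n1h2 := fun n => hj (by simpa only [map_mul, eh2, e1] using A.n1h2 n)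
      r1 := fun t => hj (by simpa only [map_mul, eu, eh2, e1] using A.r1 t)
      braid := hj (by simpa only [map_mul, map_pow, map_one, e1, e8] using A.braid) }
  refine ⟨B, eq_top_iff.2 fun x _ => (Subgroup.mem_map_iff_mem hj).1 ?_⟩
  have m : ∀ {y}, y ∈ B.grp → j y ∈ B.grp.map j := fun hy => Subgroup.mem_map_of_mem j hy
  have mB : B.C ≤ B.grp := le_sup_of_le_left le_sup_left
  refine (show A.grp ≤ B.grp.map j from sup_le (sup_le (A.C_le (fun g => eu g ▸ m (mB (B.u_mem_C g)))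
    (fun n => eh1 n ▸ m (mB (B.h1_mem_C n))) (e8 ▸ m (mB B.n8_mem_C))) ?_) (Subgroup.zpowers_le.2 ?_)) (h.ge ⟨x, rfl⟩)
  · rintro _ ⟨s, rfl⟩
    exact eh2 s ▸ m (Subgroup.mem_sup_left (Subgroup.mem_sup_right ⟨s, rfl⟩))
  · exact e1 ▸ m (Subgroup.mem_sup_right (Subgroup.mem_zpowers _))

namespace Md

omit T in
theorem N1_def : N1 K = (stG chevF4 K).nw ([0, 3] : List (Fin 4)) := rfl

omit T in
theorem N8_def : N8 K = (stG chevF4 K).nw ([1, 2, 1, 2] : List (Fin 4)) := rfl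

omit T in
theorem hh_def (p : Kˣ × Kˣ) : hh σ p = (stG_good (D := chevF4)).tau stG_adjoint (tt σ p) := rfl

attribute [local irreducible] N1 N8 hh uu

variable {m : ℕ} {Tw : (stG chevF4 K).Twist (Fin 2)} {θ : K →+* K}
  (h : StData.Twist.IsF4 (R := rootSys chevF4) Tw m θ (rF4 28) (rF4 30)) (hσ : ∀ t, σ t = θ t ^ 2)
include h hσ

theorem σθ (t : K) : σ (θ t) = t := (hσ _).trans (h.θθ t)

theorem θσ (t : K) : θ (σ t) = t := by rw [hσ, map_pow, h.θθ]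

theorem mem_Tσ {t : Fin 4 → Kˣ} : t ∈ Tw.Tσ ↔ ∃ p, tt σ p = t := by
  rw [h.mem_Tσ]
  constructor
  · rintro ⟨a, b⟩
    have a' : σu σ (t 0) = t 3 := Units.ext ((congrArg σ a).trans (σθ h hσ _))
    have b' : σu σ (t 1) = t 2 := Units.ext ((congrArg σ b).trans (σθ h hσ _))
    refine ⟨(t 2 / t 1, t 0), funext fun i => ?_⟩
    fin_cases i <;> simp [tt, ← a', ← b', σu_σu, div_eq_mul_inv, mul_assoc, mul_comm, mul_left_comm]
  · rintro ⟨p, rfl⟩
    refine ⟨(θσ h hσ _).symm, (θσ h hσ _).symm.trans (congrArg θ ?_)⟩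
    simp [tt, T.sq, pow_two, mul_comm]

theorem mem_pos {g : Γ K} (hg : g ∈ (stG chevF4 K).XS (Tw.pos 1) ⊓ Tw.Fix) : ∃ p : K × K, g = uu (y8 p.1 p.2 : U σ) := by
  obtain ⟨t, u, rfl⟩ := (h.mem_pos_one stG_good).1 hg
  refine ⟨(θ t, u), ?_⟩
  rw [uu_y8, σθ h hσ, hσ, (simple_F4 1).1, (simple_F4 2).1]
  simp only [evG_cons, evG_nil, mul_one, mul_assoc, ← xN_rF4]
  rfl

variable {M : Subgroup (Γ K)} (hM : Tw.IsTw M) (hgen : M ≤ ((stG chevF4 K).U ⊓ Tw.Fix) ⊔ ((stG chevF4 K).V ⊓ Tw.Fix))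
include hM hgen

theorem mem_H {g : Γ K} : g ∈ (stG chevF4 K).H ⊓ Tw.Fix ↔ ∃ p, hh σ p = g := by
  rw [Tw.H_inf_Fix stG_good stG_adjoint (d := 0) (e := 1) (by decide) (fun _ => rfl) fun z => h.eq_one]
  constructor
  · rintro ⟨t, ht, rfl⟩
    obtain ⟨p, rfl⟩ := (mem_Tσ h hσ).1 ht
    exact ⟨p, hh_def p⟩
  · rintro ⟨p, rfl⟩
    exact ⟨_, (mem_Tσ h hσ).2 ⟨p, rfl⟩, (hh_def p).symm⟩

theorem hh_mem (p : Kˣ × Kˣ) : hh σ p ∈ M :=
  hh_def (σ := σ) p ▸ h.tau_mem stG_good hM stG_adjoint hgen ((mem_Tσ h hσ).2 ⟨p, rfl⟩)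

theorem mem_of_N {g : Γ K} (hg : g ∈ (stG chevF4 K).N) (hf : g ∈ Tw.Fix) : g ∈ M := by
  obtain ⟨w, hw⟩ := (stG chevF4 K).exists_acts_of_mem_N hg
  obtain ⟨n, hn, ha⟩ := hM.exists_acts stG_good (Tw.mem_W1_of_acts stG_good hg hf hw)
  obtain ⟨p, e⟩ := (mem_H h hσ hM hgen).1 ⟨stG_good.mem_H_of_acts_one (mul_mem hg (inv_mem hn.1))
    (by simpa using hw.mul ha.inv), Tw.Fix.mul_mem hf (Tw.Fix.inv_mem (hM.le_fix hn.2))⟩
  simpa [e] using M.mul_mem (hh_mem h hσ hM hgen p) hn.2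

theorem N1_mem : N1 K ∈ M := by
  have := T.char
  refine mem_of_N h hσ hM hgen (N1_def (K := K) ▸ StData.nw_mem_N _ _) (Tw.mem_Fix.2 ?_)
  rw [N1_def, Tw.map_nw, ← N1_def, ← N1_eq, show List.map Tw.π _ = _ from List.map_congr_left fun i _ => h.π i]
  rfl

theorem N8_mem : N8 K ∈ M := by
  have := T.char
  refine mem_of_N h hσ hM hgen (N8_def (K := K) ▸ StData.nw_mem_N _ _) (Tw.mem_Fix.2 ?_)
  rw [N8_def, Tw.map_nw, ← N8_def, ← N8_eq, show List.map Tw.π _ = _ from List.map_congr_left fun i _ => h.π i]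
  rfl

theorem acts8 : (stG chevF4 K).Acts (N8 K) (Tw.w 1) := by
  have := T.char
  obtain ⟨w, hw, ha⟩ := (stG chevF4 K).exists_acts_of_mem_NJ (J := Tw.J 1) ((stG chevF4 K).nw_mem_NJ
    (l := ([1, 2, 1, 2] : List (Fin 4))) (by rw [h.J1]; simp))
  rw [← N8_def] at ha
  rcases RootSys.Sym.eq_one_or_w (Tw.mem_W1_of_acts stG_good (N8_def (K := K) ▸ StData.nw_mem_N _ _)
    (hM.le_fix (N8_mem h hσ hM hgen)) ha) hw with rfl | rfl
  · obtain ⟨-, c, -, e⟩ := ha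
    have e' := (xN_rF4 20 _).symm.trans (((ac8 27 (by decide)).2 (1 : K)).symm.trans
      ((congrArg (N8 K * · * _) (xN_rF4 27 1)).trans (e (rF4 27) 1)))
    exact absurd (congrArg Fin.val (stG_good.eq_of_x_eq (by simp) e')) (by decide)
  · exact ha

theorem rel8 (hy : ∀ b c, uu (y8 b c : U σ) ∈ M) (p : K × K) (hp : p ≠ 0) : ∃ x : (K × K) × Kˣ × (K × K),
    N8 K * uu (y8 p.1 p.2 : U σ) * N8 K =
      uu (y8 x.1.1 x.1.2 : U σ) * hh σ (x.2.1, 1) * N8 K * uu (y8 x.2.2.1 x.2.2.2 : U σ) := by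
  have := T.char
  have n8 := N8_mem h hσ hM hgen
  have ng : ∀ (a b : Fin 48) (u : K), rF4 a ∈ [(rootSys chevF4).simple (1 : Fin 4), (rootSys chevF4).simple (2 : Fin 4),
      rF4 28, rF4 30] → (rootSys chevF4).neg (rF4 a) = rF4 b → X b u ∈ (stG chevF4 K).XS (Tw.ngt 1) := fun a b u e e' => by
    rw [X, xN_rF4, ← e']
    exact (stG chevF4 K).x_mem_XS (Tw.neg_mem_ngt.2 ((h.mem_pos _).1 e)) _
  obtain ⟨x, hx, n, hn, ha, y, hy', e⟩ := hM.exists_rank_one stG_good (a := 1)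
    (M.mul_mem (M.mul_mem n8 (hy p.1 p.2)) n8) (by
      rw [N8_y8]
      exact mul_mem (ng 27 20 _ (by decide +kernel) (by decide +kernel)) (mul_mem (ng 25 22 _ (by decide +kernel)
        (by decide +kernel)) (mul_mem (ng 28 19 _ (by decide +kernel) (by decide +kernel))
          (mul_mem (ng 30 17 _ (by decide +kernel) (by decide +kernel)) (one_mem _))))) fun e => by
      nth_rewrite 2 [← N8_inv] at e
      have := uu_inj ((conj_eq_one_iff.1 e).trans (map_one _).symm)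
      exact hp (Prod.ext (congrArg U.b8 this) (congrArg U.c8 this))
  obtain ⟨a, rfl⟩ := mem_pos h hσ ⟨hx.1, hM.le_fix hx.2⟩
  obtain ⟨b, rfl⟩ := mem_pos h hσ ⟨hy'.1, hM.le_fix hy'.2⟩
  obtain ⟨⟨s, t⟩, e'⟩ := (mem_H h hσ hM hgen).1 ⟨stG_good.mem_H_of_acts_one (mul_mem hn.1
    (inv_mem (N8_def (K := K) ▸ StData.nw_mem_N _ _)))
    (by simpa using ha.mul (acts8 h hσ hM hgen).inv), hM.le_fix (M.mul_mem hn.2 (M.inv_mem n8))⟩
  obtain rfl : hh σ (s, t) * N8 K = n := eq_mul_inv_iff_mul_eq.1 e'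
  have c1 : ∀ q : K × K, Commute (uu (y8 q.1 q.2 : U σ)) (uu (y4 0 1 : U σ)) := fun q =>
    Commute.map (show (y8 q.1 q.2 * y4 0 1 : U σ) = y4 0 1 * y8 q.1 q.2 by usimp) uu
  have c2 : Commute (N8 K) (uu (y4 0 1 : U σ)) := by
    have := N8_uu (y4 0 1 : U σ) rfl rfl
    nth_rewrite 2 [← N8_inv] at this
    exact mul_inv_eq_iff_eq_mul.1 (this.trans (congrArg uu (by usimp)))
  have c3 := (((c1 a).inv_left.mul_left (e ▸ (c2.mul_left (c1 p)).mul_left c2)).mul_left (c1 b).inv_left).mul_left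
    c2.inv_left
  simp only [mul_assoc, inv_mul_cancel_left, mul_inv_cancel_left, mul_inv_cancel, mul_one] at c3
  have c4 := congrArg U.c4 (uu_inj ((hh_uu _ _).symm.trans (mul_inv_eq_iff_eq_mul.2 c3.eq)))
  obtain rfl : t = 1 := Units.ext (by simpa using c4)
  exact ⟨(a, s, b), by rw [e, mul_assoc _ _ (N8 K)]⟩

omit h hσ hM hgen in
/-- the relations in the Chevalley group -/
noncomputable def os (hr : ∀ p : K × K, p ≠ 0 → N8 K * uu (y8 p.1 p.2 : U σ) * N8 K = uu (y8 (r p).1.1 (r p).1.2 : U σ) *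
    hh σ ((r p).2.1, 1) * N8 K * uu (y8 (r p).2.2.1 (r p).2.2.2 : U σ)) : OS σ r (Γ K) :=
  have := T.char
  { u := uu, h1 := (hh σ).comp (.inl _ _), n8 := N8 K, h2 := (hh σ).comp (.inr _ _), n1 := N1 K
    inj := uu_inj, h1u := fun n g => hh_uu _ g, n8n8 := N8_sq, n8u := N8_uu
    n8h1 := fun n => (N8_hh n 1).trans (by simp), r8 := hr
    h12 := fun n s => (Commute.all (n, (1 : Kˣ)) (1, s)).map (hh σ)
    h2u := fun s g => hh_uu _ g
    n8h2 := fun s => (N8_hh 1 s).trans (by simp [← map_mul])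
    n1n1 := N1_sq, n1u := N1_uu
    n1h1 := fun n => (N1_hh n 1).trans (by simp [← map_mul])
    n1h2 := fun s => (N1_hh 1 s).trans (by simp), r1 := rel1, braid := braid }

omit hM hgen

theorem ev_x1 (t : K) : evG chevF4 (f4PairWord (2 ^ m) f4p1 f4p4 t) = uu (x1 (θ t) : U σ) := by
  rw [uu_x1, σθ h hσ, h.θ_eq]; rfl

theorem ev_y8 (t u : K) : evG chevF4 (b2ClassWord (2 ^ m) f4a f4b f4ab f4aab t u) = uu (y8 (θ t) u : U σ) := by
  rw [uu_y8, σθ h hσ, hσ, h.θ_eq, h.θ_eq, ← pow_succ, ← pow_mul, mul_comm]; rfl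

theorem ev_x1' (t : K) : evG chevF4 (f4PairWord (2 ^ m) f4m1 f4m4 t) = N1 K * uu (x1 (θ t) : U σ) * N1 K := by
  rw [N1_x1, σθ h hσ, h.θ_eq]; rfl

theorem ev_y8' (t u : K) :
    evG chevF4 (b2ClassWord (2 ^ m) f4ma f4mb f4mab f4maab t u) = N8 K * uu (y8 (θ t) u : U σ) * N8 K := by
  rw [N8_y8, σθ h hσ, hσ, h.θ_eq, h.θ_eq, ← pow_succ, ← pow_mul, mul_comm]; rfl

theorem exists_os (hM : Tw.IsTw (jG chevF4 (f4Words K (2 ^ m))).range) (hgen : (jG chevF4 (f4Words K (2 ^ m))).range ≤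
    ((stG chevF4 K).U ⊓ Tw.Fix) ⊔ ((stG chevF4 K).V ⊓ Tw.Fix)) :
    ∃ (r : R8 K) (A : OS σ r (Γ K)), A.grp = (jG chevF4 (f4Words K (2 ^ m))).range := by
  have hx : ∀ t, uu (x1 t : U σ) ∈ (jG chevF4 (f4Words K (2 ^ m))).range := fun t => by
    rw [← θσ h hσ t, ← ev_x1 h hσ]
    exact evG_mem_range (.inl ⟨_, .inl rfl⟩)
  have hy : ∀ b c, uu (y8 b c : U σ) ∈ (jG chevF4 (f4Words K (2 ^ m))).range := fun b c => by
    rw [← θσ h hσ b, ← ev_y8 h hσ]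
    exact evG_mem_range (.inr ⟨_, _, .inl rfl⟩)
  choose! r hr using rel8 h hσ hM hgen hy
  have mC : (os hr).C ≤ (os hr).grp := le_sup_of_le_left le_sup_left
  have m1 : N1 K ∈ (os hr).grp := Subgroup.mem_sup_right (Subgroup.mem_zpowers _)
  have m8 : N8 K ∈ (os hr).grp := mC (os hr).n8_mem_C
  have mu : ∀ g : U σ, uu g ∈ (os hr).grp := fun g => mC ((os hr).u_mem_C g)
  have n1 := N1_mem h hσ hM hgen
  have n8 := N8_mem h hσ hM hgen
  refine ⟨r, os hr, le_antisymm (sup_le (sup_le ((os hr).C_le ((os hr).u_mem n1 n8 hx hy)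
    (fun n => hh_mem h hσ hM hgen _) n8) ?_) (Subgroup.zpowers_le.2 n1)) (range_jG_le ?_)⟩
  · rintro _ ⟨s, rfl⟩
    exact hh_mem h hσ hM hgen _
  rintro _ (⟨t, rfl | rfl⟩ | ⟨t, u, rfl | rfl⟩)
  · rw [ev_x1 h hσ]; exact mu _
  · rw [ev_x1' h hσ]; exact mul_mem (mul_mem m1 (mu _)) m1
  · rw [ev_y8 h hσ]; exact mu _
  · rw [ev_y8' h hσ]; exact mul_mem (mul_mem m8 (mu _)) m8

end Md

end Aux

/-- The twisted group `²F₄(q)` satisfies the relations of the octagon. -/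
theorem exists_OS {K : Type*} [Field K] [Finite K] {m : ℕ} (hK : Nat.card K = 2 ^ (2 * m + 1)) :
    ∃ (σ : K →+* K) (_ : Tits σ) (r : R8 K) (A : OS σ r (Cfsg.Lie.twistedF4 K (2 ^ m))), A.grp = ⊤ ∧ Odd A.S.index := by
  obtain ⟨Tw, θ, h, -, hM, hgen⟩ := exists_twist_F4 hK
  have := h.charP
  obtain ⟨σ, hσ⟩ : ∃ σ : K →+* K, ∀ t, σ t = θ t ^ 2 := ⟨(frobenius K 2).comp θ, fun _ => rfl⟩
  have T : Tits σ := ⟨this, fun t => by rw [hσ, hσ, map_pow, h.θθ]⟩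
  obtain ⟨r, A, hA⟩ := Md.exists_os h hσ hM hgen
  obtain ⟨B, hB⟩ := A.exists_lift (jG_injective (f4Words K (2 ^ m))) hA
  refine ⟨σ, T, r, B, hB, ?_⟩
  have c1 := B.S.index_mul_card
  rw [show Nat.card B.S = _ from (Nat.card_congr (MonoidHom.ofInjective B.inj).toEquiv).symm, U.card_eq, hK] at c1
  have c2 := (card_range_jG _).symm.trans (h.card_eq stG_good hM stG_adjoint hgen (by simp [chevF4]))
  have q : Even (2 ^ (2 * m + 1)) := by simp [Nat.even_pow]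
  have q0 : 0 < 2 ^ (2 * m + 1) := by positivity
  have c3 := c1.trans c2
  generalize 2 ^ (2 * m + 1) = n at c3 q q0
  rw [Nat.eq_of_mul_eq_mul_right (pow_pos q0 12) (c3.trans
    (show _ = ((n - 1) * (n ^ 3 + 1) * (n ^ 4 - 1) * (n ^ 6 + 1)) * n ^ 12 by ring))]
  have e : ∀ k, Even (n ^ (k + 1)) := fun k => q.pow_of_ne_zero k.succ_ne_zero
  exact (((Nat.Even.sub_odd q0 q odd_one).mul (e 2).add_one).mul
    (Nat.Even.sub_odd (pow_pos q0 4) (e 3) odd_one)).mul (e 5).add_one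

end CL.RF
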