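/-
INV library (large Ree groups): construction of `n₁` (`q > 2`).
-/
import Cfsg.Agent.INV.RF.Fus
import Cfsg.Agent.INV.RF.N1a
import Cfsg.Agent.SOLV.Coprime

set_option autoImplicit false
set_option linter.unusedSimpArgs false
set_option linter.unusedSectionVars false

namespace CL.RF

open U

variable {K : Type*} [Field K] {σ : K →+* K} [T : Tits σ] {r : R8 K} {G : Type*} [Group G]

open Br

namespace N1

variable [Finite K] [Finite G] {P : P8 σ r G}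

theorem h_vv (P : P8 σ r G) (t : Kˣ × Kˣ) (c a : K) :
    P.h t * P.u (vv c a) * (P.h t)⁻¹ = P.u (vv (t.2 * c) (t.1 * σ t.1 / t.2 * a)) := by
  rw [P.hu]; congr 1; rw [tor_apply]; vsimp

theorem conj_mem_Q' (g : U σ) {x : G} (hx : x ∈ P.Q') : P.u g * x * (P.u g)⁻¹ ∈ P.Q' := by
  have := T.char
  obtain ⟨k, hk, rfl⟩ := PC.mem_Q'.1 hx
  rw [← map_inv, ← map_mul, ← map_mul, PC.u_mem_Q', mul_a1, mul_a1, inv_a1, hk]
  grind

theorem u_mem_normalizer (g : U σ) : P.u g ∈ Subgroup.normalizer (P.Q' : Set G) :=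
  Subgroup.mem_normalizer_iff.2 fun x => ⟨conj_mem_Q' g, fun hx => by simpa [mul_assoc] using conj_mem_Q' g⁻¹ hx⟩

theorem h_mem_normalizer (t : Kˣ × Kˣ) : P.h t ∈ Subgroup.normalizer (P.Q' : Set G) := by
  have key : ∀ t : Kˣ × Kˣ, ∀ x ∈ P.Q', P.h t * x * (P.h t)⁻¹ ∈ P.Q' := fun t x hx => by
    obtain ⟨k, hk, rfl⟩ := PC.mem_Q'.1 hx
    rw [P.hu, PC.u_mem_Q', tor_apply, tr_a1, hk, mul_zero]
  exact Subgroup.mem_normalizer_iff.2 fun x => ⟨key t x, fun hx => by simpa [mul_assoc] using key t⁻¹ _ hx⟩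

theorem comm_of_mem {x : G} (hx : x ∈ P.Q') (c a : K) : x * P.u (vv c a) = P.u (vv c a) * x := by
  obtain ⟨k, hk, rfl⟩ := PC.mem_Q'.1 hx
  rw [← mul_inv_eq_iff_eq_mul, ← map_inv, ← map_mul, ← map_mul, conj_vv, hk, zero_mul, add_zero]

/-- coprime action on a coset of `Q'` -/
theorem exists_fix (φ : Kˣ →* Kˣ × Kˣ) {x : G} (hx : x ∈ Subgroup.normalizer (P.Q' : Set G))
    (hc : ∀ m, P.h (φ m) * x * (P.h (φ m))⁻¹ * x⁻¹ ∈ P.Q') : ∃ s ∈ P.Q', ∀ m, x * s * P.h (φ m) = P.h (φ m) * (x * s) := by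
  have hp : IsPGroup 2 P.Q' := P.isPGroup_S.to_le fun _ ⟨g, _, e⟩ => ⟨g, e⟩
  obtain ⟨k, hk⟩ := IsPGroup.iff_card.1 hp
  have := hp.isNilpotent
  obtain ⟨s, hs, e⟩ := CL.coprime_fixed_point_quotient (P.h.comp φ).range P.Q' (fun _ ⟨m, e⟩ => e ▸ h_mem_normalizer _)
    (by
      rw [hk]
      exact Nat.Coprime.pow_right _ (Nat.coprime_two_right.2
        (Odd.of_dvd_nat (Tits.odd_units σ) (Subgroup.card_range_dvd _)))) (Or.inr inferInstance) x hx
    fun _ ⟨m, e⟩ => e ▸ hc m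
  exact ⟨s, hs, fun m => (e _ ⟨m, rfl⟩).symm⟩

theorem mem_normalizer_S (h : P.Hyp) {x : G} (hx : ∀ c a, x * P.u (vv c a) = P.u (vv c a) * x) :
    x ∈ Subgroup.normalizer (P.S : Set G) := by
  have key : ∀ x : G, (∀ c a, x * P.u (vv c a) = P.u (vv c a) * x) → ∀ y ∈ P.S, x * y * x⁻¹ ∈ P.S := by
    rintro x hx _ ⟨g, rfl⟩
    obtain ⟨k, hk⟩ := Tits.isPGroup_U σ g
    refine PC.mem_S_of_two (PC.mem_B1_of_conj_V (c := 0) ((Subgroup.mem_normalizer_iff.1 (h.norm x (hx 1 0)) _).1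
      (P.u_mem_C g)) one_ne_zero (PC.mem_V.2 ⟨0 + g.a1 * 1, 1, ?_⟩)) (k := k) (by rw [conj_pow, ← map_pow, hk]; simp)
    have e := congrArg P.u (conj_vv g 0 1)
    rw [map_mul, map_mul, map_inv] at e
    have e1 : x⁻¹ * P.u (vv 0 1) * x = P.u (vv 0 1) := by rw [mul_assoc, ← hx, inv_mul_cancel_left]
    calc _ = x * (P.u g * (x⁻¹ * P.u (vv 0 1) * x) * (P.u g)⁻¹) * x⁻¹ := by group
      _ = _ := by rw [e1, e, hx, mul_inv_cancel_right]
  exact Subgroup.mem_normalizer_iff.2 fun y => ⟨key x hx y, fun hy => by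
    simpa [mul_assoc] using key x⁻¹ (fun c a => by rw [inv_mul_eq_iff_eq_mul, ← mul_assoc, hx, mul_inv_cancel_right]) _ hy⟩

theorem mem_Q' (h : P.Hyp) (hq : 2 < Nat.card K) {x : G} (hx : ∀ c a, x * P.u (vv c a) = P.u (vv c a) * x) :
    x ∈ P.Q' := by
  have hS := mem_normalizer_S h hx
  obtain ⟨s, hs, hd⟩ := exists_fix (P := P) (MonoidHom.inl _ _) (h.normalizer_S_le_Q' hS) fun m => by
    rw [MonoidHom.inl_apply]
    refine PC.mem_Q'_of_comm (c := 0) ?_ one_ne_zero ?_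
    · rw [mul_assoc, mul_assoc, ← mul_assoc x, h_fst]
      exact mul_mem (P.h1_mem_C _) ((Subgroup.mem_normalizer_iff.1 (h.norm x (hx 1 0)) _).1 (inv_mem (P.h1_mem_C _)))
    · have e1 : x⁻¹ * P.u (vv 0 1) * x = P.u (vv 0 1) := by rw [mul_assoc, ← hx, inv_mul_cancel_left]
      have e2 := h_vv P (m, 1)⁻¹ 0 1
      rw [map_inv, inv_inv] at e2
      rw [← mul_inv_eq_iff_eq_mul]
      calc _ = P.h (m, 1) * (x * ((P.h (m, 1))⁻¹ * (x⁻¹ * P.u (vv 0 1) * x) * P.h (m, 1)) * x⁻¹) * (P.h (m, 1))⁻¹ := by group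
        _ = _ := by rw [e1, e2, hx, mul_inv_cancel_right, ← e2]; group
  have hsS : s ∈ P.S := by obtain ⟨g, -, rfl⟩ := hs; exact ⟨g, rfl⟩
  have hd' := mul_mem hS (Subgroup.le_normalizer hsS)
  obtain ⟨t, ht⟩ := h.scalar hd' fun n => by simpa only [MonoidHom.inl_apply, h_fst] using hd n
  have h1 : x * s * (P.h t)⁻¹ ∈ P.S := by
    refine h.mem_S_of_triv hq (mul_mem hd' (inv_mem (h_mem_normalizer_S P t))) fun g g' e => ?_
    have := ht (tor t⁻¹ g) g' (by rw [← e, ← P.hu, map_inv]; simp only [mul_inv_rev, inv_inv, mul_assoc])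
    rwa [← MulAut.mul_apply, ← map_mul, mul_inv_cancel, map_one, MulAut.one_apply] at this
  have h2 : ∀ c a, x * s * P.u (vv c a) = P.u (vv c a) * (x * s) := fun c a => by
    rw [mul_assoc, comm_of_mem hs, ← mul_assoc, hx, mul_assoc]
  have h3 : t.2 = 1 := by
    have e := PC.comm_Z (P.S_le_C h1) (t.2 * 1)
    rw [← h_conj_Z] at e
    simp only [mul_assoc, inv_mul_cancel_left] at e
    rw [← mul_assoc, ← mul_assoc, ← vv_zero, h2, ← mul_assoc (P.h t), ← mul_assoc (P.h t * _), mul_assoc (P.u _),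
      mul_assoc x, mul_left_inj, vv_zero, h_conj_Z] at e
    exact Units.ext (by simpa using (congrArg U.c4 (P.inj e)).symm)
  have h4 : x * s ∈ P.C := by
    have := mul_mem (P.S_le_C h1) (P.h1_mem_C t.1)
    rwa [P8.h_apply, h3, map_one, mul_one, inv_mul_cancel_right] at this
  simpa using mul_mem (PC.mem_Q'_of_comm h4 one_ne_zero (h2 0 1)) (inv_mem hs)

/-- `x` acts on `V` by a matrix and centralises the scalars -/
structure Act (P : P8 σ r G) (x : G) (p q p' q' : K) : Prop where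
  act : ∀ c a, x * P.u (vv c a) = P.u (vv (p * c + q * a) (p' * c + q' * a)) * x
  cent : ∀ m, x * P.h (dt σ 1 m) = P.h (dt σ 1 m) * x

theorem Act.mul {x y : G} {p q p' q' a b a' b' : K} (hx : Act P x p q p' q') (hy : Act P y a b a' b') :
    Act P (x * y) (p * a + q * a') (p * b + q * b') (p' * a + q' * a') (p' * b + q' * b') :=
  ⟨fun c d => by rw [mul_assoc, hy.act, ← mul_assoc, hx.act, mul_assoc]; congr 3 <;> ring,
    fun m => by rw [mul_assoc, hy.cent, ← mul_assoc, hx.cent, mul_assoc]⟩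

theorem act_one : Act P 1 1 0 0 1 := ⟨fun c a => by simp, fun m => by simp⟩

theorem act_h (t : Kˣ × Kˣ) : Act P (P.h t) t.2 0 0 (t.1 * σ t.1 / t.2) :=
  ⟨fun c a => by rw [← mul_inv_eq_iff_eq_mul, h_vv]; simp, fun m => h_comm P _ _⟩

theorem act_x1 (t : K) : Act P (P.u (x1 t)) 1 t 0 1 :=
  ⟨fun c a => by rw [← mul_inv_eq_iff_eq_mul, ← map_inv, ← map_mul, ← map_mul, conj_vv]; simp, fun m => by
    rw [eq_comm, ← mul_inv_eq_iff_eq_mul, P.hu, tor_dt]; congr 1; usimp; simp⟩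

theorem Act.eq (h : P.Hyp) (hq : 2 < Nat.card K) {x y : G} {p q p' q' a b a' b' : K} (hx : Act P x p q p' q')
    (hy : Act P y a b a' b') (e1 : p = a) (e2 : q = b) (e3 : p' = a') (e4 : q' = b') : x = y := by
  subst e1 e2 e3 e4
  obtain ⟨g, hg, e⟩ := mem_Q' h hq (x := y⁻¹ * x) fun c a => by
    rw [mul_assoc, hx.act, ← mul_assoc, ← mul_assoc, mul_left_inj, inv_mul_eq_iff_eq_mul, ← mul_assoc, hy.act,
      mul_inv_cancel_right]
  obtain ⟨κ, hκ⟩ := Tits.exists_ne σ hq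
  have h1 : tor (dt σ 1 κ) g = g := P.inj (by
    rw [← P.hu, e, mul_inv_eq_iff_eq_mul, mul_assoc, hx.cent, ← mul_assoc, ← mul_assoc, mul_left_inj,
      mul_inv_eq_iff_eq_mul, mul_assoc, ← hy.cent, inv_mul_cancel_left])
  rw [fix1 hκ h1, show g.a1 = 0 from hg, show (x1 0 : U σ) = 1 from rfl, map_one, eq_comm, inv_mul_eq_one] at e
  exact e.symm

/-- the scalars on `V` -/
def sc (σ : K →+* K) : Kˣ →* Kˣ × Kˣ where
  toFun := dt σ 1
  map_one' := by simp [dt]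
  map_mul' a b := by simp only [dt, map_one, one_mul, one_pow, map_mul, mul_pow, Prod.mk_mul_mk]; congr 1 <;> ac_rfl

theorem exists_n1 (h : P.Hyp) (hp : P.Pair) (hq : 2 < Nat.card K) :
    ∃ n ∈ Subgroup.normalizer (P.Q' : Set G), Act P n 0 1 1 0 := by
  have := T.char
  obtain ⟨x, hx, -, hxa⟩ := h.exists_lower (h.out hp) 1
  have hs : ∀ m : Kˣ, ∃ l : K, ∀ c a, P.h (dt σ 1 m) * P.u (vv c a) * (P.h (dt σ 1 m))⁻¹ = P.u (vv (l * c) (l * a)) :=
    fun m => ⟨m ^ 3 * σ m ^ 2, fun c a => by rw [P.hu, tor_dt]; congr 1; vsimp; simp⟩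
  obtain ⟨s, hs, hc⟩ := exists_fix (P := P) (sc σ) hx fun m => mem_Q' h hq fun c a => by
    obtain ⟨l, hl⟩ := hs m
    obtain ⟨l', hl'⟩ := hs m⁻¹
    have e0 : P.h (dt σ 1 m⁻¹) = (P.h (dt σ 1 m))⁻¹ := by rw [← map_inv, show dt σ 1 m⁻¹ = _ from map_inv (sc σ) m]; rfl
    rw [e0, inv_inv] at hl'
    have e1 : x⁻¹ * P.u (vv c a) * x = P.u (vv c (a + c)) := by
      have := hxa c (a + c)
      rw [show a + c + 1 * c = a by grind] at this
      rw [← this]; group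
    rw [← mul_inv_eq_iff_eq_mul]
    calc _ = P.h (dt σ 1 m) * (x * ((P.h (dt σ 1 m))⁻¹ * (x⁻¹ * P.u (vv c a) * x) * P.h (dt σ 1 m)) * x⁻¹) *
          (P.h (dt σ 1 m))⁻¹ := by simp only [sc, MonoidHom.coe_mk, OneHom.coe_mk]; group
      _ = _ := by rw [e1, hl', hxa, show l' * (a + c) + 1 * (l' * c) = l' * a by grind, ← hl']; group
  have h9 : Act P (x * s) 1 0 1 1 := ⟨fun c a => by
    rw [mul_assoc, comm_of_mem hs, ← mul_assoc, ← mul_assoc, mul_left_inj, ← mul_inv_eq_iff_eq_mul, hxa]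
    congr 2 <;> ring, hc⟩
  refine ⟨P.u (x1 1) * (x * s) * P.u (x1 1), mul_mem (mul_mem (u_mem_normalizer _)
    (mul_mem hx (Subgroup.le_normalizer hs))) (u_mem_normalizer _), ?_⟩
  convert ((act_x1 1).mul h9).mul (act_x1 1) using 1 <;> grind

end N1

open N1

/-- `C_G(V) = Q'` -/
theorem P8.mem_Q'_of_comm_V [Finite K] [Finite G] {P : P8 σ r G} (h : P.Hyp) (hq : 2 < Nat.card K) {x : G}
    (hx : ∀ y ∈ P.V, x * y = y * x) : x ∈ P.Q' := mem_Q' h hq fun c a => hx _ (PC.mem_V.2 ⟨c, a, rfl⟩)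

set_option linter.unusedVariables false in
/-- An endomorphism of `Q'` commuting with the torus and trivial on `V` is trivial. -/
theorem U.eq_of_comm_tor [Finite K] (hq : 2 < Nat.card K) (ε : U σ → U σ) (h0 : ∀ g, g.a1 = 0 → (ε g).a1 = 0)
    (h1 : ∀ g k, g.a1 = 0 → k.a1 = 0 → ε (g * k) = ε g * ε k)
    (h2 : ∀ (t : Kˣ × Kˣ) g, g.a1 = 0 → ε (tor t g) = tor t (ε g)) (h3 : ∀ c a, ε (vv c a) = vv c a)
    {g : U σ} (hg : g.a1 = 0) : ε g = g := eq_of_comm hq ε h1 h2 h3 hg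

/-- construction of `n₁` -/
theorem P8.exists_P81 [Finite K] [Finite G] {P : P8 σ r G} (h : P.Hyp) (hp : P.Pair) (hq : 2 < Nat.card K) :
    ∃ P' : P81 σ r G, P'.toP8 = P := by
  have := T.char
  obtain ⟨n, hn, ha⟩ := exists_n1 h hp hq
  have nn : n * n = 1 := (ha.mul ha).eq h hq act_one (by simp) (by simp) (by simp) (by simp)
  have ni : n⁻¹ = n := inv_eq_of_mul_eq_one_right nn
  have nh : ∀ t : Kˣ × Kˣ, n * P.h t * n = P.h (t.1, t.1 * σu σ t.1 * t.2⁻¹) := fun t => by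
    have h1 := t.1.ne_zero
    have h2 := (map_ne_zero σ).2 h1
    refine ((ha.mul (act_h t)).mul ha).eq h hq (act_h _) ?_ (by simp) (by simp) ?_
    · simp [div_eq_mul_inv]
    · simp only [Units.val_mul, σu_val, Units.val_inv_eq_inv_val]; field_simp; ring
  have hν : ∀ g : U σ, ∃ g', g.a1 = 0 → n * P.u g * n = P.u g' := fun g => by
    by_cases hg : g.a1 = 0
    · obtain ⟨g', -, e⟩ := (Subgroup.mem_normalizer_iff.1 hn _).1 (PC.u_mem_Q'.2 hg)
      exact ⟨g', fun _ => by rw [e, ni]⟩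
    · exact ⟨1, fun h => absurd h hg⟩
  choose ν hν using hν
  have key : ∀ g : U σ, g.a1 = 0 → ν (w1 g) = g := fun g hg => by
    refine eq_of_comm hq (fun g => ν (w1 g)) (fun g k hg hk => P.inj ?_) (fun t g hg => P.inj ?_) (fun c a => P.inj ?_) hg
    · rw [map_mul, ← hν _ rfl, ← hν _ rfl, ← hν _ rfl, w1_mul hg hk, map_mul]
      simp only [mul_assoc, ← mul_assoc n n, nn, one_mul]
    · have e : w1 (tor t g) = tor (t.1, t.1 * σu σ t.1 * t.2⁻¹) (w1 g) := by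
        rw [tor_apply, tor_apply, w1_tr t.1.ne_zero t.2.ne_zero]; simp [div_eq_mul_inv]
      rw [← P.hu, ← hν _ rfl, ← hν _ rfl, e, ← P.hu, ← nh]
      simp only [mul_inv_rev, ni, mul_assoc, ← mul_assoc n n, nn, one_mul, mul_one]
    · rw [← hν _ rfl, w1_vv, ha.act, mul_assoc, nn, mul_one]; simp
  refine ⟨{ P with
    n1 := n
    n1n1 := nn
    n1u := fun g hg => by rw [hν g hg, ← key (w1 g) rfl, w1_w1 hg]
    n1h1 := fun m => by simpa [P8.h_apply] using nh (m, 1)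
    n1h2 := fun s => by simpa [P8.h_apply] using nh (1, s)
    r1 := fun t => ?_ }, rfl⟩
  have h1 := t.ne_zero
  rw [← h_snd]
  refine ((ha.mul (act_x1 (t : K))).mul ha).eq h hq ((((act_x1 _).mul (act_h _)).mul ha).mul (act_x1 _)) ?_ ?_ ?_ ?_ <;>
    simp only [Units.val_inv_eq_inv_val, Units.val_one, map_one] <;> field_simp <;> grind

end CL.RF
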