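/-
INV library (large Ree groups): construction of the torus (`q > 2`).
-/
import Cfsg.Agent.INV.RF.Fus
import Cfsg.Agent.SOLV.Coprime
import Cfsg.Agent.SOLV.Core
import Cfsg.Agent.FUS.MetaAut

set_option autoImplicit false
set_option linter.unusedSimpArgs false
set_option linter.unusedSectionVars false

namespace CL.RF

open U

variable {K : Type*} [Field K] {σ : K →+* K} [T : Tits σ] {r : R8 K} {G : Type*} [Group G]

namespace Tr

section Sc

variable {X : Type*} [Group X] {u : U σ →* X} {α β : MulAut X} {t t' : Kˣ × Kˣ}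

/-- `α` normalises the image of `u` and acts on the coordinates `a1`, `b8` like the torus element `t` -/
def Sc (u : U σ →* X) (α : MulAut X) (t : Kˣ × Kˣ) : Prop :=
  ∀ g, ∃ g', α (u g) = u g' ∧ g'.a1 = (tor t g).a1 ∧ g'.b8 = (tor t g).b8

theorem tor_congr (t : Kˣ × Kˣ) {g g' : U σ} (h1 : g.a1 = g'.a1) (h2 : g.b8 = g'.b8) :
    (tor t g).a1 = (tor t g').a1 ∧ (tor t g).b8 = (tor t g').b8 := by
  simp only [tor_apply, tr_a1, tr_b8, h1, h2, and_self]

theorem Sc.mul (h : Sc u α t) (h' : Sc u β t') : Sc u (α * β) (t * t') := fun g => by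
  obtain ⟨g₁, e, e1, e2⟩ := h' g
  obtain ⟨g₂, f, f1, f2⟩ := h g₁
  obtain ⟨k1, k2⟩ := tor_congr t e1 e2
  exact ⟨g₂, by rw [MulAut.mul_apply, e, f], by rw [f1, k1, map_mul, MulAut.mul_apply],
    by rw [f2, k2, map_mul, MulAut.mul_apply]⟩

theorem sc_one : Sc u 1 1 := fun g => ⟨g, rfl, by rw [map_one]; rfl, by rw [map_one]; rfl⟩

theorem Sc.pow (h : Sc u α t) (k : ℕ) : Sc u (α ^ k) (t ^ k) := by
  induction k with
  | zero => simpa using sc_one
  | succ k ih => rw [pow_succ, pow_succ]; exact ih.mul h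

theorem Sc.inv [Finite K] (hu : Function.Injective u) (h : Sc u α t) : Sc u α⁻¹ t⁻¹ := fun g' => by
  choose f hf using h
  have hi : Function.Injective f := fun a b e => hu (α.injective (by rw [(hf a).1, (hf b).1, e]))
  obtain ⟨g, rfl⟩ := Finite.surjective_of_injective hi g'
  obtain ⟨k1, k2⟩ := tor_congr t⁻¹ (hf g).2.1 (hf g).2.2
  rw [← MulAut.mul_apply, ← map_mul, inv_mul_cancel, map_one, MulAut.one_apply] at k1 k2
  exact ⟨g, by rw [← (hf g).1]; simp, k1.symm, k2.symm⟩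

theorem Sc.eq (hu : Function.Injective u) {s s' : Kˣ} (h : Sc u α (1, s)) (h' : Sc u α (1, s')) : s = s' := by
  obtain ⟨g, e, -, e2⟩ := h (y8 1 0)
  obtain ⟨g', f, -, f2⟩ := h' (y8 1 0)
  rw [hu (e.symm.trans f), f2] at e2
  exact Units.ext (by simpa using e2.symm)

/-- the automorphisms acting trivially on `a1`, `b8` -/
def A0 [Finite K] (hu : Function.Injective u) : Subgroup (MulAut X) where
  carrier := {α | Sc u α 1}
  mul_mem' ha hb := by simpa using Sc.mul ha hb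
  one_mem' := sc_one
  inv_mem' ha := by simpa using Sc.inv hu ha

theorem mem_A0 [Finite K] {hu : Function.Injective u} : α ∈ A0 hu ↔ Sc u α 1 := Iff.rfl

theorem Sc.mem_normalizer [Finite K] (hu : Function.Injective u) (h : Sc u α t) :
    α ∈ Subgroup.normalizer (A0 hu : Set (MulAut X)) :=
  Subgroup.mem_normalizer_iff.2 fun β => ⟨fun hβ => by simpa [mem_A0] using (h.mul hβ).mul (h.inv hu), fun hβ => by
    simpa [mul_assoc, mem_A0] using ((h.inv hu).mul hβ).mul h⟩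

theorem Sc.fix [Finite K] (hu : Function.Injective u) (hq : 2 < Nat.card K) (h : Sc u α 1) {m : ℕ} (hm : Odd m)
    (hα : α ^ m = 1) (g : U σ) : α (u g) = u g := by
  have := T.char
  choose f hf using h
  have hi : Function.Injective f := fun a b e => hu (α.injective (by rw [(hf a).1, (hf b).1, e]))
  let φ : MulAut (U σ) := MulEquiv.ofBijective
    (MonoidHom.mk' f fun a b => hu (by rw [map_mul, ← (hf a).1, ← (hf b).1, ← (hf _).1, map_mul, map_mul]))
    (Finite.injective_iff_bijective.1 hi)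
  have h1 : ∀ k g, u ((φ ^ k) g) = (α ^ k) (u g) := fun k => by
    induction k with
    | zero => simp
    | succ k ih => intro g; rw [pow_succ, pow_succ, MulAut.mul_apply, MulAut.mul_apply, ih, (hf g).1]; rfl
  have h2 : φ ^ m = 1 := MulEquiv.ext fun g => hu (by rw [h1, hα]; rfl)
  have h3 : φ = 1 := CL.MC.eq_one_of_frattini (Tits.isPGroup_U σ)
    ((Nat.coprime_two_right.2 hm).coprime_dvd_left (orderOf_dvd_of_pow_eq_one h2)) fun x => by
      obtain ⟨-, e1, e2⟩ := hf x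
      rw [map_one, MulAut.one_apply] at e1 e2
      refine mem_frattini hq ?_ ?_
      · rw [mul_a1, inv_a1, show (φ x).a1 = x.a1 from e1]; grind
      · rw [mul_b8, inv_b8, show (φ x).b8 = x.b8 from e2]; grind
  simpa [h3] using (h1 1 g).symm

end Sc

variable [Finite K] [Finite G] {P : PC σ r G}

theorem mem_normalizer_of_sc {x : G} {t : Kˣ × Kˣ} (h : Sc P.u (MulAut.conj x) t) :
    x ∈ Subgroup.normalizer (P.S : Set G) :=
  Subgroup.mem_normalizer_fintype (by rintro _ ⟨g, rfl⟩; obtain ⟨g', e, -⟩ := h g; exact ⟨g', e.symm⟩)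

theorem mem_S_of_sc (h : P.Hyp) (hq : 2 < Nat.card K) {x : G} (hx : Sc P.u (MulAut.conj x) 1) : x ∈ P.S :=
  h.mem_S_of_triv hq (mem_normalizer_of_sc hx) fun g g' e => by
    obtain ⟨g'', e', e1, e2⟩ := hx g
    rw [map_one, MulAut.one_apply] at e1 e2
    rw [← P.inj (e'.symm.trans e)]
    exact ⟨e1, e2⟩

theorem comm_of_mem {x : G} (hx : x ∈ P.Q') (c a : K) : x * P.u (vv c a) * x⁻¹ = P.u (vv c a) := by
  obtain ⟨k, hk, rfl⟩ := PC.mem_Q'.1 hx
  rw [← map_inv, ← map_mul, ← map_mul, conj_vv, hk, zero_mul, add_zero]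

/-- an element acting on `V` as `diag(s, s⁻¹)` and centralising `H₁` -/
theorem exists_diag (h : P.Hyp) (hp : P.Pair) (s : Kˣ) : ∃ x ∈ Subgroup.normalizer (P.S : Set G),
    (∀ n, x * P.h1 n = P.h1 n * x) ∧ x * P.τ * x⁻¹ = P.u (y4 0 s) := by
  have := T.char
  have hs := s.ne_zero
  obtain ⟨y, hy, -, ey⟩ := h.exists_lower (h.out hp) 1
  obtain ⟨z, hz, -, ez⟩ := h.exists_lower (h.out hp) s
  have hu : ∀ g, P.u g ∈ Subgroup.normalizer (P.Q' : Set G) := fun g => Fu.B1_le h (P.S_le_B1 (P.u_mem_S g))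
  obtain ⟨x, hx, ex⟩ : ∃ x ∈ Subgroup.normalizer (P.Q' : Set G), ∀ c a, x * P.u (vv c a) * x⁻¹ = P.u (vv (s * c) ((s : K)⁻¹ * a)) := by
    refine ⟨P.u (x1 (1 + s)) * y * P.u (x1 (1 + (s : K)⁻¹)) * z, mul_mem (mul_mem (mul_mem (hu _) hy) (hu _)) hz, fun c a => ?_⟩
    calc _ = P.u (x1 (1 + s)) * (y * (P.u (x1 (1 + (s : K)⁻¹)) * (z * P.u (vv c a) * z⁻¹) * (P.u (x1 (1 + (s : K)⁻¹)))⁻¹) * y⁻¹) *
          (P.u (x1 (1 + s)))⁻¹ := by simp only [mul_inv_rev, mul_assoc]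
      _ = _ := by rw [ez, Fu.x1_vv, ey, Fu.x1_vv]; congr 2 <;> field_simp <;> grind
  have ex' : ∀ c a, x⁻¹ * P.u (vv c a) * x = P.u (vv ((s : K)⁻¹ * c) (s * a)) := fun c a => by
    have := ex ((s : K)⁻¹ * c) (s * a)
    rw [mul_inv_cancel_left₀ hs, inv_mul_cancel_left₀ hs] at this
    rw [← this]; group
  have hτ : x * P.τ * x⁻¹ = P.u (y4 0 s) := by simpa [vv_zero, PC.τ] using ex 1 0
  have hC := h.mem_normalizer_of_conj (PC.mem_Z.2 ⟨_, hτ⟩)
  have hS : x ∈ Subgroup.normalizer (P.S : Set G) := Subgroup.mem_normalizer_fintype (by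
    rintro _ ⟨g, rfl⟩
    obtain ⟨k, hk⟩ := Tits.isPGroup_U σ g
    refine PC.mem_S_of_two (PC.mem_B1_of_conj_V (c := 0) ((Subgroup.mem_normalizer_iff.1 hC _).1
      (P.u_mem_C g)) one_ne_zero (PC.mem_V.2 ⟨s * ((s : K)⁻¹ * 0 + g.a1 * (s * 1)), (s : K)⁻¹ * (s * 1), ?_⟩)) (k := k)
      (by rw [conj_pow, ← map_pow, hk]; simp)
    calc _ = x * (P.u g * (x⁻¹ * P.u (vv 0 1) * x) * (P.u g)⁻¹) * x⁻¹ := by group
      _ = _ := by rw [ex', ← map_inv P.u, ← map_mul, ← map_mul, conj_vv, ex])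
  have hp2 : IsPGroup 2 P.Q' := P.isPGroup_S.to_le fun _ ⟨g, _, e⟩ => ⟨g, e⟩
  obtain ⟨k, hk⟩ := IsPGroup.iff_card.1 hp2
  have := hp2.isNilpotent
  obtain ⟨q, hq, e⟩ := CL.coprime_fixed_point_quotient P.h1.range P.Q' (fun _ ⟨m, e⟩ => e ▸ Fu.B1_le h (P.h1_mem_B1 m))
    (by
      rw [hk]
      exact Nat.Coprime.pow_right _ (Nat.coprime_two_right.2
        (Odd.of_dvd_nat (Tits.odd_units σ) (Subgroup.card_range_dvd _)))) (Or.inr inferInstance) x hx (by
    rintro _ ⟨m, rfl⟩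
    refine PC.mem_Q'_of_comm (c := 0) ?_ one_ne_zero ?_
    · rw [mul_assoc, mul_assoc, ← mul_assoc x]
      exact mul_mem (P.h1_mem_C _) ((Subgroup.mem_normalizer_iff.1 hC _).1 (inv_mem (P.h1_mem_C _)))
    · have h1 := m.ne_zero
      have h2 := (map_ne_zero σ).2 h1
      rw [← mul_inv_eq_iff_eq_mul]
      calc _ = P.h1 m * (x * (P.h1 m⁻¹ * (x⁻¹ * P.u (vv 0 1) * x) * (P.h1 m⁻¹)⁻¹) * x⁻¹) * (P.h1 m)⁻¹ := by
            rw [map_inv]; group
        _ = _ := by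
            rw [ex', Fu.h1_vv, ex, Fu.h1_vv]; congr 2
            · simp
            · simp only [Units.val_inv_eq_inv_val, map_inv₀]; field_simp)
  have hqS : q ∈ P.S := by obtain ⟨g, -, rfl⟩ := hq; exact ⟨g, rfl⟩
  refine ⟨x * q, mul_mem hS (Subgroup.le_normalizer hqS), fun n => (e _ ⟨n, rfl⟩).symm, ?_⟩
  rw [← hτ, mul_inv_rev, mul_assoc x, mul_assoc x, ← mul_assoc _ q⁻¹, PC.τ, ← vv_zero, comm_of_mem hq, mul_assoc]

theorem exists_sc (h : P.Hyp) (hp : P.Pair) (hq : 2 < Nat.card K) (t : Kˣ × Kˣ) : ∃ x, Sc P.u (MulAut.conj x) t := by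
  choose x hx hc hτ using exists_diag h hp
  have key : ∀ p : Kˣ × Kˣ, ∃ t, Sc P.u (MulAut.conj (P.h1 p.1 * x p.2)) t := fun p => by
    have hS := mul_mem (P.B1_le_normalizer (P.h1_mem_B1 p.1)) (hx p.2)
    obtain ⟨t, ht⟩ := h.scalar hS fun n => by rw [mul_assoc, hc, ← mul_assoc, ← mul_assoc, ← map_mul, ← map_mul, mul_comm n]
    refine ⟨t, fun g => ?_⟩
    obtain ⟨g', e⟩ := (Subgroup.mem_normalizer_iff.1 hS _).1 (P.u_mem_S g)
    exact ⟨g', e.symm, ht g g' e.symm⟩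
  choose f hf using key
  have hi : Function.Injective f := by
    rintro ⟨n, s⟩ ⟨n', s'⟩ e
    have h1 := (hf (n, s)).mul ((hf (n', s')).inv P.inj)
    rw [e, mul_inv_cancel, ← map_inv, ← map_mul] at h1
    have h2 := mem_S_of_sc h hq h1
    have h3 : ∀ n s, P.h1 n * x s * P.τ * (P.h1 n * x s)⁻¹ = P.u (y4 0 s) := fun n s => by
      rw [mul_inv_rev, mul_assoc (P.h1 n), mul_assoc (P.h1 n), ← mul_assoc _ (x s)⁻¹, hτ, ← mul_assoc,
        PC.comm_Z (P.h1_mem_C n), mul_inv_cancel_right]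
    have h4 := PC.comm_Z (P.S_le_C h2) s'
    rw [← mul_inv_eq_iff_eq_mul, ← h3 n' s'] at h4
    simp only [mul_inv_rev, inv_inv, mul_assoc, inv_mul_cancel_left] at h4 h3
    rw [h3, h3] at h4
    obtain rfl : s = s' := Units.ext (congrArg U.c4 (P.inj h4))
    simp only [mul_inv_rev, mul_assoc, mul_inv_cancel_left] at h2
    rw [← map_inv, ← map_mul] at h2
    rw [mul_inv_eq_one.1 (PC.eq_one_of_h1_mem h2)]
  obtain ⟨p, rfl⟩ := Finite.surjective_of_injective hi t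
  exact ⟨_, hf p⟩

theorem exists_d (h : P.Hyp) (hp : P.Pair) (hq : 2 < Nat.card K) :
    ∃ d : Kˣ →* G, ∀ s, Sc P.u (MulAut.conj (d s)) (1, s) := by
  obtain ⟨g, hg⟩ := IsCyclic.exists_generator (α := Kˣ)
  obtain ⟨x, hx⟩ := exists_sc h hp hq (1, g)
  obtain ⟨j, m, hm, hjm⟩ := Nat.exists_eq_two_pow_mul_odd (orderOf_pos x).ne'
  have hog : Odd (orderOf g) := Odd.of_dvd_nat (Tits.odd_units σ) (orderOf_dvd_natCard g)
  obtain ⟨l, hl⟩ := exists_pow_eq_self_of_coprime (x := g) (Nat.Coprime.pow_left j (Nat.coprime_two_left.2 hog))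
  have h1 : ∀ k, Sc P.u (MulAut.conj (((x ^ 2 ^ j) ^ l) ^ k)) (1, g ^ k) := fun k => by
    simpa only [Prod.pow_mk, one_pow, hl, map_pow] using ((hx.pow (2 ^ j)).pow l).pow k
  have h2 : orderOf ((x ^ 2 ^ j) ^ l) ∣ orderOf g := by
    have h3 := h1 (orderOf g)
    rw [pow_orderOf_eq_one] at h3
    obtain ⟨k, hk⟩ := P.isPGroup_S ⟨_, mem_S_of_sc h hq h3⟩
    have h4 : (((x ^ 2 ^ j) ^ l) ^ orderOf g) ^ 2 ^ k = 1 := congrArg Subtype.val hk
    have h5 : (((x ^ 2 ^ j) ^ l) ^ orderOf g) ^ m = 1 := by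
      rw [← pow_mul, ← pow_mul, ← pow_mul, show 2 ^ j * (l * (orderOf g * m)) = orderOf x * (l * orderOf g) by rw [hjm]; ring,
        pow_mul, pow_orderOf_eq_one, one_pow]
    refine orderOf_dvd_of_pow_eq_one (orderOf_eq_one_iff.1 ?_)
    exact Nat.eq_one_of_dvd_coprimes (Nat.Coprime.pow_left k (Nat.coprime_two_left.2 hm))
      (orderOf_dvd_of_pow_eq_one h4) (orderOf_dvd_of_pow_eq_one h5)
  refine ⟨monoidHomOfForallMemZpowers hg h2, fun s => ?_⟩
  obtain ⟨k, rfl⟩ := mem_powers_iff_mem_zpowers.2 (hg s)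
  simpa only [map_pow, monoidHomOfForallMemZpowers_apply_gen] using h1 k

/-- the structure inside the subgroup `C` -/
def res (P : PC σ r G) : PC σ r P.C where
  u := P.u.codRestrict _ P.u_mem_C
  h1 := P.h1.codRestrict _ P.h1_mem_C
  n8 := ⟨P.n8, P.n8_mem_C⟩
  inj _ _ e := P.inj (congrArg Subtype.val e)
  h1u n g := Subtype.ext (P.h1u n g)
  n8n8 := Subtype.ext P.n8n8
  n8u g h h' := Subtype.ext (P.n8u g h h')
  n8h1 n := Subtype.ext (P.n8h1 n)
  r8 p h := Subtype.ext (P.r8 p h)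

theorem isPGroup_A0 (hq : 2 < Nat.card K) : IsPGroup 2 (A0 (res P).inj) := by
  rintro ⟨α, hα⟩
  obtain ⟨j, m, hm, hjm⟩ := Nat.exists_eq_two_pow_mul_odd (orderOf_pos α).ne'
  have h1 := Sc.fix (res P).inj hq (pow_mem hα (2 ^ j)) hm (by rw [← pow_mul, ← hjm, pow_orderOf_eq_one])
  refine ⟨j + 1, Subtype.ext (MulEquiv.ext fun c => ?_)⟩
  simp only [SubgroupClass.coe_pow, OneMemClass.coe_one, MulAut.one_apply]
  rw [pow_succ, pow_mul, pow_two, MulAut.mul_apply]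
  generalize α ^ 2 ^ j = β at h1
  obtain ⟨z, hz⟩ := PC.mem_Z.1 (PC.mem_Z_of_comm_Q (c⁻¹ * β c).2 (by
    rintro _ ⟨g, hg, rfl⟩
    obtain ⟨g', -, e⟩ := (Subgroup.mem_normalizer_iff.1 (P.C_le_normalizer_Q c.2) _).1 ⟨g, hg, rfl⟩
    have e' : (res P).u g' = c * (res P).u g * c⁻¹ := Subtype.ext e
    have e2 := h1 g'
    rw [e', map_mul, map_mul, h1, map_inv] at e2
    have e3 : c⁻¹ * β c * (res P).u g = (res P).u g * (c⁻¹ * β c) := by
      rw [mul_assoc, ← mul_inv_eq_iff_eq_mul, mul_inv_rev, inv_inv, mul_assoc, ← mul_assoc (β c * _), e2]; group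
    exact congrArg Subtype.val e3))
  have hz' : β c = c * (res P).u (y4 0 z) := by rw [← inv_mul_eq_iff_eq_mul]; exact Subtype.ext hz
  have := T.char
  rw [hz', map_mul, h1, hz', mul_assoc, ← map_mul, show (y4 0 z * y4 0 z : U σ) = 1 by usimp; grind, map_one, mul_one]

theorem exists_aut (h : P.Hyp) (hp : P.Pair) (hq : 2 < Nat.card K) : ∃ (d : Kˣ →* G) (k : MulAut P.C),
    Sc (res P).u k 1 ∧ (∀ s g, d s * k ((res P).u g) * (d s)⁻¹ = k ((res P).u (tor (1, s) g))) ∧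
    (∀ s n, d s * k ((res P).h1 n) * (d s)⁻¹ = k ((res P).h1 n)) ∧
    ∀ s, d s * k (res P).n8 * (d s)⁻¹ = k (((res P).h1 (σu σ s))⁻¹ * (res P).n8) := by
  obtain ⟨d, hd⟩ := exists_d h hp hq
  obtain ⟨A, a1, a2, a3⟩ := h.aut
  let ι : Kˣ →* MulAut P.C :=
    P.C.normalizerMonoidHom.comp (d.codRestrict _ fun s => h.normalizer_S_le (mem_normalizer_of_sc (hd s)))
  have hι : ∀ s x, (ι s x : G) = d s * x * (d s)⁻¹ := fun _ _ => rfl
  have s1 : ∀ s, Sc (res P).u (ι s) (1, s) := fun s g => by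
    obtain ⟨g', e, e'⟩ := hd s g
    exact ⟨g', Subtype.ext e, e'⟩
  have s2 : ∀ s, Sc (res P).u (A s) (1, s) := fun s g => ⟨_, Subtype.ext (a1 s g _ rfl), rfl, rfl⟩
  have hp2 := isPGroup_A0 (P := P) hq
  obtain ⟨j, hj⟩ := IsPGroup.iff_card.1 hp2
  have := hp2.isNilpotent
  obtain ⟨k, hk, hle⟩ := CL.coprime_le_conj ι.range (A0 (res P).inj) A.range
    (fun _ ⟨s, e⟩ => e ▸ (s1 s).mem_normalizer _)
    (by
      rw [hj]
      exact Nat.Coprime.pow_right _ (Nat.coprime_two_right.2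
        (Odd.of_dvd_nat (Tits.odd_units σ) (Subgroup.card_range_dvd _)))) (Or.inr inferInstance) (by
    rintro _ ⟨s, rfl⟩
    exact ⟨ι s * (A s)⁻¹, mem_A0.2 (by simpa only [mul_inv_cancel] using (s1 s).mul ((s2 s).inv (res P).inj)), A s, ⟨s, rfl⟩, by simp⟩)
  have key : ∀ s x, d s * k x * (d s)⁻¹ = k (A s x) := fun s x => by
    obtain ⟨_, ⟨s', rfl⟩, e⟩ := hle ⟨s, rfl⟩
    replace e : k * A s' * k⁻¹ = ι s := e
    have h1 := (Sc.mul hk (s2 s')).mul (Sc.inv (res P).inj hk)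
    rw [e, inv_one, mul_one, one_mul] at h1
    rw [← hι, ← e, h1.eq (res P).inj (s1 s)]
    simp
  exact ⟨d, k, hk, fun s g => by rw [key]; congr 2; exact Subtype.ext (a1 s g _ rfl),
    fun s n => by rw [key]; congr 2; exact a2 s n _ rfl,
    fun s => by rw [key]; congr 2; exact Subtype.ext (a3 s _ rfl)⟩

end Tr

open Tr

/-- construction of the second torus -/
theorem PC.Hyp.exists_P8 [Finite K] [Finite G] {P : PC σ r G} (h : P.Hyp) (hp : P.Pair) (hq : 2 < Nat.card K) :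
    ∃ P' : P8 σ r G, P'.Hyp ∧ P'.Pair ∧ P'.C = P.C ∧ P'.S = P.S ∧ IsConj P.τ P'.τ := by
  obtain ⟨d, k, hk, d1, d2, d3⟩ := exists_aut h hp hq
  let P' : P8 σ r G :=
    { (res P).map (P.C.subtype.comp k.toMonoidHom) (P.C.subtype_injective.comp k.injective) with
      h2 := d
      h12 := fun n s => (mul_inv_eq_iff_eq_mul.1 (d2 s n)).symm
      h2u := d1
      n8h2 := fun s => by
        have e := d3 s
        have e1 : (k (res P).n8 : G) * k (res P).n8 = 1 := by rw [← Subgroup.coe_mul, ← map_mul, (res P).n8n8]; simp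
        have e2 : (k (res P).n8 : G) * (k ((res P).h1 (σu σ s)) : G)⁻¹ * k (res P).n8 = k ((res P).h1 (σu σ s)) := by
          have := congrArg (fun x => (k x : G)) ((res P).n8h1 (σu σ s)⁻¹)
          simpa using this
        rw [map_mul, map_inv, Subgroup.coe_mul, Subgroup.coe_inv, mul_inv_eq_iff_eq_mul] at e
        show (k (res P).n8 : G) * d s * k (res P).n8 = k ((res P).h1 (σu σ s)) * d s
        rw [mul_assoc, e, ← mul_assoc, ← mul_assoc, e2] }
  have hu : ∀ g, P'.u g = k ((res P).u g) := fun _ => rfl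
  have hC : P'.C = P.C := Subgroup.eq_of_le_of_card_ge (P'.C_le (fun g => (k _).2) (fun n => (k _).2) (k _).2)
    (by rw [P.card_C, P'.card_C])
  have hS : P'.S = P.S := le_antisymm (by
    rintro _ ⟨g, rfl⟩
    obtain ⟨g', e, -⟩ := hk g
    exact ⟨g', by rw [hu, e]; rfl⟩) (by
    rintro _ ⟨g, rfl⟩
    obtain ⟨g', e, -⟩ := hk.inv (res P).inj g
    exact ⟨g', by rw [hu, ← e]; simp; rfl⟩)
  have hZ : ∀ c, P'.u (y4 0 c) ∈ P.Z := fun c => PC.mem_Z_of_comm_Q (hC ▸ P'.u_mem_C _) fun y hy =>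
    (PC.comm_Z (P := P'.toPC) (hC ▸ P.S_le_C (by obtain ⟨g, -, rfl⟩ := hy; exact ⟨g, rfl⟩)) c).symm
  have hc : IsConj P.τ P'.τ := by
    obtain ⟨c, e⟩ := PC.mem_Z.1 (hZ 1)
    rw [show P'.τ = P.u (vv c 0) from e]
    refine h.isConj_vv (h.out hp) (Or.inl fun e' => Fu.τ_ne (P := P'.toPC) (e.trans ?_))
    rw [e']; exact map_one P.u
  obtain ⟨x, hx⟩ := isConj_iff.1 hc
  have hxC := h.mem_normalizer_of_conj (g := x) (hx ▸ hZ 1)
  refine ⟨P', P'.hyp_of (hS ▸ h.odd) (fun g hg => ?_) ?_, ?_, hC, hS, hc⟩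
  · have := h.norm (x⁻¹ * g * x) (by
      rw [← hx] at hg
      calc _ = x⁻¹ * (g * (x * P.τ * x⁻¹)) * x := by group
        _ = _ := by rw [hg]; group)
    rw [hC]
    simpa [mul_assoc] using mul_mem (mul_mem hxC this) (inv_mem hxC)
  · have e : (Subgroup.centralizer ({P.τ} : Set G)).map (MulAut.conj x).toMonoidHom = Subgroup.centralizer {P'.τ} := by
      ext y
      rw [Subgroup.mem_map_equiv, Subgroup.mem_centralizer_singleton_iff, Subgroup.mem_centralizer_singleton_iff, ← hx]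
      simp only [MulAut.conj_symm_apply]
      constructor
      · intro e
        calc _ = x * (x⁻¹ * y * x * P.τ) * x⁻¹ := by group
          _ = _ := by rw [e]; group
      · intro e
        calc _ = x⁻¹ * (y * (x * P.τ * x⁻¹)) * x := by group
          _ = _ := by rw [e]; group
    have := CL.map_pPrimeCore_equiv (p := 2) (((MulAut.conj x).subgroupMap _).trans (MulEquiv.subgroupCongr e))
    rw [show Cfsg.pPrimeCore 2 (Subgroup.centralizer ({P.τ} : Set G)) = ⊥ from h.core, Subgroup.map_bot] at this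
    exact this.symm
  · obtain ⟨g, e, hg⟩ := hp
    refine ⟨x * g * x⁻¹, ?_, fun hz => hg ?_⟩
    · rw [← hx]
      calc _ = x * (g * P.τ * g⁻¹ * P.τ) * x⁻¹ := by group
        _ = _ := by rw [e]; group
    · obtain ⟨c, e'⟩ := PC.mem_Z.1 hz
      refine (Subgroup.mem_normalizer_iff.1 (h.normalizer_C_le_Z hxC) _).2 ?_
      convert hZ c using 1
      rw [← e', ← hx]; group

end CL.RF
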